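import Cfsg.Agent.M22.CaseBSquare
import Cfsg.Agent.PermChar.PermCor
import Cfsg.Agent.SporadicA.WittSteiner

/-!
# Case B of the group of order 443520: the group is isomorphic to the Mathieu group of degree 22
-/

set_option autoImplicit false
set_option linter.unusedSectionVars false

open Cfsg Subgroup
open scoped ComplexConjugate

namespace Cfsg.Agent.M22.CaseB

open Cfsg.Agent.Characters.Core
open Cfsg.Agent.SporadicA
open Cfsg.Agent.M22.CaseBTable
open Cfsg.Agent.M22.CaseBInvol
open Cfsg.Agent.M22.CaseBSquare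

universe u

variable {G : Type u} [Group G] [Finite G] {f : Fin 12 ≃ IrrCharacter G} (C : Ctx f)

include C

theorem exists_action [Fintype G] : ∃ φ : G →* Equiv.Perm (Fin 22), ∀ g,
    (Nat.card {i // φ g i = i} : ℂ) = 1 + (f 1 : G → ℂ) g := by
  have hG : (Nat.card G : ℂ) ≠ 0 := card_ne_zero_complex
  refine PermChar.PermCor.exists_perm_of_alt_irr_odd (f 1).2 (real1 C) ?_ ?_ 22 ?_ (by norm_num)
    (by decide)
  · intro h
    have h1 := symSq_coeff C
    have h2 : ∑ g, ((f 1 : G → ℂ) g ^ 2 + (f 1 : G → ℂ) (g * g)) / 2 * (f 1 : G → ℂ) g =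
        (∑ g, ((f 1 : G → ℂ) g ^ 2 + (f 1 : G → ℂ) (g * g)) * (f 1 : G → ℂ) g) / 2 := by
      rw [Finset.sum_div]
      exact Finset.sum_congr rfl fun g _ => by ring
    rw [h2, h, zero_div, mul_zero] at h1
    exact zero_ne_one h1
  · have h : (fun g => ((f 1 : G → ℂ) g ^ 2 - (f 1 : G → ℂ) (g * g)) / 2) = (f 7 : G → ℂ) :=
      funext (altSq C)
    rw [h]
    exact (f 7).2
  · rw [apply_one C.deg]
    simp [D]
    norm_num

theorem sum_cube [Fintype G] : ∑ g, (f 1 : G → ℂ) g ^ 3 = Nat.card G := by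
  have hG : (Nat.card G : ℂ) ≠ 0 := card_ne_zero_complex
  have h1 := symSq_coeff C
  have h2 : ∑ g, ((f 1 : G → ℂ) g ^ 2 - (f 1 : G → ℂ) (g * g)) / 2 * (f 1 : G → ℂ) g = 0 := by
    have h3 := classInner_irr_ne (f 7).2 (f 1).2 (fun h => by
      have : f 7 = f 1 := Subtype.ext h
      exact absurd (f.injective this) (by decide))
    rw [classInner_def] at h3
    have h4 := (mul_eq_zero.1 h3).resolve_left (inv_ne_zero hG)
    rw [← h4]
    refine Finset.sum_congr rfl fun g _ => ?_
    rw [altSq C, real1 C]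
  rw [inv_mul_eq_iff_eq_mul₀ hG, mul_one] at h1
  have h5 : ∑ g, (f 1 : G → ℂ) g ^ 3 =
      ∑ g, ((f 1 : G → ℂ) g ^ 2 + (f 1 : G → ℂ) (g * g)) / 2 * (f 1 : G → ℂ) g +
      ∑ g, ((f 1 : G → ℂ) g ^ 2 - (f 1 : G → ℂ) (g * g)) / 2 * (f 1 : G → ℂ) g := by
    rw [← Finset.sum_add_distrib]
    exact Finset.sum_congr rfl fun g _ => by ring
  rw [h5, h1, h2, add_zero]

theorem sum_one [Fintype G] : ∑ g, (f 1 : G → ℂ) g = 0 := by
  have hG : (Nat.card G : ℂ) ≠ 0 := card_ne_zero_complex
  have h3 := classInner_irr_ne (f 1).2 (f 0).2 (fun h => by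
    have : f 1 = f 0 := Subtype.ext h
    exact absurd (f.injective this) (by decide))
  rw [classInner_def] at h3
  have h4 := (mul_eq_zero.1 h3).resolve_left (inv_ne_zero hG)
  rw [← h4]
  refine Finset.sum_congr rfl fun g _ => ?_
  rw [C.f0, (starRingEnd ℂ).map_one, mul_one]

/-- In case B the group is the Mathieu group of degree 22. -/
theorem isoM22 : Cfsg.Spor.IsoM22 G := by
  classical
  have := Fintype.ofFinite G
  have hs := C.simple
  obtain ⟨φ, hφ⟩ := exists_action C
  let _ : MulAction G (Fin 22) := MulAction.compHom (Fin 22) φ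
  have hsmul : ∀ (g : G) (i : Fin 22), g • i = φ g i := fun g i => rfl
  have hfix : ∀ g : G, (((WittSteiner.fix (Fin 22) g).card : ℕ) : ℂ) = 1 + (f 1 : G → ℂ) g := by
    intro g
    rw [← hφ g, WittSteiner.fix, ← Fintype.card_subtype, Nat.card_eq_fintype_card]
    rfl
  have hfix' : ∀ g : G, ((Nat.card (MulAction.fixedBy (Fin 22) g) : ℕ) : ℂ) =
      1 + (f 1 : G → ℂ) g := by
    intro g
    rw [← hφ g]
    rfl
  have hfaith : FaithfulSMul G (Fin 22) := by
    constructor
    intro g h hgh
    have hinj : Function.Injective φ := by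
      rcases IsSimpleGroup.eq_bot_or_eq_top_of_normal φ.ker inferInstance with hk | hk
      · exact (MonoidHom.ker_eq_bot_iff φ).1 hk
      · exfalso
        obtain ⟨t, ht⟩ : ∃ t : G, orderOf t = 2 := by
          have : Fact (Nat.Prime 2) := ⟨Nat.prime_two⟩
          exact exists_prime_orderOf_dvd_card' 2 (by rw [C.card]; norm_num)
        have ht2 : t * t = 1 := by rw [← pow_two, ← ht, pow_orderOf_eq_one]
        have ht1 : t ≠ 1 := by
          rintro rfl
          rw [orderOf_one] at ht
          norm_num at ht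
        have h1 : φ t = 1 := MonoidHom.mem_ker.1 (hk ▸ Subgroup.mem_top t)
        have h2 := hfix' t
        have h3 := hfix' 1
        have h4 : Nat.card (MulAction.fixedBy (Fin 22) t) =
            Nat.card (MulAction.fixedBy (Fin 22) (1 : G)) := by
          have : (MulAction.fixedBy (Fin 22) t) = MulAction.fixedBy (Fin 22) (1 : G) := by
            ext i
            rw [MulAction.mem_fixedBy, MulAction.mem_fixedBy, hsmul, hsmul, h1, map_one]
          rw [this]
        rw [h4, h3, (C.invol ht2 ht1).1, apply_one C.deg] at h2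
        norm_num [D] at h2
    apply hinj
    ext i
    rw [← hsmul, ← hsmul, hgh i]
  have ht : MulAction.IsMultiplyPretransitive G (Fin 22) 3 := by
    apply PermChar.PermCor.isMultiplyPretransitive_of_sum
    have hdf : ∀ n : ℕ, ((n.descFactorial 3 : ℕ) : ℂ) = n * (n - 1) * (n - 2) := by
      intro n
      rcases n with _ | _ | n
      · simp
      · simp
      · simp [Nat.descFactorial_succ]
        ring
    have h1 : ((∑ g : G, (Nat.card (MulAction.fixedBy (Fin 22) g)).descFactorial 3 : ℕ) : ℂ) =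
        (Nat.card G : ℂ) := by
      rw [Nat.cast_sum, Finset.sum_congr rfl fun g _ => by rw [hdf, hfix' g]]
      have h2 : ∑ g : G, (1 + (f 1 : G → ℂ) g) * (1 + (f 1 : G → ℂ) g - 1) *
          (1 + (f 1 : G → ℂ) g - 2) = ∑ g : G, (f 1 : G → ℂ) g ^ 3 - ∑ g : G, (f 1 : G → ℂ) g := by
        rw [← Finset.sum_sub_distrib]
        exact Finset.sum_congr rfl fun g _ => by ring
      rw [h2, sum_cube C, sum_one C, sub_zero]
    exact_mod_cast h1
  refine WittSteiner.isoM22_of_transitive (G := G) (Ω := Fin 22) (by simp) hs C.card ht ?_ ?_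
  · intro t hto _
    have ht2 : t * t = 1 := by rw [← pow_two, ← hto, pow_orderOf_eq_one]
    have ht1 : t ≠ 1 := by
      rintro rfl
      rw [orderOf_one] at hto
      norm_num at hto
    have h := hfix t
    rw [(C.invol ht2 ht1).1] at h
    have h' : (((WittSteiner.fix (Fin 22) t).card : ℕ) : ℂ) = ((6 : ℕ) : ℂ) := by
      rw [h]; norm_num
    exact_mod_cast h'
  · intro u huo
    have hu4 : (u * u) * (u * u) = 1 := by
      have : (u * u) * (u * u) = u ^ 4 := by simp [pow_succ, mul_assoc]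
      rw [this, ← huo, pow_orderOf_eq_one]
    have hu1 : u * u ≠ 1 := by
      intro h
      have h1 : orderOf u ∣ 2 := orderOf_dvd_of_pow_eq_one (by rw [pow_two]; exact h)
      rw [huo] at h1
      norm_num at h1
    obtain ⟨a, b, c, d, ha, hb, hb3, hc, h5, hd, h7, ha4, hb4, hc4, hd4, hn, hdvd⟩ :=
      four C hu4 hu1
    have h := hfix u
    rw [ha] at h
    have hZ : (((WittSteiner.fix (Fin 22) u).card : ℕ) : ℤ) = 1 + a := by exact_mod_cast h
    have ha0 : -1 ≤ a := by
      have : (0 : ℤ) ≤ ((WittSteiner.fix (Fin 22) u).card : ℕ) := Int.natCast_nonneg _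
      omega
    have hgood : a ^ 2 - 5 = 2 * (a - 2 * b + c + d - 2) := by
      have h1 := altSq C u
      rw [ha, (C.invol hu4 hu1).1, h7] at h1
      have h2 : ((a ^ 2 - 5 : ℤ) : ℂ) = ((2 * (a - 2 * b + c + d - 2) : ℤ) : ℂ) := by
        push_cast
        linear_combination 2 * h1
      exact_mod_cast h2
    have ha1 := CaseBSearch.col4_good a b c d _ hn hdvd ha4 hb4 hd4 ha0 hgood
    rw [ha1] at hZ
    have : (WittSteiner.fix (Fin 22) u).card = 2 := by omega
    rw [this]
    norm_num

omit C in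
/-- **Case B.**  A simple group of order 443520 with self-centralising Sylow 11-, 7-, 5-subgroups
with automisers of order 5, 3, 4 and character degrees `LB` is the Mathieu group of degree 22. -/
theorem isoM22_of_degrees [hs : IsSimpleGroup G] (hcard : Nat.card G = 443520)
    [Fact (Nat.Prime 11)] [Fact (Nat.Prime 7)] [Fact (Nat.Prime 5)]
    (P11 : Sylow 11 G) (P7 : Sylow 7 G) (P5 : Sylow 5 G)
    (c11 : centralizer (P11 : Set G) = (P11 : Subgroup G))
    (c7 : centralizer (P7 : Set G) = (P7 : Subgroup G))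
    (c5 : centralizer (P5 : Set G) = (P5 : Subgroup G))
    (e11 : (centralizer (P11 : Set G)).relIndex (normalizer (P11 : Set G)) = 5)
    (e7 : (centralizer (P7 : Set G)).relIndex (normalizer (P7 : Set G)) = 3)
    (e5 : (centralizer (P5 : Set G)).relIndex (normalizer (P5 : Set G)) = 4)
    (f : Fin 12 ≃ IrrCharacter G)
    (hf : ∀ i : Fin 12, charDegree (f i : G → ℂ) = DegreesEnd.LB.getD i 0) :
    Cfsg.Spor.IsoM22 G := by
  have hf' : ∀ i, charDegree (f i : G → ℂ) = D i := by
    intro i
    rw [hf i]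
    revert i
    decide
  exact isoM22 (Ctx.mk' hcard P11 P7 P5 c11 c7 c5 e11 e7 e5 f hf')

end Cfsg.Agent.M22.CaseB
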