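import Cfsg.Agent.M22.NonSelfCent
import Cfsg.Agent.SmallSimple.InvolColumn

/-!
# The Sylow 11-subgroups of a simple group of order 443520

They are self-centralising, with automiser of order 5.
-/

set_option autoImplicit false

namespace Cfsg.Agent.M22.Sylow11

open Cfsg Subgroup Cfsg.Agent.Characters.Core
open Cfsg.Agent.Blocks.Basic (irr_one_eq_charDegree)
open Cfsg.Agent.SmallSimple Cfsg.Agent.SmallSimple.PrimeLocal
open Cfsg.Agent.M22.NonSelfCent

universe u

/-! ### Arithmetic -/

theorem dvd_five : ∀ o < 734, 8064 % (1 + 11 * o) = 0 →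
    o = 0 ∨ o = 1 ∨ o = 5 ∨ o = 13 ∨ o = 61 ∨ o = 733 := by
  decide +kernel

theorem dvd_ten : ∀ o < 734, 4032 % (1 + 11 * o) = 0 →
    o = 0 ∨ o = 1 ∨ o = 5 ∨ o = 13 ∨ o = 61 := by
  decide +kernel

theorem cases_ec {e c o : ℕ} (he : e ∣ 10) (he1 : 1 < e)
    (hn : 443520 = (1 + 11 * o) * (11 * e * c))
    (ho : 2 * c ∣ o.factorial ∨ (o = 1 ∧ c = 1)) :
    (e = 2 ∧ c ≠ 1) ∨ (e = 5 ∧ (c = 1 ∨ c = 12 ∨ c = 56)) ∨ (e = 10 ∧ (c = 6 ∨ c = 28)) := by
  have he' : e = 2 ∨ e = 5 ∨ e = 10 := by
    have h1 : e ≤ 10 := Nat.le_of_dvd (by norm_num) he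
    interval_cases e <;> omega
  rcases he' with rfl | rfl | rfl
  · left
    refine ⟨rfl, ?_⟩
    rintro rfl
    omega
  · right; left
    refine ⟨rfl, ?_⟩
    have h1 : (1 + 11 * o) * c = 8064 := by
      have : (1 + 11 * o) * (11 * 5 * c) = 55 * ((1 + 11 * o) * c) := by ring
      omega
    have h2 : 1 + 11 * o ∣ 8064 := Dvd.intro _ h1
    have h3 := Nat.le_of_dvd (by norm_num) h2
    rcases dvd_five o (by omega) (Nat.mod_eq_zero_of_dvd h2) with
      rfl | rfl | rfl | rfl | rfl | rfl
    · exfalso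
      have hc : c = 8064 := by omega
      subst hc
      rcases ho with h | h
      · revert h; decide
      · omega
    · exfalso
      have hc : c = 672 := by omega
      subst hc
      rcases ho with h | h
      · revert h; decide
      · omega
    · exfalso
      have hc : c = 144 := by omega
      subst hc
      rcases ho with h | h
      · revert h; decide
      · omega
    · omega
    · omega
    · omega
  · right; right
    refine ⟨rfl, ?_⟩
    have h1 : (1 + 11 * o) * c = 4032 := by
      have : (1 + 11 * o) * (11 * 10 * c) = 110 * ((1 + 11 * o) * c) := by ring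
      omega
    have h2 : 1 + 11 * o ∣ 4032 := Dvd.intro _ h1
    have h3 := Nat.le_of_dvd (by norm_num) h2
    rcases dvd_ten o (by omega) (Nat.mod_eq_zero_of_dvd h2) with
      rfl | rfl | rfl | rfl | rfl
    · exfalso
      have hc : c = 4032 := by omega
      subst hc
      rcases ho with h | h
      · revert h; decide
      · omega
    · exfalso
      have hc : c = 336 := by omega
      subst hc
      rcases ho with h | h
      · revert h; decide
      · omega
    · exfalso
      have hc : c = 72 := by omega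
      subst hc
      rcases ho with h | h
      · revert h; decide
      · omega
    · omega
    · omega

/-- Odd degrees: nonexceptional characters. -/
theorem odd_ne {D a : ℕ} (hD : D ∣ 443520) (h2 : ¬ 2 ∣ D) (ha : 2 ≤ a)
    (h : D = 11 * a + 1 ∨ D + 1 = 11 * (a + 1)) : 5 ∣ D ∧ a ≤ 9 := by
  have h1 : D ∣ 3465 := by
    have h3 : Nat.Coprime D (2 ^ 7) :=
      Nat.Coprime.pow_right 7 ((Nat.prime_two.coprime_iff_not_dvd.2 h2).symm)
    have h4 : D ∣ 2 ^ 7 * 3465 := by simpa using hD
    exact h3.dvd_of_dvd_mul_left h4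
  have h5 : D ∈ Nat.divisors 3465 := by rw [Nat.mem_divisors]; exact ⟨h1, by norm_num⟩
  have h6 : Nat.divisors 3465 = {1, 3, 5, 7, 9, 11, 15, 21, 33, 35, 45, 55, 63, 77, 99, 105, 165,
    231, 315, 385, 495, 693, 1155, 3465} := by decide +kernel
  rw [h6] at h5
  simp only [Finset.mem_insert, Finset.mem_singleton] at h5
  omega

/-- Odd degrees: exceptional characters. -/
theorem odd_x {D a e : ℕ} (hD : D ∣ 443520) (h2 : ¬ 2 ∣ D) (ha : 2 ≤ a) (he : e = 5 ∨ e = 10)
    (h : D = 11 * a + e ∨ D + e = 11 * (a + 1)) : 5 ∣ D ∧ a ≤ 9 := by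
  have h1 : D ∣ 3465 := by
    have h3 : Nat.Coprime D (2 ^ 7) :=
      Nat.Coprime.pow_right 7 ((Nat.prime_two.coprime_iff_not_dvd.2 h2).symm)
    have h4 : D ∣ 2 ^ 7 * 3465 := by simpa using hD
    exact h3.dvd_of_dvd_mul_left h4
  have h5 : D ∈ Nat.divisors 3465 := by rw [Nat.mem_divisors]; exact ⟨h1, by norm_num⟩
  have h6 : Nat.divisors 3465 = {1, 3, 5, 7, 9, 11, 15, 21, 33, 35, 45, 55, 63, 77, 99, 105, 165,
    231, 315, 385, 495, 693, 1155, 3465} := by decide +kernel
  rw [h6] at h5
  simp only [Finset.mem_insert, Finset.mem_singleton] at h5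
  rcases he with rfl | rfl <;> omega

theorem two_term : ∀ D < 666, 22 ≤ D → 443520 % D = 0 →
    (D % 11 = 1 → 443520 % (D + 1) ≠ 0) ∧ (D % 11 = 10 → 443520 % (D - 1) ≠ 0) := by
  decide +kernel

variable {G : Type u} [Group G] [Finite G]

/-- A degree divisible by 5 of a character with an odd value pattern. -/
theorem contra_of_five (hcard : Nat.card G = 443520) {t : G}
    (ht5 : 5 ∣ Nat.card (centralizer ({t} : Set G))) {χ : IrrCharacter G} {a m : ℕ}
    (h5 : 5 ∣ charDegree (χ : G → ℂ)) (ha : a ≤ 9) (hm : 0 < m) (hma : 2 * m ≤ a)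
    (hv : (χ : G → ℂ) t = (((charDegree (χ : G → ℂ) : ℤ) - 4 * (11 : ℕ) * m : ℤ) : ℂ)) : False := by
  have h1 := InvolColumn.dvd_index_mul χ.2 hv
  have h2 := (centralizer ({t} : Set G)).card_mul_index
  rw [hcard] at h2
  have h3 : ¬ 5 ∣ (centralizer ({t} : Set G)).index := by
    intro h4
    have h5 : 5 * 5 ∣ 443520 := h2 ▸ Nat.mul_dvd_mul ht5 h4
    revert h5
    decide
  have h6 : (5 : ℤ) ∣ ((centralizer ({t} : Set G)).index : ℤ) *
      ((charDegree (χ : G → ℂ) : ℤ) - 4 * (11 : ℕ) * m) :=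
    (Int.natCast_dvd_natCast.2 h5).trans h1
  have h7 : Prime (5 : ℤ) := Int.prime_iff_natAbs_prime.2 (by norm_num)
  rcases h7.dvd_or_dvd h6 with h8 | h8
  · exact h3 (by exact_mod_cast h8)
  · obtain ⟨k, hk⟩ := h5
    rw [hk] at h8
    push_cast at h8
    omega

theorem sq_le (χ : IrrCharacter G) : charDegree (χ : G → ℂ) ^ 2 ≤ Nat.card G := by
  classical
  have hfin : Finite (IrrCharacter G) := finite_irr
  have := Fintype.ofFinite (IrrCharacter G)
  have hsq : ∑ χ : IrrCharacter G, charDegree (χ : G → ℂ) ^ 2 = Nat.card G := by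
    have h := Cfsg.Agent.CharDeep.PowerDegrees.sum_sq (G := G)
    have h2 : ∑ χ : IrrCharacter G, (χ : G → ℂ) 1 ^ 2 =
        ((∑ χ : IrrCharacter G, charDegree (χ : G → ℂ) ^ 2 : ℕ) : ℂ) := by
      push_cast
      refine Finset.sum_congr rfl fun χ _ => ?_
      rw [irr_one_eq_charDegree χ.2]
    rw [h2] at h
    exact_mod_cast h
  rw [← hsq]
  exact Finset.single_le_sum (f := fun χ : IrrCharacter G => charDegree (χ : G → ℂ) ^ 2)
    (fun _ _ => Nat.zero_le _) (Finset.mem_univ χ)

/-- The Sylow 11-subgroups. -/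
theorem sylow_eleven [IsSimpleGroup G] (hcard : Nat.card G = 443520) [Fact (Nat.Prime 11)]
    (P : Sylow 11 G) :
    centralizer (P : Set G) = (P : Subgroup G) ∧
      (centralizer (P : Set G)).relIndex (normalizer (P : Set G)) = 5 := by
  classical
  have hG : ¬ (Nat.card G).Prime := by rw [hcard]; norm_num
  have hGc : ¬ IsMulCommutative G := by
    intro h
    obtain ⟨a, b, hab⟩ := not_comm_of_not_prime hG
    exact hab (h.is_comm.comm a b)
  have hP : Nat.card P = 11 := Degrees.card_sylow_eq (m := 40320) (by rw [hcard]) (by norm_num) P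
  obtain ⟨e, K, hloc⟩ := exists_local hGc (p := 11) (by rw [hcard]; norm_num)
    (by rw [hcard]; norm_num) P
  obtain ⟨o, ho1, ho2⟩ := hloc.card_sylow hGc (by norm_num) hP
  have heq := hloc.card_eq
  rw [hcard, ho1] at heq
  have hec := cases_ec hloc.dvd_pred hloc.one_lt heq ho2
  have hrel : (centralizer (P : Set G)).relIndex (normalizer (P : Set G)) = e := by
    have h1 : Nat.card (normalizer (P : Set G)) = Nat.card (centralizer (P : Set G)) *
        (centralizer (P : Set G)).relIndex (normalizer (P : Set G)) :=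
      BurnsideNC.card_normalizer_eq (P : Subgroup G)
    have h2 := hloc.card_normalizer
    have h3 := hloc.card_centralizer
    rw [h1, h3] at h2
    have h4 : 0 < Nat.card K := Nat.card_pos
    have h5 : 11 * Nat.card K * (centralizer (P : Set G)).relIndex (normalizer (P : Set G)) =
        11 * Nat.card K * e := by rw [h2]; ring
    exact Nat.eq_of_mul_eq_mul_left (by omega) h5
  -- the case `K = 1`
  by_cases hc1 : Nat.card K = 1
  · have he5 : e = 5 := by omega
    refine ⟨?_, by rw [hrel, he5]⟩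
    have h3 := hloc.card_centralizer
    rw [hc1, mul_one] at h3
    have h4 : (P : Subgroup G) ≤ centralizer (P : Set G) := by
      intro x hx
      rw [mem_centralizer_iff]
      intro y hy
      exact comm_of_card_prime (by norm_num) (P : Subgroup G) hP y hy x hx
    exact (Subgroup.eq_of_le_of_card_ge h4 (by rw [h3]; exact hP.ge)).symm
  exfalso
  have hKne : K ≠ ⊥ := by
    intro h
    rw [h, Subgroup.card_bot] at hc1
    exact hc1 rfl
  have hcop : Nat.Coprime 11 (Nat.card K) :=
    (Nat.Prime.coprime_iff_not_dvd (by norm_num)).2 hloc.not_dvd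
  have hte : e * (10 / e) = 11 - 1 := by
    rcases hec with ⟨rfl, -⟩ | ⟨rfl, -⟩ | ⟨rfl, -⟩ <;> norm_num
  obtain ⟨NE, X, ε, d, B⟩ := exists_kblock hG 11 (by norm_num) P hP e (10 / e) hrel hte
  have hX : X.Nonempty := by
    rw [← Finset.card_pos, B.card_X]
    rcases hec with ⟨rfl, -⟩ | ⟨rfl, -⟩ | ⟨rfl, -⟩ <;> norm_num
  obtain ⟨Θ, hΘ⟩ := hX
  have hrel1 := B.rel_one Θ hΘ
  have hdvd : ∀ χ : IrrCharacter G, charDegree (χ : G → ℂ) ∣ 443520 := fun χ =>
    hcard ▸ Cfsg.Agent.Blocks.Knorr.charDegree_dvd χ.2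
  have hone : charDegree (((⟨1, isIrr_one⟩ : IrrCharacter G)) : G → ℂ) = 1 := by
    apply Cfsg.Agent.Blocks.Basic.charDegree_of_eq
    simp
  rw [← Finset.add_sum_erase NE _ B.one_mem, B.eps_one, hone] at hrel1
  have hNEd := B.ne_data K hloc.le_centralizer hcop hKne
  have hXd := B.x_data K hloc.le_centralizer hcop hKne
  by_cases he2 : e = 2
  · -- two-term relations
    subst he2
    have h1 : (NE.erase ⟨1, isIrr_one⟩).card = 1 := by
      rw [Finset.card_erase_of_mem B.one_mem, B.card_NE]
    obtain ⟨χ, hχ⟩ := Finset.card_eq_one.1 h1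
    rw [hχ, Finset.sum_singleton] at hrel1
    have hχ' : χ ∈ NE.erase ⟨1, isIrr_one⟩ := by rw [hχ]; exact Finset.mem_singleton_self χ
    obtain ⟨a, ha, hdeg, -⟩ := hNEd χ (Finset.mem_of_mem_erase hχ') (Finset.ne_of_mem_erase hχ')
    have hlt : charDegree (χ : G → ℂ) < 666 := by
      have h2 := sq_le χ
      rw [hcard] at h2
      nlinarith
    have hDd := hdvd χ
    have hFd := hdvd Θ
    have hpos : 0 < charDegree (Θ : G → ℂ) := Nat.pos_of_dvd_of_pos hFd (by norm_num)
    generalize charDegree (χ : G → ℂ) = D at *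
    generalize charDegree (Θ : G → ℂ) = F at *
    have h3 := two_term D hlt (by omega) (Nat.mod_eq_zero_of_dvd hDd)
    rcases hdeg with ⟨hε, hdeg⟩ | ⟨hε, hdeg⟩
    · rw [hε] at hrel1
      have h4 : F = D + 1 := by
        rcases B.hd with hd | hd <;> rw [hd] at hrel1 <;> push_cast at hrel1 <;> omega
      rw [h4] at hFd
      exact h3.1 (by omega) (Nat.mod_eq_zero_of_dvd hFd)
    · rw [hε] at hrel1
      have h4 : F = D - 1 := by
        rcases B.hd with hd | hd <;> rw [hd] at hrel1 <;> push_cast at hrel1 <;> omega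
      rw [h4] at hFd
      exact h3.2 (by omega) (Nat.mod_eq_zero_of_dvd hFd)
  · -- an involution centralised by an element of order 5
    have he5 : e = 5 ∨ e = 10 := by omega
    have hc : Nat.card K = 6 ∨ Nat.card K = 12 ∨ Nat.card K = 28 ∨ Nat.card K = 56 := by omega
    have : Fact (Nat.Prime 5) := ⟨by norm_num⟩
    have h5N : 5 ∣ Nat.card (normalizer (P : Set G)) := by
      rw [hloc.card_normalizer]
      rcases he5 with rfl | rfl
      · exact ⟨11 * Nat.card K, by ring⟩
      · exact ⟨22 * Nat.card K, by ring⟩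
    obtain ⟨f, hf⟩ := exists_prime_orderOf_dvd_card' (G := normalizer (P : Set G)) 5 h5N
    have hf' : orderOf (f : G) = 5 := by rw [Subgroup.orderOf_coe, hf]
    obtain ⟨t, htK, ht2, htf⟩ := exists_commuting (q := 5) (r := 2) K (hloc.normalizer_le f.2) hf'
      (by rcases hc with h | h | h | h <;> rw [h] <;> norm_num)
      (by rcases hc with h | h | h | h <;> rw [h] <;> norm_num)
      (by
        intro j hj hjK
        have hj3 : j ≤ 3 := by
          by_contra hcon
          have h1 : 2 ^ 4 ∣ Nat.card K := (pow_dvd_pow 2 (by omega)).trans hjK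
          rcases hc with h | h | h | h <;> rw [h] at h1 <;> revert h1 <;> decide
        interval_cases j <;> decide)
    have htt : t * t = 1 := by
      have h1 := pow_orderOf_eq_one t
      rwa [ht2, pow_two] at h1
    have ht1 : t ≠ 1 := by
      rintro rfl
      rw [orderOf_one] at ht2
      omega
    have ht5 : 5 ∣ Nat.card (centralizer ({t} : Set G)) := by
      rw [← hf']
      have h1 : (f : G) ∈ centralizer ({t} : Set G) := by
        rw [mem_centralizer_iff]
        intro y hy
        rw [Set.mem_singleton_iff.1 hy]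
        exact htf.symm
      rw [← Subgroup.orderOf_mk (f : G) h1]
      exact orderOf_dvd_natCard _
    -- parity
    by_cases hodd : 2 ∣ charDegree (Θ : G → ℂ)
    · have hex : ∃ χ ∈ NE.erase ⟨1, isIrr_one⟩, ¬ 2 ∣ charDegree (χ : G → ℂ) := by
        by_contra hcon
        push Not at hcon
        have h1 : (2 : ℤ) ∣ ∑ χ ∈ NE.erase ⟨1, isIrr_one⟩,
            ε χ * (charDegree (χ : G → ℂ) : ℤ) := by
          apply Finset.dvd_sum
          intro χ hχ
          exact Dvd.dvd.mul_left (by exact_mod_cast hcon χ hχ) _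
        have h2 : (2 : ℤ) ∣ d * (charDegree (Θ : G → ℂ) : ℤ) :=
          Dvd.dvd.mul_left (by exact_mod_cast hodd) _
        rw [← hrel1] at h2
        have h3 := (Int.dvd_add_left h1).1 h2
        revert h3
        decide
      obtain ⟨χ, hχ, hχ2⟩ := hex
      obtain ⟨a, ha, hdeg, hinv⟩ :=
        hNEd χ (Finset.mem_of_mem_erase hχ) (Finset.ne_of_mem_erase hχ)
      obtain ⟨m, hm, hma, hv⟩ := hinv t htK htt ht1
      obtain ⟨h5, ha9⟩ := odd_ne (hdvd χ) hχ2 ha (by
        rcases hdeg with h | h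
        · exact Or.inl h.2
        · exact Or.inr h.2)
      exact contra_of_five hcard ht5 h5 ha9 hm hma hv
    · obtain ⟨a, ha, hdeg, hinv⟩ := hXd Θ hΘ
      obtain ⟨m, hm, hma, hv⟩ := hinv t htK htt ht1
      obtain ⟨h5, ha9⟩ := odd_x (hdvd Θ) hodd ha he5 (by
        rcases hdeg with h | h
        · exact Or.inl h.2
        · exact Or.inr h.2)
      exact contra_of_five hcard ht5 h5 ha9 hm hma hv

end Cfsg.Agent.M22.Sylow11
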