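import Cfsg.Agent.M22.KillACD
import Cfsg.Agent.M22.CaseB
import Cfsg.Agent.M22.Sylow11

/-!
# Simple groups of order 443520: assembly modulo the Sylow 7- and 5-subgroups
-/

set_option autoImplicit false

namespace Cfsg.Agent.M22.Final

open Cfsg Subgroup

universe u

theorem isoM22_of_sylow {G : Type u} [Group G] [Finite G] [IsSimpleGroup G]
    (hcard : Nat.card G = 443520)
    (h7 : ∀ P : Sylow 7 G, centralizer (P : Set G) = (P : Subgroup G) ∧
      (centralizer (P : Set G)).relIndex (normalizer (P : Set G)) = 3)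
    (h5 : ∀ P : Sylow 5 G, centralizer (P : Set G) = (P : Subgroup G) ∧
      (centralizer (P : Set G)).relIndex (normalizer (P : Set G)) = 4) :
    Cfsg.Spor.IsoM22 G := by
  have : Fact (Nat.Prime 11) := ⟨by norm_num⟩
  have : Fact (Nat.Prime 7) := ⟨by norm_num⟩
  have : Fact (Nat.Prime 5) := ⟨by norm_num⟩
  obtain ⟨P11⟩ : Nonempty (Sylow 11 G) := inferInstance
  obtain ⟨P7⟩ : Nonempty (Sylow 7 G) := inferInstance
  obtain ⟨P5⟩ : Nonempty (Sylow 5 G) := inferInstance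
  obtain ⟨c11, e11⟩ := Sylow11.sylow_eleven hcard P11
  obtain ⟨c7, e7⟩ := h7 P7
  obtain ⟨c5, e5⟩ := h5 P5
  obtain ⟨f, hf⟩ := KillACD.exists_enum_B hcard P11 P7 P5 c11 c7 c5 e11 e7 e5
  exact CaseB.isoM22_of_degrees hcard P11 P7 P5 c11 c7 c5 e11 e7 e5 f hf

end Cfsg.Agent.M22.Final
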