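import Cfsg.Agent.M22.SevenTools

/-!
# Subgroups with eight Sylow 7-subgroups
-/

set_option autoImplicit false

namespace Cfsg.Agent.M22.SevenEight

open Cfsg Subgroup MulAction
open Cfsg.Agent.SmallSimple Cfsg.Agent.SmallSimple.PrimeLocal

universe u

variable {G : Type u} [Group G] [Finite G]

omit [Finite G] in
theorem pow_seven (P : Sylow 7 G) (hP : Nat.card P = 7) {z : G}
    (hz : z ∈ (P : Subgroup G)) : z ^ 7 = 1 := by
  have h1 := pow_card_eq_one' (x := (⟨z, hz⟩ : (P : Subgroup G)))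
  rw [show Nat.card (P : Subgroup G) = 7 from hP] at h1
  exact congrArg Subtype.val h1

omit [Finite G] in
/-- A 7-element normalising `P` is in `P`. -/
theorem mem_of_pow_seven [Fact (Nat.Prime 7)] (P : Sylow 7 G) {x : G} (hx : x ^ 7 = 1)
    (hxN : x ∈ normalizer (P : Set G)) : x ∈ (P : Subgroup G) := by
  have hp : IsPGroup 7 (zpowers x) := by
    rw [IsPGroup.iff_orderOf]
    rintro ⟨g, hg⟩
    obtain ⟨k, rfl⟩ := Subgroup.mem_zpowers_iff.1 hg
    rw [Subgroup.orderOf_mk]
    have h1 : orderOf (x ^ k) ∣ 7 ^ 1 := by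
      rw [pow_one]
      apply orderOf_dvd_of_pow_eq_one
      rw [← zpow_natCast, ← zpow_mul, mul_comm, zpow_mul, zpow_natCast, hx, one_zpow]
    obtain ⟨j, -, hj⟩ := (Nat.dvd_prime_pow (by norm_num)).1 h1
    exact ⟨j, hj⟩
  have h7 : zpowers x ⊔ (P : Subgroup G) = (P : Subgroup G) := by
    have hpg : IsPGroup 7 (zpowers x ⊔ (P : Subgroup G) : Subgroup G) :=
      hp.to_sup_of_normal_right' P.isPGroup' (zpowers_le.2 hxN)
    exact P.3 hpg le_sup_right
  rw [← h7]
  exact (le_sup_left : zpowers x ≤ _) (mem_zpowers x)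

/-- If a nontrivial element of `P` is conjugated into `N(P)` by `a` then `a ∈ N(P)`. -/
theorem mem_normalizer_of_conj [Fact (Nat.Prime 7)] (P : Sylow 7 G) (hP : Nat.card P = 7)
    {z a : G} (hz : z ∈ (P : Subgroup G)) (hz1 : z ≠ 1)
    (h : a⁻¹ * z * a ∈ normalizer (P : Set G)) : a ∈ normalizer (P : Set G) := by
  have hP' : Nat.card (P : Subgroup G) = 7 := hP
  have hz7 : z ^ 7 = 1 := pow_seven P hP hz
  have h2 : a⁻¹ * z * a ∈ (P : Subgroup G) := by
    apply mem_of_pow_seven P _ h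
    have : (a⁻¹ * z * a) ^ 7 = a⁻¹ * z ^ 7 * a := by
      have := conj_pow (a := a⁻¹) (b := z) (i := 7)
      rwa [inv_inv] at this
    rw [this, hz7]; group
  have h3 : a⁻¹ ∈ normalizer (P : Set G) := by
    have : Finite (P : Subgroup G) := inferInstance
    have h4 : ∀ y ∈ (P : Subgroup G), a⁻¹ * y * a⁻¹⁻¹ ∈ (P : Subgroup G) := by
      intro y hy
      have h5 : (⟨y, hy⟩ : (P : Subgroup G)) ∈ zpowers (⟨z, hz⟩ : (P : Subgroup G)) :=
        mem_zpowers_of_prime_card hP' (by simpa [Subtype.ext_iff] using hz1)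
      obtain ⟨k, hk⟩ := mem_zpowers_iff.1 h5
      have h6 : z ^ k = y := by simpa [Subtype.ext_iff] using hk
      rw [← h6, ← conj_zpow, inv_inv]
      exact zpow_mem h2 k
    change a⁻¹ ∈ normalizer ((P : Subgroup G) : Set G)
    rw [← Simple168Klein.map_conj_eq_iff_mem_normalizer]
    apply Subgroup.eq_of_le_of_card_ge
    · rintro _ ⟨y, hy, rfl⟩
      exact h4 y hy
    · rw [Simple168Klein.card_map_conj]
  exact (inv_mem_iff (H := normalizer (P : Set G))).1 h3

/-- `P` is transitive on the nontrivial cosets of `N_H(P)` if there are eight Sylow subgroups. -/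
theorem exists_trans [Fact (Nat.Prime 7)] (P : Sylow 7 G) (hP : Nat.card P = 7)
    {H : Subgroup G} (hPH : (P : Subgroup G) ≤ H)
    (h8 : 8 * Nat.card (H ⊓ normalizer (P : Set G) : Subgroup G) = Nat.card H) {a b : G}
    (ha : a ∈ H) (hb : b ∈ H) (haN : a ∉ normalizer (P : Set G))
    (hbN : b ∉ normalizer (P : Set G)) :
    ∃ z ∈ (P : Subgroup G), b⁻¹ * z * a ∈ normalizer (P : Set G) := by
  classical
  let N' : Subgroup H := (normalizer (P : Set G)).subgroupOf H
  have hΩ : Nat.card (H ⧸ N') = 8 := by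
    have h1 := N'.card_eq_card_quotient_mul_card_subgroup
    have h2 : Nat.card N' = Nat.card (H ⊓ normalizer (P : Set G) : Subgroup G) := by
      have h3 : N' = (H ⊓ normalizer (P : Set G)).subgroupOf H := by
        rw [Subgroup.inf_subgroupOf_left]
      rw [h3]
      exact Nat.card_congr (subgroupOfEquivOfLe inf_le_left).toEquiv
    rw [h2, ← h8] at h1
    exact (Nat.eq_of_mul_eq_mul_right Nat.card_pos h1).symm
  let f : P → {ω : H ⧸ N' // ω ≠ ((1 : H) : H ⧸ N')} := fun z =>
    ⟨((⟨z, hPH z.2⟩ * ⟨a, ha⟩ : H) : H ⧸ N'), by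
      intro h
      rw [eq_comm, QuotientGroup.eq] at h
      have h1 : (z : G) * a ∈ normalizer (P : Set G) := by
        have := Subgroup.mem_subgroupOf.1 h
        simpa using this
      apply haN
      have h2 : a = (z : G)⁻¹ * (z * a) := by group
      rw [h2]
      exact mul_mem (inv_mem (le_normalizer z.2)) h1⟩
  have hf : Function.Injective f := by
    intro z w h
    have h1 : ((⟨z, hPH z.2⟩ * ⟨a, ha⟩ : H) : H ⧸ N') = ((⟨w, hPH w.2⟩ * ⟨a, ha⟩ : H) : H ⧸ N') :=
      congrArg Subtype.val h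
    rw [QuotientGroup.eq] at h1
    have h2 : ((z : G) * a)⁻¹ * (w * a) ∈ normalizer (P : Set G) := Subgroup.mem_subgroupOf.1 h1
    by_contra hne
    apply haN
    refine mem_normalizer_of_conj P hP (z := (z : G)⁻¹ * w) (mul_mem (inv_mem z.2) w.2) ?_ ?_
    · intro h3
      rw [inv_mul_eq_one] at h3
      exact hne (Subtype.ext h3)
    · have h4 : a⁻¹ * ((z : G)⁻¹ * w) * a = ((z : G) * a)⁻¹ * (w * a) := by group
      rw [h4]; exact h2
  have hcard : Nat.card {ω : H ⧸ N' // ω ≠ ((1 : H) : H ⧸ N')} = 7 := by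
    have := Fintype.ofFinite (H ⧸ N')
    rw [Nat.card_eq_fintype_card, Fintype.card_subtype_compl, Fintype.card_subtype_eq,
      ← Nat.card_eq_fintype_card, hΩ]
  have hbij := hf.bijective_of_nat_card_le (by rw [hcard]; exact hP.ge)
  have hb1 : ((⟨b, hb⟩ : H) : H ⧸ N') ≠ ((1 : H) : H ⧸ N') := by
    intro h
    rw [eq_comm, QuotientGroup.eq] at h
    apply hbN
    have := Subgroup.mem_subgroupOf.1 h
    simpa using this
  obtain ⟨z, hz⟩ := hbij.2 ⟨_, hb1⟩
  refine ⟨z, z.2, ?_⟩
  have h1 : ((⟨z, hPH z.2⟩ * ⟨a, ha⟩ : H) : H ⧸ N') = ((⟨b, hb⟩ : H) : H ⧸ N') :=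
    congrArg Subtype.val hz
  rw [eq_comm, QuotientGroup.eq] at h1
  have h2 := Subgroup.mem_subgroupOf.1 h1
  have h3 : b⁻¹ * ((z : G) * a) ∈ normalizer (P : Set G) := h2
  rwa [← mul_assoc] at h3

/-- `K` is normal in every `H ≥ P K` with eight Sylow 7-subgroups. -/
theorem le_normalizer_of_eight [Fact (Nat.Prime 7)] (P : Sylow 7 G) (hP : Nat.card P = 7)
    {e : ℕ} {K : Subgroup G} (hloc : IsLocal 7 P e K)
    {H : Subgroup G} (hPH : (P : Subgroup G) ≤ H) (hKH : K ≤ H)
    (h8 : 8 * Nat.card (H ⊓ normalizer (P : Set G) : Subgroup G) = Nat.card H) :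
    H ≤ normalizer (K : Set G) := by
  classical
  have hP' : Nat.card (P : Subgroup G) = 7 := hP
  have hKN : K ≤ normalizer (P : Set G) := hloc.le_centralizer.trans
    (SylowPrimeCount.centralizer_le_normalizer' (P : Subgroup G))
  have hz7 : ∀ z ∈ (P : Subgroup G), z ^ 7 = 1 := fun z hz => pow_seven P hP hz
  -- `K` is in the core
  have hcore1 : ∀ k ∈ K, ∀ h ∈ H, h⁻¹ * k * h ∈ normalizer (P : Set G) := by
    intro k hk h hh
    by_cases hhN : h ∈ normalizer (P : Set G)
    · exact mul_mem (mul_mem (inv_mem hhN) (hKN hk)) hhN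
    have hkh : k * h ∉ normalizer (P : Set G) := fun h1 => hhN (by
      have h2 : h = k⁻¹ * (k * h) := by group
      rw [h2]
      exact mul_mem (inv_mem (hKN hk)) h1)
    obtain ⟨z, hz, hzn⟩ := exists_trans P hP hPH h8 hh (mul_mem (hKH hk) hh) hhN hkh
    -- the coset of `h`
    let ω : G ⧸ normalizer (P : Set G) := (h : G)
    have h1 : k • ω = z • ω := by
      change ((k * h : G) : G ⧸ normalizer (P : Set G)) = ((z * h : G) : _)
      rw [QuotientGroup.eq, ← mul_assoc]
      exact hzn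
    have hcomm : Commute k z := hloc.comm k hk z hz
    have h2 : ∀ i : ℕ, k ^ i • ω = z ^ i • ω := by
      intro i
      induction i with
      | zero => simp
      | succ i ih =>
        rw [pow_succ', mul_smul, ih, ← mul_smul, (hcomm.pow_right i).eq, mul_smul, h1,
          ← mul_smul, ← pow_succ]
    have h3 : z ^ Nat.card K • ω = ω := by
      rw [← h2]
      have h4 : k ^ Nat.card K = 1 := ((hloc.mem_iff k).1 hk).2
      rw [h4, one_smul]
    have h4 : z ^ Nat.card K = 1 := by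
      by_contra hne
      apply hhN
      refine mem_normalizer_of_conj P hP (z := z ^ Nat.card K) (pow_mem hz _) hne ?_
      have h5 : ((z ^ Nat.card K * h : G) : G ⧸ normalizer (P : Set G)) = (h : G) := h3
      rw [eq_comm, QuotientGroup.eq, ← mul_assoc] at h5
      exact h5
    have h5 : z = 1 := by
      have h6 : orderOf z ∣ 7 := orderOf_dvd_of_pow_eq_one (hz7 z hz)
      have h7 : orderOf z ∣ Nat.card K := orderOf_dvd_of_pow_eq_one h4
      have h8 : Nat.Coprime 7 (Nat.card K) :=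
        (Nat.Prime.coprime_iff_not_dvd (by norm_num)).2 hloc.not_dvd
      exact orderOf_eq_one_iff.1 (Nat.eq_one_of_dvd_coprimes h8 h6 h7)
    rw [h5, one_smul] at h1
    have h6 : ((k * h : G) : G ⧸ normalizer (P : Set G)) = (h : G) := h1
    rw [eq_comm, QuotientGroup.eq, ← mul_assoc] at h6
    exact h6
  -- the core is `K`
  have hcore2 : ∀ x ∈ H, (∀ h ∈ H, h⁻¹ * x * h ∈ normalizer (P : Set G)) → x ∈ K := by
    intro x hx hxc
    have hxN : x ∈ normalizer (P : Set G) := by simpa using hxc 1 H.one_mem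
    have hHN : ¬ H ≤ normalizer (P : Set G) := by
      intro h
      rw [inf_eq_left.2 h] at h8
      have : 0 < Nat.card H := Nat.card_pos
      omega
    -- elements of the core of order dividing 7 are trivial
    have key : ∀ w : G, w ^ 7 = 1 → (∀ h ∈ H, h⁻¹ * w * h ∈ normalizer (P : Set G)) → w = 1 := by
      intro w hw7 hw
      by_contra hne
      apply hHN
      intro h hh
      refine mem_normalizer_of_conj P hP (z := w) ?_ hne (hw h hh)
      exact mem_of_pow_seven P hw7 (by simpa using hw 1 H.one_mem)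
    have h7 : ¬ 7 ∣ orderOf x := by
      rintro ⟨m, hm⟩
      have hm0 : m ≠ 0 := by
        rintro rfl
        have := orderOf_pos x
        omega
      have h1 : x ^ m = 1 := by
        apply key
        · rw [← pow_mul, mul_comm, ← hm, pow_orderOf_eq_one]
        · intro h hh
          have h2 : h⁻¹ * x ^ m * h = (h⁻¹ * x * h) ^ m := by
            have := conj_pow (a := h⁻¹) (b := x) (i := m)
            rw [inv_inv] at this
            exact this.symm
          rw [h2]
          exact pow_mem (hxc h hh) m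
      have h2 := orderOf_dvd_of_pow_eq_one h1
      rw [hm] at h2
      have := Nat.le_of_dvd (Nat.pos_of_ne_zero hm0) h2
      omega
    apply hloc.mem_of_coprime x _ h7
    rw [mem_centralizer_iff]
    intro z hz
    have hzP : z ∈ (P : Subgroup G) := hz
    have h1 : x * z * x⁻¹ ∈ (P : Subgroup G) := (mem_normalizer_iff.1 hxN z).1 hzP
    have h2 : z⁻¹ * (x * z * x⁻¹) = 1 := by
      apply key _ (hz7 _ (mul_mem (inv_mem hzP) h1))
      intro h hh
      have h3 : h⁻¹ * (z⁻¹ * (x * z * x⁻¹)) * h =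
          ((z * h)⁻¹ * x * (z * h)) * (h⁻¹ * x * h)⁻¹ := by group
      rw [h3]
      exact mul_mem (hxc _ (mul_mem (hPH hzP) hh)) (inv_mem (hxc h hh))
    have h3 : x * z * x⁻¹ = z := by
      rw [inv_mul_eq_one] at h2
      exact h2.symm
    calc z * x = x * z * x⁻¹ * x := by rw [h3]
      _ = x * z := by group
  intro h hh
  rw [← Simple168Klein.map_conj_eq_iff_mem_normalizer]
  apply Subgroup.eq_of_le_of_card_ge
  · rintro _ ⟨k, hk, rfl⟩
    change h * k * h⁻¹ ∈ K
    apply hcore2 _ (mul_mem (mul_mem hh (hKH hk)) (inv_mem hh))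
    intro g hg
    have h1 : g⁻¹ * (h * k * h⁻¹) * g = (h⁻¹ * g)⁻¹ * k * (h⁻¹ * g) := by group
    rw [h1]
    exact hcore1 k hk _ (mul_mem (inv_mem hh) hg)
  · rw [Simple168Klein.card_map_conj]

/-- **Tool K** for `G ⧸ H` with `N(P) ≤ H`. -/
theorem exists_index [IsSimpleGroup G] (hG : ¬ IsMulCommutative G) [Fact (Nat.Prime 7)]
    (P : Sylow 7 G) (hP : Nat.card P = 7) {e : ℕ} {K : Subgroup G} (hloc : IsLocal 7 P e K)
    {H : Subgroup G} (hNH : normalizer (P : Set G) ≤ H) (hH : H ≠ ⊤) :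
    ∃ o : ℕ, H.index = 1 + 7 * o ∧
      (2 * Nat.card K ∣ o.factorial ∨ (o ≤ 1 ∧ Nat.card K = 1)) := by
  have hP' : Nat.card (P : Subgroup G) = 7 := hP
  have hPH : (P : Subgroup G) ≤ H := le_trans le_normalizer hNH
  -- a generator of `P`
  obtain ⟨x, hx⟩ := exists_prime_orderOf_dvd_card' (G := (P : Subgroup G)) 7 (by rw [hP'])
  have hxP : (x : G) ∈ (P : Subgroup G) := x.2
  have hx1 : (x : G) ≠ 1 := by
    intro h
    have h' : x = 1 := Subtype.ext h
    rw [h', orderOf_one] at hx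
    omega
  have hfix : ∀ ω : G ⧸ H, (∀ y ∈ (P : Subgroup G), y • ω = ω) → ω = ((1 : G) : G ⧸ H) := by
    intro ω hω
    induction ω using QuotientGroup.induction_on with
    | H g =>
      have h1 : g⁻¹ * x * g ∈ H := by
        have h2 : (((x : G) * g : G) : G ⧸ H) = (g : G ⧸ H) := hω x hxP
        have h3 := QuotientGroup.eq.1 h2.symm
        rwa [← mul_assoc] at h3
      have h7 : (g⁻¹ * (x : G) * g) ^ 7 = 1 := by
        have h8 : (g⁻¹ * (x : G) * g) ^ 7 = g⁻¹ * (x : G) ^ 7 * g := by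
          have := conj_pow (a := g⁻¹) (b := (x : G)) (i := 7)
          rwa [inv_inv] at this
        rw [h8, pow_seven P hP hxP]; group
      obtain ⟨h, hh, z, hz, hzeq⟩ := RelSylow.exists_conj_of_pow_eq_one P H hPH h1 h7
      have h8 : g * h ∈ normalizer (P : Set G) := by
        apply mem_normalizer_of_conj P hP hxP hx1
        have h9 : (g * h)⁻¹ * (x : G) * (g * h) = z := by
          calc (g * h)⁻¹ * (x : G) * (g * h) = h⁻¹ * (g⁻¹ * x * g) * h := by group
            _ = h⁻¹ * (h * z * h⁻¹) * h := by rw [hzeq]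
            _ = z := by group
        rw [h9]
        exact le_normalizer hz
      have h9 : g ∈ H := by
        have h10 : g = (g * h) * h⁻¹ := by group
        rw [h10]
        exact mul_mem (hNH h8) (inv_mem hh)
      rw [eq_comm, QuotientGroup.eq, inv_one, one_mul]
      exact h9
  have hbase : ∀ y ∈ (P : Subgroup G), y • ((1 : G) : G ⧸ H) = ((1 : G) : G ⧸ H) := by
    intro y hy
    change ((y * 1 : G) : G ⧸ H) = ((1 : G) : G ⧸ H)
    rw [mul_one, eq_comm, QuotientGroup.eq, inv_one, one_mul]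
    exact hPH hy
  obtain ⟨o, ho1, ho2⟩ := OrbitSign.card_dvd_of_commute (Ω := G ⧸ H) hG
    (faithful_quotient H hH) (P : Subgroup G) K
    (by rw [hP']; decide) hloc.comm
    (by rw [hP']; exact (((Nat.Prime.coprime_iff_not_dvd (by norm_num)).2 hloc.not_dvd)).symm)
    (fun ω ω' hω hω' => by rw [hfix ω hω, hfix ω' hω'])
    (fun ω hω => eq_one_of_moved (by norm_num) hP' hω)
  refine ⟨o, ?_, ho2⟩
  have h1 : Nat.card {ω : G ⧸ H // ∀ y ∈ (P : Subgroup G), y • ω = ω} = 1 := by
    rw [Nat.card_eq_one_iff_unique]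
    exact ⟨⟨fun a b => Subtype.ext (by rw [hfix _ a.2, hfix _ b.2])⟩, ⟨⟨_, hbase⟩⟩⟩
  rw [h1, hP'] at ho1
  exact ho1

end Cfsg.Agent.M22.SevenEight
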