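import Cfsg.Agent.M22.SixFourQuot
import Cfsg.Agent.M22.SevenEight
import Cfsg.Agent.SmallSimple.KleinFourAut
import Cfsg.Agent.SmallSimple.BurnsideNC

/-!
# The case `(e, |K|) = (6, 4)`: the structure of `C(K)`
-/

set_option autoImplicit false

namespace Cfsg.Agent.M22.SixFourB

open Cfsg Subgroup MulAction
open Cfsg.Agent.SmallSimple Cfsg.Agent.SmallSimple.PrimeLocal
open Cfsg.Agent.SmallSimple.Simple168Klein
open Cfsg.Agent.M22.SevenEight Cfsg.Agent.M22.SevenTools

universe u

variable {G : Type u} [Group G] [Finite G]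

/-- Orders. -/
theorem card_eq {K : Subgroup G} (hK : Nat.card K = 4)
    (hM : Nat.card (normalizer (K : Set G)) = 1344)
    {T₂ : Subgroup G} (hT₂ : T₂ ≤ normalizer (K : Set G)) (h64 : Nat.card T₂ = 64)
    (hnc : ¬ T₂ ≤ centralizer (K : Set G)) :
    Nat.card (T₂ ⊓ centralizer (K : Set G) : Subgroup G) = 32 ∧
      (Nat.card (centralizer (K : Set G)) = 672 ∨ Nat.card (centralizer (K : Set G)) = 224) := by
  have hCN : centralizer (K : Set G) ≤ normalizer (K : Set G) :=
    SylowPrimeCount.centralizer_le_normalizer' K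
  have h1 : (centralizer (K : Set G)).relIndex (normalizer (K : Set G)) ∣ 6 := by
    have h2 := BurnsideNC.relIndex_dvd_card_mulAut K
    have h3 := KleinFourAut.card_mulAut_dvd K
    rw [hK] at h3
    exact h2.trans h3
  have h2 := RelSylow.relIndex_mul_card_inf (centralizer (K : Set G)) (normalizer (K : Set G))
  rw [inf_eq_right.2 hCN, hM] at h2
  have h3 := RelSylow.relIndex_mul_card_inf (centralizer (K : Set G)) T₂
  rw [h64] at h3
  have h4 : (centralizer (K : Set G)).relIndex T₂ ∣
      (centralizer (K : Set G)).relIndex (normalizer (K : Set G)) := by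
    have hn : ((centralizer (K : Set G)).subgroupOf (normalizer (K : Set G))).Normal := by
      rw [← Subgroup.normalizerMonoidHom_ker]; infer_instance
    rw [← Subgroup.relIndex_subgroupOf hT₂]
    exact Subgroup.relIndex_dvd_index_of_normal _ _
  have h5 : (centralizer (K : Set G)).relIndex T₂ ≠ 1 := fun h =>
    hnc (Subgroup.relIndex_eq_one.1 h)
  have h6 : (centralizer (K : Set G)).relIndex T₂ ∣ 64 := ⟨_, h3.symm⟩
  have h7 : (centralizer (K : Set G)).relIndex T₂ ∣ 2 := by
    have := Nat.dvd_gcd (h4.trans h1) h6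
    simpa using this
  have h8 : (centralizer (K : Set G)).relIndex T₂ = 2 :=
    ((Nat.dvd_prime Nat.prime_two).1 h7).resolve_left h5
  rw [h8] at h3 h4
  refine ⟨by omega, ?_⟩
  have h9 := Nat.le_of_dvd (by norm_num) h1
  generalize (centralizer (K : Set G)).relIndex (normalizer (K : Set G)) = r at *
  interval_cases r <;> omega

theorem count {n c : ℕ} (h7 : n % 7 = 1) (h28 : 28 ∣ c) (h168 : c ∣ 168)
    (h : n * c = 672 ∨ n * c = 224) : n = 8 := by
  obtain ⟨d, rfl⟩ := h28
  have hd : d ∣ 6 := by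
    have : 28 * d ∣ 28 * 6 := by simpa using h168
    exact Nat.dvd_of_mul_dvd_mul_left (by norm_num) this
  have hd6 := Nat.le_of_dvd (by norm_num) hd
  interval_cases d <;> omega

/-- Facts about `C(K)`. -/
theorem facts [Fact (Nat.Prime 7)] (P : Sylow 7 G) (hP : Nat.card P = 7) {K : Subgroup G}
    (hloc : IsLocal 7 P 6 K) (hK : Nat.card K = 4)
    (hC : Nat.card (centralizer (K : Set G)) = 672 ∨ Nat.card (centralizer (K : Set G)) = 224) :
    K ≤ centralizer (K : Set G) ∧ (P : Subgroup G) ≤ centralizer (K : Set G) ∧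
      centralizer (P : Set G) ≤ centralizer (K : Set G) ∧
      (∀ x ∈ centralizer (P : Set G), ∃ y ∈ (P : Subgroup G), ∃ k ∈ K, x = y * k) ∧
      8 * Nat.card (centralizer (K : Set G) ⊓ normalizer (P : Set G) : Subgroup G) =
        Nat.card (centralizer (K : Set G)) := by
  have hP' : Nat.card (P : Subgroup G) = 7 := hP
  have hKK : K ≤ centralizer (K : Set G) := by
    intro a ha
    rw [mem_centralizer_iff]
    intro b hb
    have h1 := IsPGroup.isMulCommutative_of_card_eq_prime_sq (p := 2) (G := K)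
      (by rw [hK]; norm_num)
    exact congrArg Subtype.val (h1.is_comm.comm (⟨b, hb⟩ : K) ⟨a, ha⟩)
  have hPK : (P : Subgroup G) ≤ centralizer (K : Set G) := by
    intro z hz
    rw [mem_centralizer_iff]
    intro k hk
    exact hloc.comm k hk z hz
  have hPP : (P : Subgroup G) ≤ centralizer (P : Set G) := by
    intro z hz
    rw [mem_centralizer_iff]
    intro y hy
    exact comm_of_card_prime (by norm_num : Nat.Prime 7) (P : Subgroup G) hP' y hy z hz
  -- `C(P) = P K`
  have hprod : ∀ x ∈ centralizer (P : Set G), ∃ y ∈ (P : Subgroup G), ∃ k ∈ K, x = y * k := by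
    have hf : Function.Injective (fun yk : Prod (P : Subgroup G) K =>
        (⟨(yk.1 : G) * yk.2, mul_mem (hPP yk.1.2) (hloc.le_centralizer yk.2.2)⟩ :
          centralizer (P : Set G))) := by
      rintro ⟨y, k⟩ ⟨y', k'⟩ h
      have h1 : (y : G) * k = y' * k' := congrArg Subtype.val h
      have h2 : (y' : G)⁻¹ * y = k' * (k : G)⁻¹ := by
        rw [inv_mul_eq_iff_eq_mul, ← mul_assoc, ← h1]; group
      have h3 : (y' : G)⁻¹ * y ∈ (P : Subgroup G) ⊓ K :=
        Subgroup.mem_inf.2 ⟨mul_mem (inv_mem y'.2) y.2, by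
          rw [h2]; exact mul_mem k'.2 (inv_mem k.2)⟩
      have h4 : (P : Subgroup G) ⊓ K = ⊥ := by
        apply disjoint_iff.1
        apply Subgroup.disjoint_of_coprime_natCard
        rw [hP']
        exact (Nat.Prime.coprime_iff_not_dvd (by norm_num)).2 hloc.not_dvd
      rw [h4, Subgroup.mem_bot] at h3
      rw [h3] at h2
      have h5 : y = y' := Subtype.ext (inv_mul_eq_one.1 h3).symm
      have h6 : k = k' := Subtype.ext (mul_inv_eq_one.1 h2.symm).symm
      rw [h5, h6]
    have hbij := hf.bijective_of_nat_card_le (by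
      rw [Nat.card_prod, hP', hloc.card_centralizer])
    intro x hx
    obtain ⟨⟨y, k⟩, h⟩ := hbij.2 ⟨x, hx⟩
    exact ⟨y, y.2, k, k.2, (congrArg Subtype.val h).symm⟩
  have hCC : centralizer (P : Set G) ≤ centralizer (K : Set G) := by
    intro x hx
    obtain ⟨y, hy, k, hk, rfl⟩ := hprod x hx
    exact mul_mem (hPK hy) (hKK hk)
  refine ⟨hKK, hPK, hCC, hprod, ?_⟩
  obtain ⟨n, hn7, hn⟩ := exists_count P (centralizer (K : Set G)) hPK
  have h28 : 28 ∣ Nat.card (centralizer (K : Set G) ⊓ normalizer (P : Set G) : Subgroup G) := by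
    have h1 := card_dvd_of_le (le_inf hCC
      (SylowPrimeCount.centralizer_le_normalizer' (P : Subgroup G)))
    have h2 : Nat.card (centralizer (P : Set G)) = 28 := by rw [hloc.card_centralizer, hK]
    rw [h2] at h1
    exact h1
  have h168 : Nat.card (centralizer (K : Set G) ⊓ normalizer (P : Set G) : Subgroup G) ∣ 168 := by
    have h1 : Nat.card (normalizer (P : Set G)) = 168 := by rw [hloc.card_normalizer, hK]
    rw [← h1]
    exact card_dvd_of_le inf_le_right
  have h8 := count hn7 h28 h168 (by rw [hn]; exact hC)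
  rw [h8] at hn
  exact hn

/-- If `D` is normal in `C(K)`. -/
theorem sq_mem_of_normal [Fact (Nat.Prime 7)] (P : Sylow 7 G) (hP : Nat.card P = 7)
    {K : Subgroup G} (hloc : IsLocal 7 P 6 K) (hK : Nat.card K = 4)
    (hC : Nat.card (centralizer (K : Set G)) = 672 ∨ Nat.card (centralizer (K : Set G)) = 224)
    {D : Subgroup G} (hKD : K ≤ D) (hDC : D ≤ centralizer (K : Set G)) (hD : Nat.card D = 32)
    (hDn : centralizer (K : Set G) ≤ normalizer (D : Set G)) :
    ∀ d ∈ D, d * d ∈ K := by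
  have : Fact (Nat.Prime 2) := ⟨Nat.prime_two⟩
  have hP' : Nat.card (P : Subgroup G) = 7 := hP
  obtain ⟨hKK, hPK, hCC, hprod, h8⟩ := facts P hP hloc hK hC
  have hPD : (P : Subgroup G) ⊓ D = ⊥ := by
    apply disjoint_iff.1
    apply Subgroup.disjoint_of_coprime_natCard
    rw [hP', hD]; norm_num
  -- `D ∩ N(P) = K`
  have hDN : ∀ d ∈ D, d ∈ normalizer (P : Set G) → d ∈ K := by
    intro d hd hdN
    have h1 : d ∈ centralizer (P : Set G) := by
      rw [mem_centralizer_iff]
      intro z hz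
      have hz' : z ∈ (P : Subgroup G) := hz
      have h2 : d * z * d⁻¹ * z⁻¹ ∈ (P : Subgroup G) ⊓ D := by
        refine Subgroup.mem_inf.2 ⟨?_, ?_⟩
        · exact mul_mem ((mem_normalizer_iff.1 hdN z).1 hz) (inv_mem hz')
        · have h3 : d * z * d⁻¹ * z⁻¹ = d * (z * d⁻¹ * z⁻¹) := by group
          rw [h3]
          exact mul_mem hd ((mem_normalizer_iff.1 (hDn (hPK hz')) _).1 (D.inv_mem hd))
      rw [hPD, Subgroup.mem_bot, mul_inv_eq_one] at h2
      calc z * d = d * z * d⁻¹ * d := by rw [h2]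
        _ = d * z := by group
    obtain ⟨y, hy, k, hk, rfl⟩ := hprod d h1
    have h2 : y ∈ (P : Subgroup G) ⊓ D := Subgroup.mem_inf.2 ⟨hy, by
      have h3 : y = (y * k) * k⁻¹ := by group
      rw [h3]; exact mul_mem hd (D.inv_mem (hKD hk))⟩
    rw [hPD, Subgroup.mem_bot] at h2
    rw [h2, one_mul]; exact hk
  -- an element of order two modulo `K`
  obtain ⟨c, hcD, hcK, hc2⟩ : ∃ c ∈ D, c ∉ K ∧ c * c ∈ K := by
    have hn : (K.subgroupOf D).Normal := by
      refine ⟨fun k hk d => ?_⟩
      rw [Subgroup.mem_subgroupOf] at hk ⊢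
      have h1 : (k : G) * d = d * k := mem_centralizer_iff.1 (hDC d.2) _ hk
      have h2 : ((d * k * d⁻¹ : D) : G) = k := by
        simp only [Subgroup.coe_mul, InvMemClass.coe_inv, ← h1]
        group
      rw [h2]; exact hk
    have hcardq : Nat.card (D ⧸ K.subgroupOf D) = 8 := by
      have h1 := (K.subgroupOf D).card_eq_card_quotient_mul_card_subgroup
      rw [Nat.card_congr (subgroupOfEquivOfLe hKD).toEquiv, hK, hD] at h1
      omega
    obtain ⟨q, hq⟩ := exists_prime_orderOf_dvd_card' (G := D ⧸ K.subgroupOf D) 2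
      (by rw [hcardq]; norm_num)
    obtain ⟨c, rfl⟩ := QuotientGroup.mk_surjective q
    refine ⟨c, c.2, ?_, ?_⟩
    · intro h
      rw [(QuotientGroup.eq_one_iff c).2 (Subgroup.mem_subgroupOf.2 h), orderOf_one] at hq
      norm_num at hq
    · have h1 : ((c * c : D) : D ⧸ K.subgroupOf D) = 1 := by
        rw [QuotientGroup.mk_mul, ← pow_two, ← hq, pow_orderOf_eq_one]
      exact Subgroup.mem_subgroupOf.1 ((QuotientGroup.eq_one_iff _).1 h1)
  intro d hd
  by_cases hdK : d ∈ K
  · exact mul_mem hdK hdK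
  obtain ⟨z, hz, hzn⟩ := exists_trans P hP hPK h8 (hDC hcD) (hDC hd)
    (fun h => hcK (hDN c hcD h)) (fun h => hdK (hDN d hd h))
  -- `d⁻¹ (z c z⁻¹) ∈ K`
  have hzc : z * c * z⁻¹ ∈ D := (mem_normalizer_iff.1 (hDn (hPK hz)) c).1 hcD
  obtain ⟨k, hk⟩ : ∃ k, k = d⁻¹ * (z * c * z⁻¹) := ⟨_, rfl⟩
  have hkK : k ∈ K := by
    apply hDN
    · rw [hk]; exact mul_mem (inv_mem hd) hzc
    · have h1 : k = (d⁻¹ * z * c) * z⁻¹ := by rw [hk]; group
      rw [h1]
      exact mul_mem hzn (inv_mem (le_normalizer hz))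
  have hd' : d = (z * c * z⁻¹) * k⁻¹ := by rw [hk]; group
  have hcz : c * c * z⁻¹ = z⁻¹ * (c * c) := by
    have h1 : (c * c) * z = z * (c * c) := hloc.comm _ hc2 z hz
    calc c * c * z⁻¹ = z⁻¹ * (z * (c * c)) * z⁻¹ := by group
      _ = z⁻¹ * ((c * c) * z) * z⁻¹ := by rw [h1]
      _ = z⁻¹ * (c * c) := by group
  have hkc : ∀ x ∈ centralizer (K : Set G), k⁻¹ * x = x * k⁻¹ := by
    intro x hx
    exact mem_centralizer_iff.1 hx k⁻¹ (inv_mem hkK)
  have h1 : d * d = (c * c) * (k⁻¹ * k⁻¹) := by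
    rw [hd']
    calc (z * c * z⁻¹) * k⁻¹ * ((z * c * z⁻¹) * k⁻¹)
        = (z * c * z⁻¹) * (k⁻¹ * (z * c * z⁻¹)) * k⁻¹ := by group
      _ = (z * c * z⁻¹) * ((z * c * z⁻¹) * k⁻¹) * k⁻¹ := by rw [hkc _ (hDC hzc)]
      _ = z * (c * c * z⁻¹) * (k⁻¹ * k⁻¹) := by group
      _ = z * (z⁻¹ * (c * c)) * (k⁻¹ * k⁻¹) := by rw [hcz]
      _ = (c * c) * (k⁻¹ * k⁻¹) := by group
  rw [h1]
  exact mul_mem hc2 (mul_mem (inv_mem hkK) (inv_mem hkK))

/-- A subgroup of order 32 of a group of order `32 m`, `m` odd, is the only normal one. -/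
theorem eq_of_normal {C : Type u} [Group C] [Finite C] {m : ℕ} (hm : ¬ 2 ∣ m)
    (hC : Nat.card C = 32 * m) {D D₀ : Subgroup C} (hD : Nat.card D = 32)
    (hD₀ : Nat.card D₀ = 32) (hn : D₀.Normal) : D = D₀ := by
  have : Fact (Nat.Prime 2) := ⟨Nat.prime_two⟩
  have h1 : IsPGroup 2 D := IsPGroup.of_card (n := 5) (by rw [hD]; norm_num)
  have h2 : IsPGroup 2 D₀ := IsPGroup.of_card (n := 5) (by rw [hD₀]; norm_num)
  have h3 : IsPGroup 2 (D ⊔ D₀ : Subgroup C) := h1.to_sup_of_normal_right h2
  obtain ⟨n, hn⟩ := IsPGroup.iff_card.1 h3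
  have h4 : Nat.card (D ⊔ D₀ : Subgroup C) ∣ 32 * m := hC ▸ Subgroup.card_subgroup_dvd_card _
  have h5 : Nat.card (D ⊔ D₀ : Subgroup C) ∣ 32 := by
    have h6 : Nat.Coprime (Nat.card (D ⊔ D₀ : Subgroup C)) m := by
      rw [hn]
      exact Nat.Coprime.pow_left n ((Nat.Prime.coprime_iff_not_dvd Nat.prime_two).2 hm)
    exact h6.dvd_of_dvd_mul_right h4
  have h6 := Nat.le_of_dvd (by norm_num) h5
  have h7 : D = D ⊔ D₀ := Subgroup.eq_of_le_of_card_ge le_sup_left (by rw [hD]; exact h6)
  have h8 : D₀ = D ⊔ D₀ := Subgroup.eq_of_le_of_card_ge le_sup_right (by rw [hD₀]; exact h6)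
  rw [h8]; exact h7

theorem normal_of_card [Fact (Nat.Prime 7)] (P : Sylow 7 G) (hP : Nat.card P = 7)
    {K : Subgroup G} (hloc : IsLocal 7 P 6 K) (hK : Nat.card K = 4)
    (hC : Nat.card (centralizer (K : Set G)) = 224)
    {D : Subgroup G} (hDC : D ≤ centralizer (K : Set G)) (hD : Nat.card D = 32) :
    centralizer (K : Set G) ≤ normalizer (D : Set G) := by
  have hP' : Nat.card (P : Subgroup G) = 7 := hP
  obtain ⟨hKK, hPK, hCC, hprod, h8⟩ := facts P hP hloc hK (Or.inr hC)
  have h28 : Nat.card (centralizer (P : Set G)) = 28 := by rw [hloc.card_centralizer, hK]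
  rw [hC] at h8
  have hle : centralizer (P : Set G) ≤ centralizer (K : Set G) ⊓ normalizer (P : Set G) :=
    le_inf hCC (SylowPrimeCount.centralizer_le_normalizer' (P : Subgroup G))
  have heq : centralizer (P : Set G) = centralizer (K : Set G) ⊓ normalizer (P : Set G) := by
    apply Subgroup.eq_of_le_of_card_ge hle
    rw [h28]; omega
  let P' : Sylow 7 (centralizer (K : Set G)) := P.subtype hPK
  have hP'c : (P' : Subgroup (centralizer (K : Set G))) =
      (P : Subgroup G).subgroupOf (centralizer (K : Set G)) := rfl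
  have hNC : normalizer (P' : Set (centralizer (K : Set G))) ≤
      centralizer (P' : Set (centralizer (K : Set G))) := by
    intro x hx'
    have hx : x ∈ normalizer ((P' : Subgroup (centralizer (K : Set G))) :
      Set (centralizer (K : Set G))) := hx'
    rw [mem_normalizer_iff] at hx
    have h1 : (x : G) ∈ normalizer ((P : Subgroup G) : Set G) := by
      rw [mem_normalizer_iff]
      intro z
      constructor
      · intro hz
        exact (hx ⟨z, hPK hz⟩).1 hz
      · intro hz
        have hz' : z ∈ centralizer (K : Set G) := by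
          have h2 : z = (x : G)⁻¹ * (x * z * (x : G)⁻¹) * x := by group
          rw [h2]
          exact mul_mem (mul_mem (inv_mem x.2) (hPK hz)) x.2
        exact (hx ⟨z, hz'⟩).2 hz
    have h2 : (x : G) ∈ centralizer (P : Set G) := by
      rw [heq]; exact Subgroup.mem_inf.2 ⟨x.2, h1⟩
    rw [mem_centralizer_iff] at h2 ⊢
    intro z hz
    exact Subtype.ext (h2 z hz)
  have hcompl := MonoidHom.ker_transferSylow_isComplement' P' hNC
  have hcard := hcompl.card_mul_card
  have hP'7 : Nat.card (P' : Subgroup (centralizer (K : Set G))) = 7 := by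
    rw [hP'c, Nat.card_congr (subgroupOfEquivOfLe hPK).toEquiv, hP']
  have hker : Nat.card (MonoidHom.transferSylow P' hNC).ker = 32 := by
    have h1 : Nat.card (MonoidHom.transferSylow P' hNC).ker *
        Nat.card (P' : Subgroup (centralizer (K : Set G))) =
        Nat.card (centralizer (K : Set G)) := hcard
    rw [hP'7, hC] at h1
    omega
  have hD' : Nat.card (D.subgroupOf (centralizer (K : Set G))) = 32 := by
    rw [Nat.card_congr (subgroupOfEquivOfLe hDC).toEquiv, hD]
  have h1 := eq_of_normal (m := 7) (by norm_num) (by rw [hC]) hD' hker inferInstance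
  have h2 : (D.subgroupOf (centralizer (K : Set G))).Normal := by
    rw [h1]; infer_instance
  exact (Subgroup.normal_subgroupOf_iff_le_normalizer hDC).1 h2

theorem exists_conj [Fact (Nat.Prime 7)] (P : Sylow 7 G) (hP : Nat.card P = 7)
    {K : Subgroup G} (hloc : IsLocal 7 P 6 K) (hK : Nat.card K = 4)
    (hC : Nat.card (centralizer (K : Set G)) = 672)
    {D : Subgroup G} (hKD : K ≤ D) (hDC : D ≤ centralizer (K : Set G)) (hD : Nat.card D = 32)
    (hDn : ¬ centralizer (K : Set G) ≤ normalizer (D : Set G))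
    {E : Subgroup G} (hKE : K ≤ E) (hED : E ≤ D) (hE : Nat.card E = 16) {a : G} (haD : a ∈ D)
    (haK : a ∉ K) (ha2 : a * a = 1) :
    ∃ h ∈ centralizer (K : Set G), h * a * h⁻¹ ∈ D ∧ h * a * h⁻¹ ∉ E := by
  have hP' : Nat.card (P : Subgroup G) = 7 := hP
  obtain ⟨hKK, hPK, hCC, hprod, h8⟩ := facts P hP hloc hK (Or.inl hC)
  have hZ : ∀ k ∈ K.subgroupOf (centralizer (K : Set G)), ∀ x : centralizer (K : Set G),
      k * x = x * k := by
    intro k hk x
    exact Subtype.ext (mem_centralizer_iff.1 x.2 k (Subgroup.mem_subgroupOf.1 hk))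
  have hZn : (K.subgroupOf (centralizer (K : Set G))).Normal := by
    refine ⟨fun k hk x => ?_⟩
    rw [← hZ k hk x, mul_assoc, mul_inv_cancel, mul_one]
    exact hk
  have hZ4 : Nat.card (K.subgroupOf (centralizer (K : Set G))) = 4 := by
    rw [Nat.card_congr (subgroupOfEquivOfLe hKK).toEquiv, hK]
  let P' : Sylow 7 (centralizer (K : Set G)) := P.subtype hPK
  have hP'c : (P' : Subgroup (centralizer (K : Set G))) =
      (P : Subgroup G).subgroupOf (centralizer (K : Set G)) := rfl
  have hP'7 : Nat.card (P' : Subgroup (centralizer (K : Set G))) = 7 := by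
    rw [hP'c, Nat.card_congr (subgroupOfEquivOfLe hPK).toEquiv, hP']
  have hD' : Nat.card (D.subgroupOf (centralizer (K : Set G))) = 32 := by
    rw [Nat.card_congr (subgroupOfEquivOfLe hDC).toEquiv, hD]
  have hE' : Nat.card (E.subgroupOf (centralizer (K : Set G))) = 16 := by
    rw [Nat.card_congr (subgroupOfEquivOfLe (hED.trans hDC)).toEquiv, hE]
  have hsimple : IsSimpleGroup (centralizer (K : Set G) ⧸
      K.subgroupOf (centralizer (K : Set G))) := by
    apply SixFourQuot.isSimple_quotient _ hZ hZ4 P' hP'7 ?_ hC ?_ ?_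
    · intro x hx
      have h1 : (x : G) ∈ centralizer (P : Set G) := by
        rw [mem_centralizer_iff] at hx ⊢
        intro z hz
        exact congrArg Subtype.val (hx ⟨z, hPK hz⟩ hz)
      obtain ⟨y, hy, k, hk, hyk⟩ := hprod x h1
      exact ⟨⟨y, hPK hy⟩, hy, ⟨k, hKK hk⟩, hk, Subtype.ext hyk⟩
    · intro hn
      have h1 := (Subgroup.normal_subgroupOf_iff_le_normalizer hPK).1 hn
      have h2 := card_dvd_of_le h1
      have h3 : Nat.card (normalizer ((P : Subgroup G) : Set G)) = 168 := by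
        have := hloc.card_normalizer
        rw [hK] at this
        exact this
      rw [hC, h3] at h2
      have := Nat.le_of_dvd (by norm_num) h2
      omega
    · intro D₀ hD₀ hn
      apply hDn
      have h1 := eq_of_normal (m := 21) (by norm_num) (by rw [hC]) hD' hD₀ hn
      rw [← h1] at hn
      exact (Subgroup.normal_subgroupOf_iff_le_normalizer hDC).1 hn
  have hX : Nat.card (centralizer (K : Set G) ⧸ K.subgroupOf (centralizer (K : Set G))) = 168 := by
    have h1 := (K.subgroupOf (centralizer (K : Set G))).card_eq_card_quotient_mul_card_subgroup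
    rw [hZ4, hC] at h1
    omega
  -- orders of images
  have himg : ∀ U : Subgroup (centralizer (K : Set G)),
      K.subgroupOf (centralizer (K : Set G)) ≤ U →
      (U.map (QuotientGroup.mk' (K.subgroupOf (centralizer (K : Set G))))).comap
        (QuotientGroup.mk' (K.subgroupOf (centralizer (K : Set G)))) = U ∧
      Nat.card (U.map (QuotientGroup.mk' (K.subgroupOf (centralizer (K : Set G))))) * 4 =
        Nat.card U := by
    intro U hU
    have h1 : (U.map (QuotientGroup.mk' (K.subgroupOf (centralizer (K : Set G))))).comap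
        (QuotientGroup.mk' (K.subgroupOf (centralizer (K : Set G)))) = U := by
      rw [Subgroup.comap_map_eq, QuotientGroup.ker_mk', sup_eq_left]
      exact hU
    refine ⟨h1, ?_⟩
    have h2 := Subgroup.index_comap_of_surjective
      (U.map (QuotientGroup.mk' (K.subgroupOf (centralizer (K : Set G)))))
      (QuotientGroup.mk'_surjective (K.subgroupOf (centralizer (K : Set G))))
    rw [h1] at h2
    have h3 := U.card_mul_index
    have h4 := (U.map (QuotientGroup.mk' (K.subgroupOf (centralizer (K : Set G))))).card_mul_index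
    rw [← h2, hX] at h4
    rw [hC] at h3
    have h5 : 0 < U.index := Nat.pos_of_ne_zero Subgroup.index_ne_zero_of_finite
    have h6 : (Nat.card (U.map (QuotientGroup.mk' (K.subgroupOf (centralizer (K : Set G))))) * 4) *
        U.index = Nat.card U * U.index := by
      rw [h3, mul_right_comm, h4]; norm_num
    exact Nat.eq_of_mul_eq_mul_right h5 h6
  obtain ⟨hS1, hS2⟩ := himg (D.subgroupOf (centralizer (K : Set G)))
    (Subgroup.comap_mono hKD)
  obtain ⟨hE1, hE2⟩ := himg (E.subgroupOf (centralizer (K : Set G)))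
    (Subgroup.comap_mono hKE)
  rw [hD'] at hS2
  rw [hE'] at hE2
  have haq : orderOf (QuotientGroup.mk' (K.subgroupOf (centralizer (K : Set G)))
      ⟨a, hDC haD⟩) = 2 := by
    apply orderOf_eq_prime
    · rw [← map_pow]
      have h1 : (⟨a, hDC haD⟩ : centralizer (K : Set G)) ^ 2 = 1 := by
        rw [pow_two]; exact Subtype.ext ha2
      rw [h1, map_one]
    · intro h
      exact haK (Subgroup.mem_subgroupOf.1 ((QuotientGroup.eq_one_iff _).1 h))
  obtain ⟨g, hg1, hg2⟩ := SixFourQuot.exists_conj_not_mem hX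
    ((D.subgroupOf (centralizer (K : Set G))).map
      (QuotientGroup.mk' (K.subgroupOf (centralizer (K : Set G)))))
    ((E.subgroupOf (centralizer (K : Set G))).map
      (QuotientGroup.mk' (K.subgroupOf (centralizer (K : Set G))))) (by omega) (by omega) haq
  obtain ⟨h, rfl⟩ := QuotientGroup.mk'_surjective (K.subgroupOf (centralizer (K : Set G))) g
  rw [← map_inv, ← map_mul, ← map_mul, ← Subgroup.mem_comap] at hg1 hg2
  rw [hS1] at hg1
  rw [hE1] at hg2
  exact ⟨h, h.2, hg1, hg2⟩

/-- The hypothesis of `SixFourCore.core`. -/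
theorem dichotomy [Fact (Nat.Prime 7)] (P : Sylow 7 G) (hP : Nat.card P = 7)
    {K : Subgroup G} (hloc : IsLocal 7 P 6 K) (hK : Nat.card K = 4)
    (hM : Nat.card (normalizer (K : Set G)) = 1344) (T₂ : Subgroup G)
    (hT₂ : T₂ ≤ normalizer (K : Set G)) (h64 : Nat.card T₂ = 64)
    (hnc : ¬ T₂ ≤ centralizer (K : Set G)) :
    Nat.card (T₂ ⊓ centralizer (K : Set G) : Subgroup G) = 32 ∧
      ((∀ d ∈ T₂ ⊓ centralizer (K : Set G), d * d ∈ K) ∨
        ∀ (E : Subgroup G) (a : G), K ≤ E → E ≤ T₂ ⊓ centralizer (K : Set G) →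
          Nat.card E = 16 → a ∈ T₂ ⊓ centralizer (K : Set G) → a ∉ K → a * a = 1 →
          ∃ h ∈ centralizer (K : Set G), h * a * h⁻¹ ∈ T₂ ∧ h * a * h⁻¹ ∉ E) := by
  obtain ⟨hD, hC⟩ := card_eq hK hM hT₂ h64 hnc
  refine ⟨hD, ?_⟩
  obtain ⟨hKK, hPK, hCC, hprod, h8⟩ := facts P hP hloc hK hC
  -- `K ≤ T₂`
  have hKT : K ≤ T₂ := by
    have : Fact (Nat.Prime 2) := ⟨Nat.prime_two⟩
    have h1 : IsPGroup 2 K := IsPGroup.of_card (n := 2) (by rw [hK]; norm_num)
    have h2 : IsPGroup 2 T₂ := IsPGroup.of_card (n := 6) (by rw [h64]; norm_num)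
    have h3 : IsPGroup 2 (T₂ ⊔ K : Subgroup G) := h2.to_sup_of_normal_right' h1 hT₂
    obtain ⟨n, hn⟩ := IsPGroup.iff_card.1 h3
    have h4 : Nat.card (T₂ ⊔ K : Subgroup G) ∣ 64 * 21 := by
      have := card_dvd_of_le (sup_le hT₂ (le_normalizer (H := K)))
      rw [hM] at this
      exact this
    have h5 : Nat.card (T₂ ⊔ K : Subgroup G) ∣ 64 := by
      have h6 : Nat.Coprime (Nat.card (T₂ ⊔ K : Subgroup G)) 21 := by
        rw [hn]
        exact Nat.Coprime.pow_left n (by norm_num)
      exact h6.dvd_of_dvd_mul_right h4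
    have h6 := Nat.le_of_dvd (by norm_num) h5
    have h7 : T₂ = T₂ ⊔ K := Subgroup.eq_of_le_of_card_ge le_sup_left (by rw [h64]; exact h6)
    rw [h7]; exact le_sup_right
  have hKD : K ≤ T₂ ⊓ centralizer (K : Set G) := le_inf hKT hKK
  by_cases hDn : centralizer (K : Set G) ≤
      normalizer ((T₂ ⊓ centralizer (K : Set G) : Subgroup G) : Set G)
  · exact Or.inl (sq_mem_of_normal P hP hloc hK hC hKD inf_le_right hD hDn)
  · right
    rcases hC with hC | hC
    · intro E a hKE hED hE haD haK ha2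
      obtain ⟨h, hh, h1, h2⟩ := exists_conj P hP hloc hK hC hKD inf_le_right hD hDn hKE hED hE
        haD haK ha2
      exact ⟨h, hh, (Subgroup.mem_inf.1 h1).1, h2⟩
    · exact absurd (normal_of_card P hP hloc hK hC inf_le_right hD) hDn

end Cfsg.Agent.M22.SixFourB
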