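import Cfsg.Agent.M22.SixFourFix

/-!
# The case `(e, |K|) = (6, 4)`, `|N(K)| = 1344`
-/

set_option autoImplicit false

namespace Cfsg.Agent.M22.SixFourCore

open Cfsg Subgroup MulAction
open Cfsg.Agent.SmallSimple Cfsg.Agent.SmallSimple.PrimeLocal
open Cfsg.Agent.SmallSimple.Simple168Klein
open Cfsg.Agent.M22.SevenEight Cfsg.Agent.M22.SevenTools

universe u

variable {G : Type u} [Group G] [Finite G]

theorem not_dvd_three {n : ℕ} (h1 : n % 7 = 1) (h2 : 16 ∣ n) (h3 : n ∣ 240) : False := by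
  have h4 := Nat.le_of_dvd (by norm_num) h3
  obtain ⟨m, rfl⟩ := h2
  have : m ≤ 15 := by omega
  interval_cases m <;> omega

theorem not_dvd_one {n : ℕ} (h1 : n % 7 = 1) (h2 : 16 ∣ n) (h3 : n ∣ 720) : False := by
  have h4 := Nat.le_of_dvd (by norm_num) h3
  obtain ⟨m, rfl⟩ := h2
  have : m ≤ 45 := by omega
  interval_cases m <;> omega

/-- Subgroups of order 8 of `N(P)`. -/
theorem exists_T [Fact (Nat.Prime 7)] (P : Sylow 7 G) {K : Subgroup G}
    (hloc : IsLocal 7 P 6 K) (hK : Nat.card K = 4) :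
    ∃ T : Subgroup G, T ≤ normalizer (P : Set G) ∧ Nat.card T = 8 ∧ K ≤ T := by
  have : Fact (Nat.Prime 2) := ⟨Nat.prime_two⟩
  have hKN : K ≤ normalizer (P : Set G) := hloc.le_centralizer.trans
    (SylowPrimeCount.centralizer_le_normalizer' (P : Subgroup G))
  have hN : Nat.card (normalizer (P : Set G)) = 168 := by rw [hloc.card_normalizer, hK]
  obtain ⟨T, hT1, hT2⟩ := Sylow.exists_subgroup_card_pow_succ (p := 2) (n := 2)
    (G := normalizer (P : Set G)) (H := K.subgroupOf (normalizer (P : Set G)))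
    (by rw [hN]; norm_num)
    (by rw [Nat.card_congr (subgroupOfEquivOfLe hKN).toEquiv, hK]; norm_num)
  refine ⟨T.map (normalizer (P : Set G)).subtype, ?_, ?_, ?_⟩
  · rintro _ ⟨x, -, rfl⟩
    exact x.2
  · rw [Nat.card_congr (T.equivMapOfInjective _ (subtype_injective _)).symm.toEquiv, hT1]
    norm_num
  · intro k hk
    exact ⟨⟨k, hKN hk⟩, hT2 (Subgroup.mem_subgroupOf.2 hk), rfl⟩

/-- Subgroups of order 64 of `N(K)`. -/
theorem exists_T₂ {K T : Subgroup G} (hM : Nat.card (normalizer (K : Set G)) = 1344)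
    (hTM : T ≤ normalizer (K : Set G)) (hT : Nat.card T = 8) :
    ∃ T₂ : Subgroup G, T ≤ T₂ ∧ T₂ ≤ normalizer (K : Set G) ∧ Nat.card T₂ = 64 := by
  have : Fact (Nat.Prime 2) := ⟨Nat.prime_two⟩
  obtain ⟨T₂, h1, h2⟩ := Sylow.exists_subgroup_card_pow_prime_le 2
    (G := normalizer (K : Set G)) (n := 3) (m := 6) (by rw [hM]; norm_num)
    (T.subgroupOf (normalizer (K : Set G)))
    (by rw [Nat.card_congr (subgroupOfEquivOfLe hTM).toEquiv, hT]; norm_num) (by norm_num)
  refine ⟨T₂.map (normalizer (K : Set G)).subtype, ?_, ?_, ?_⟩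
  · intro t ht
    exact ⟨⟨t, hTM ht⟩, h2 (Subgroup.mem_subgroupOf.2 ht), rfl⟩
  · rintro _ ⟨x, -, rfl⟩
    exact x.2
  · rw [Nat.card_congr (T₂.equivMapOfInjective _ (subtype_injective _)).symm.toEquiv, h1]
    norm_num

theorem core [IsSimpleGroup G] (hcard : Nat.card G = 443520) [Fact (Nat.Prime 7)]
    [Fact (Nat.Prime 11)] (h11 : ∀ Q : Sylow 11 G, centralizer (Q : Set G) = (Q : Subgroup G))
    (P : Sylow 7 G) {K : Subgroup G} (hloc : IsLocal 7 P 6 K) (hK : Nat.card K = 4)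
    (hM : Nat.card (normalizer (K : Set G)) = 1344)
    (hB : ∀ T₂ : Subgroup G, T₂ ≤ normalizer (K : Set G) → Nat.card T₂ = 64 →
      ¬ T₂ ≤ centralizer (K : Set G) →
      Nat.card (T₂ ⊓ centralizer (K : Set G) : Subgroup G) = 32 ∧
      ((∀ d ∈ T₂ ⊓ centralizer (K : Set G), d * d ∈ K) ∨
        ∀ (E : Subgroup G) (a : G), K ≤ E → E ≤ T₂ ⊓ centralizer (K : Set G) →
          Nat.card E = 16 → a ∈ T₂ ⊓ centralizer (K : Set G) → a ∉ K → a * a = 1 →
          ∃ h ∈ centralizer (K : Set G), h * a * h⁻¹ ∈ T₂ ∧ h * a * h⁻¹ ∉ E)) : False := by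
  classical
  have : Fact (Nat.Prime 2) := ⟨Nat.prime_two⟩
  have hP : Nat.card P = 7 := Degrees.card_sylow_eq (m := 63360) (by rw [hcard]) (by norm_num) P
  have hP' : Nat.card (P : Subgroup G) = 7 := hP
  have hKN : K ≤ normalizer (P : Set G) := hloc.le_centralizer.trans
    (SylowPrimeCount.centralizer_le_normalizer' (P : Subgroup G))
  have hN : Nat.card (normalizer (P : Set G)) = 168 := by rw [hloc.card_normalizer, hK]
  have hNM := hloc.normalizer_le
  have hPM : (P : Subgroup G) ≤ normalizer (K : Set G) := le_trans le_normalizer hNM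
  have h8 : 8 * Nat.card (normalizer (K : Set G) ⊓ normalizer (P : Set G) : Subgroup G) =
      Nat.card (normalizer (K : Set G)) := by
    rw [inf_eq_right.2 hNM, hN, hM]
  have hK2 : IsPGroup 2 K := IsPGroup.of_card (n := 2) (by rw [hK]; norm_num)
  have hKne : K ≠ ⊥ := by
    rintro rfl
    rw [Subgroup.card_bot] at hK
    norm_num at hK
  obtain ⟨T, hTN, hT8, hKT⟩ := exists_T P hloc hK
  obtain ⟨T₂, hTT₂, hT₂M, hT₂⟩ := exists_T₂ hM (hTN.trans hNM) hT8
  have hKT₂ : K ≤ T₂ := hKT.trans hTT₂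
  -- `T = T₂ ∩ N(P)`
  have hTeq : T₂ ⊓ normalizer (P : Set G) = T := by
    symm
    apply Subgroup.eq_of_le_of_card_ge (le_inf hTT₂ hTN)
    have h1 : Nat.card (T₂ ⊓ normalizer (P : Set G) : Subgroup G) ∣ 64 :=
      hT₂ ▸ card_dvd_of_le inf_le_left
    have h2 : Nat.card (T₂ ⊓ normalizer (P : Set G) : Subgroup G) ∣ 168 :=
      hN ▸ card_dvd_of_le inf_le_right
    have h3 := Nat.dvd_gcd h1 h2
    rw [hT8]
    exact Nat.le_of_dvd (by norm_num) (by simpa using h3)
  have hT' : Nat.card ((normalizer (P : Set G)).subgroupOf T₂) = 8 := by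
    have h3 : (normalizer (P : Set G)).subgroupOf T₂ = T.subgroupOf T₂ := by
      rw [← hTeq, Subgroup.inf_subgroupOf_left]
    rw [h3, Nat.card_congr (subgroupOfEquivOfLe hTT₂).toEquiv, hT8]
  have hfix := SixFourFix.card_fixedBy_le P hP hloc hK h8 hT₂M hT₂ hKT₂ hT'
  -- growth
  obtain ⟨R, hTR, hR, hRT⟩ := exists_growth (m := 6) (T := T₂) (by rw [hT₂]; norm_num)
    (by rw [hcard]; norm_num)
  have hR128 : Nat.card R = 128 := by rw [hR, hT₂]
  obtain ⟨s, hsR, hsT⟩ : ∃ s ∈ R, s ∉ T₂ := by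
    by_contra hcon
    push Not at hcon
    have := Subgroup.card_le_of_le (show R ≤ T₂ from hcon)
    omega
  obtain ⟨hL1, hL2, hL3, hL4⟩ := swap_data hTR hR hRT hKT₂ hT₂M hsR
  set L : Subgroup G := K.map (MulAut.conj s).toMonoidHom with hLdef
  have hLcard : Nat.card L = 4 := by rw [hLdef, card_map_conj, hK]
  have hRD := le_normalizer_inf hTR hR hRT hKT₂ hT₂M hsR hsT
  rw [← hLdef] at hRD
  -- `K ∩ L = 1`
  have hKL : K ⊓ L = ⊥ := by
    by_contra hD
    have hD2 : IsPGroup 2 (K ⊓ L : Subgroup G) := hK2.to_le inf_le_left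
    have hPD : (P : Subgroup G) ≤ normalizer ((K ⊓ L : Subgroup G) : Set G) := by
      intro z hz
      rw [mem_normalizer_iff]
      intro x
      constructor
      · intro hx
        have h1 : x * z = z * x := hloc.comm x hx.1 z hz
        have h2 : z * x * z⁻¹ = x := by rw [← h1]; group
        rw [h2]; exact hx
      · intro hx
        have h1 := hloc.comm _ hx.1 z hz
        have h2 : x = z * x * z⁻¹ := by
          calc x = z⁻¹ * (z * x * z⁻¹ * z) := by group
            _ = z⁻¹ * (z * (z * x * z⁻¹)) := by rw [h1]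
            _ = z * x * z⁻¹ := by group
        rw [h2]; exact hx
    have hne11 := not_eleven_dvd hcard h11 (K ⊓ L) hD hD2
    obtain ⟨n, hn1, hn2⟩ := exists_count P _ hPD
    have hcardN : Nat.card (normalizer ((K ⊓ L : Subgroup G) : Set G)) ∣ 443520 :=
      hcard ▸ Subgroup.card_subgroup_dvd_card _
    have h128 : 128 ∣ Nat.card (normalizer ((K ⊓ L : Subgroup G) : Set G)) :=
      hR128 ▸ card_dvd_of_le hRD
    have h40320 : Nat.card (normalizer ((K ⊓ L : Subgroup G) : Set G)) ∣ 40320 := by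
      have h1 : Nat.Coprime (Nat.card (normalizer ((K ⊓ L : Subgroup G) : Set G))) 11 :=
        ((Nat.Prime.coprime_iff_not_dvd (by norm_num)).2 hne11).symm
      exact h1.dvd_of_dvd_mul_left (by simpa using hcardN : _ ∣ 11 * 40320)
    have hi1 : 56 ∣ Nat.card (normalizer ((K ⊓ L : Subgroup G) : Set G) ⊓
        normalizer (P : Set G) : Subgroup G) := by
      have h1 : 8 ∣ Nat.card (normalizer ((K ⊓ L : Subgroup G) : Set G) ⊓
        normalizer (P : Set G) : Subgroup G) :=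
        hT8 ▸ card_dvd_of_le (le_inf ((hTT₂.trans hTR).trans hRD) hTN)
      have h2 : 7 ∣ Nat.card (normalizer ((K ⊓ L : Subgroup G) : Set G) ⊓
        normalizer (P : Set G) : Subgroup G) := by
        have h3 := card_dvd_of_le (le_inf hPD (le_normalizer (H := (P : Subgroup G))))
        rwa [hP'] at h3
      exact Nat.Coprime.mul_dvd_of_dvd_of_dvd (by norm_num : Nat.Coprime 8 7) h1 h2
    have hi2 : Nat.card (normalizer ((K ⊓ L : Subgroup G) : Set G) ⊓
        normalizer (P : Set G) : Subgroup G) ∣ 168 := hN ▸ card_dvd_of_le inf_le_right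
    generalize Nat.card (normalizer ((K ⊓ L : Subgroup G) : Set G) ⊓
        normalizer (P : Set G) : Subgroup G) = i at *
    generalize Nat.card (normalizer ((K ⊓ L : Subgroup G) : Set G)) = c at *
    obtain ⟨j, rfl⟩ := hi1
    have hj : j ∣ 3 := by
      obtain ⟨q, hq⟩ := hi2
      exact ⟨q, by
        have : 56 * 3 = 56 * (j * q) := by rw [← mul_assoc]; omega
        exact Nat.eq_of_mul_eq_mul_left (by norm_num) this⟩
    rcases (Nat.dvd_prime Nat.prime_three).1 hj with rfl | rfl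
    · refine not_dvd_one hn1 ?_ ?_
      · obtain ⟨q, hq⟩ := h128
        have h1 : 16 ∣ 7 * n := ⟨q, by omega⟩
        exact (Nat.Coprime.dvd_mul_left (by norm_num)).1 h1
      · obtain ⟨q, hq⟩ := h40320
        exact ⟨q, by
          have : 56 * 720 = 56 * (n * q) := by
            rw [show 56 * 720 = 40320 by norm_num, hq, ← hn2]; ring
          exact Nat.eq_of_mul_eq_mul_left (by norm_num) this⟩
    · refine not_dvd_three hn1 ?_ ?_
      · obtain ⟨q, hq⟩ := h128
        have h1 : 16 ∣ 21 * n := ⟨q, by omega⟩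
        exact (Nat.Coprime.dvd_mul_left (by norm_num)).1 h1
      · obtain ⟨q, hq⟩ := h40320
        exact ⟨q, by
          have : 168 * 240 = 168 * (n * q) := by
            rw [show 168 * 240 = 40320 by norm_num, hq, ← hn2]; ring
          exact Nat.eq_of_mul_eq_mul_left (by norm_num) this⟩
  -- the abstract 2-group
  have hK'n : (K.subgroupOf T₂).Normal := (normal_subgroupOf_iff_le_normalizer hKT₂).2 hT₂M
  have hL'n : (L.subgroupOf T₂).Normal := (normal_subgroupOf_iff_le_normalizer hL1).2 hL2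
  have hK'c : Nat.card (K.subgroupOf T₂) = 4 := by
    rw [Nat.card_congr (subgroupOfEquivOfLe hKT₂).toEquiv, hK]
  have hL'c : Nat.card (L.subgroupOf T₂) = 4 := by
    rw [Nat.card_congr (subgroupOfEquivOfLe hL1).toEquiv, hLcard]
  have hKL' : K.subgroupOf T₂ ⊓ L.subgroupOf T₂ = ⊥ := by
    rw [eq_bot_iff]
    rintro ⟨x, hx⟩ ⟨h1, h2⟩
    have h3 : x ∈ K ⊓ L := ⟨Subgroup.mem_subgroupOf.1 h1, Subgroup.mem_subgroupOf.1 h2⟩
    rw [hKL, mem_bot] at h3
    exact Subtype.ext h3
  have hKT' : K.subgroupOf T₂ ≤ (normalizer (P : Set G)).subgroupOf T₂ :=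
    fun x hx => Subgroup.mem_subgroupOf.2 (hKN (Subgroup.mem_subgroupOf.1 hx))
  have hcomm : ∀ k ∈ K, ∀ l ∈ L, k * l = l * k := by
    intro k hk l hl
    have h1 := (Subgroup.commute_of_normal_of_disjoint _ _ hK'n hL'n (disjoint_iff.2 hKL')
      (⟨k, hKT₂ hk⟩ : T₂) ⟨l, hL1 hl⟩ (Subgroup.mem_subgroupOf.2 hk)
      (Subgroup.mem_subgroupOf.2 hl)).eq
    exact congrArg Subtype.val h1
  have hmain : ∀ p ∈ T₂, (∀ l ∈ L, p * l = l * p) → p * p ∈ K → p ∈ K ⊔ L := by
    intro p hpT hpL hp2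
    have h1 := TwoGroupRegular.mem_sup_of_sq_mem (A := T₂) (p := (⟨p, hpT⟩ : T₂)) hT₂ hT' hKT'
      hK'c hK'n hL'c hL'n hKL' hfix (by
        rintro ⟨l, hl⟩ hl'
        exact Subtype.ext (hpL l (Subgroup.mem_subgroupOf.1 hl')))
      (Subgroup.mem_subgroupOf.2 hp2)
    obtain ⟨y, hy, z, hz, hyz⟩ := mem_sup_of_normal_left.1 h1
    have h2 : p = (y : G) * z := (congrArg Subtype.val hyz).symm
    rw [h2]
    exact mul_mem ((le_sup_left : K ≤ K ⊔ L) (Subgroup.mem_subgroupOf.1 hy))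
      ((le_sup_right : L ≤ K ⊔ L) (Subgroup.mem_subgroupOf.1 hz))
  -- `T₂` does not centralise `K`
  have hnc : ¬ T₂ ≤ centralizer (K : Set G) := by
    intro hc
    obtain ⟨τ, hτT, hτK⟩ : ∃ τ ∈ T, τ ∉ K := by
      by_contra hcon
      push Not at hcon
      have := Subgroup.card_le_of_le (show T ≤ K from hcon)
      omega
    apply hτK
    have h1 := TwoGroupRegular.mem_of_centralizer (A := T₂) (T := (normalizer (P : Set G)).subgroupOf T₂)
      (K := K.subgroupOf T₂) (L := L.subgroupOf T₂) (x := (⟨τ, hTT₂ hτT⟩ : T₂))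
      hT₂ hT' hL'c hL'n hKL' hfix (Subgroup.mem_subgroupOf.2 (hTN hτT)) (by
        rintro ⟨l, hl⟩ hl'
        apply Subtype.ext
        change τ * l = l * τ
        have h2 : l ∈ L := Subgroup.mem_subgroupOf.1 hl'
        rw [hLdef, mem_conj_iff] at h2
        have h3 : s⁻¹ * τ * s ∈ T₂ := by
          have := (mem_normalizer_iff.1 (inv_mem (hRT hsR)) τ).1 (hTT₂ hτT)
          rwa [inv_inv] at this
        have h4 := mem_centralizer_iff.1 (hc h3) _ h2
        calc τ * l = s * ((s⁻¹ * τ * s) * (s⁻¹ * l * s)) * s⁻¹ := by group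
          _ = s * ((s⁻¹ * l * s) * (s⁻¹ * τ * s)) * s⁻¹ := by rw [h4]
          _ = l * τ := by group)
    exact Subgroup.mem_subgroupOf.1 h1
  obtain ⟨h32, hB'⟩ := hB T₂ hT₂M hT₂ hnc
  -- `E = K L` has order 16
  have hKn' : L ≤ normalizer (K : Set G) := hL1.trans hT₂M
  have hE16 : Nat.card (K ⊔ L : Subgroup G) = 16 := by
    have hle : K ⊔ L ≤ T₂ := sup_le hKT₂ hL1
    have h1 : (K ⊔ L).subgroupOf T₂ = K.subgroupOf T₂ ⊔ L.subgroupOf T₂ :=
      Subgroup.subgroupOf_sup hKT₂ hL1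
    have h2 : Nat.card (K.subgroupOf T₂ ⊔ L.subgroupOf T₂ : Subgroup T₂) = 16 := by
      have h1 : (K.subgroupOf T₂).relIndex (K.subgroupOf T₂ ⊔ L.subgroupOf T₂) =
          (K.subgroupOf T₂).relIndex (L.subgroupOf T₂) := relIndex_sup_left _ _
      have h2 : (K.subgroupOf T₂).relIndex (L.subgroupOf T₂) = 4 := by
        rw [← Subgroup.inf_relIndex_right, hKL', relIndex_bot_left, hL'c]
      have h3 := relIndex_mul_relIndex ⊥ (K.subgroupOf T₂)
        (K.subgroupOf T₂ ⊔ L.subgroupOf T₂) bot_le le_sup_left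
      rw [relIndex_bot_left, relIndex_bot_left, hK'c, h1, h2] at h3
      exact h3.symm
    rw [← h1, Nat.card_congr (subgroupOfEquivOfLe hle).toEquiv] at h2
    exact h2
  have hEC : K ⊔ L ≤ T₂ ⊓ centralizer (K : Set G) := by
    have hKab : ∀ a ∈ K, ∀ b ∈ K, a * b = b * a := by
      intro a ha b hb
      have h1 := IsPGroup.isMulCommutative_of_card_eq_prime_sq (p := 2) (G := K)
        (by rw [hK]; norm_num)
      exact congrArg Subtype.val (h1.is_comm.comm (⟨a, ha⟩ : K) ⟨b, hb⟩)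
    refine sup_le (le_inf hKT₂ ?_) (le_inf hL1 ?_)
    · intro a ha
      rw [mem_centralizer_iff]
      exact fun b hb => hKab b hb a ha
    · intro l hl
      rw [mem_centralizer_iff]
      exact fun k hk => hcomm k hk l hl
  rcases hB' with hB' | hB'
  · -- all squares in `K`
    have hle : T₂ ⊓ centralizer (K : Set G) ≤ K ⊔ L := by
      intro d hd
      apply hmain d hd.1 _ (hB' d hd)
      intro l hl
      have hl' : l ∈ T₂ ⊓ centralizer (K : Set G) := hEC ((le_sup_right : L ≤ K ⊔ L) hl)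
      have h1 : d * l * d⁻¹ * l⁻¹ ∈ K := by
        have e1 : d * l * d⁻¹ * l⁻¹ = ((d * l) * (d * l)) * (l⁻¹ * (d * d)⁻¹ * l⁻¹⁻¹) *
            (l * l)⁻¹ := by group
        rw [e1]
        refine mul_mem (mul_mem (hB' _ (mul_mem hd hl')) ?_) (inv_mem (hB' _ hl'))
        exact (mem_normalizer_iff.1 (hT₂M (inv_mem hl'.1)) _).1 (inv_mem (hB' d hd))
      have h2 : d * l * d⁻¹ * l⁻¹ ∈ L :=
        mul_mem ((mem_normalizer_iff.1 (hL2 hd.1) l).1 hl) (inv_mem hl)
      have h3 : d * l * d⁻¹ * l⁻¹ ∈ K ⊓ L := ⟨h1, h2⟩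
      rw [hKL, mem_bot] at h3
      calc d * l = (d * l * d⁻¹ * l⁻¹) * (l * d) := by group
        _ = l * d := by rw [h3, one_mul]
    have := Subgroup.card_le_of_le hle
    omega
  · -- an involution of `L`
    obtain ⟨a, ha⟩ := exists_prime_orderOf_dvd_card' (G := L) 2 (by rw [hLcard]; norm_num)
    have ha' : orderOf (a : G) = 2 := by rw [Subgroup.orderOf_coe, ha]
    have haa : (a : G) * a = 1 := by
      have := pow_orderOf_eq_one (a : G)
      rwa [ha', pow_two] at this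
    have ha1 : (a : G) ≠ 1 := by
      intro h
      rw [h, orderOf_one] at ha'
      omega
    obtain ⟨h, hh, hq1, hq2⟩ := hB' (K ⊔ L) a le_sup_left hEC hE16
      (hEC ((le_sup_right : L ≤ K ⊔ L) a.2)) (fun h => ha1 (by
        have h3 : (a : G) ∈ K ⊓ L := ⟨h, a.2⟩
        rwa [hKL, mem_bot] at h3)) haa
    set q : G := h * a * h⁻¹ with hq
    have hqq : q * q = 1 := by
      calc q * q = h * ((a : G) * a) * h⁻¹ := by rw [hq]; group
        _ = 1 := by rw [haa]; group
    have hqC : ∀ k ∈ K, q * k = k * q := by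
      intro k hk
      have e1 : h * k = k * h := ((mem_centralizer_iff.1 hh) k hk).symm
      have e2 : k * a = a * k := hcomm k hk a a.2
      have e3 : h⁻¹ * k = k * h⁻¹ := by
        calc h⁻¹ * k = h⁻¹ * (k * h) * h⁻¹ := by group
          _ = h⁻¹ * (h * k) * h⁻¹ := by rw [e1]
          _ = k * h⁻¹ := by group
      calc q * k = h * a * (h⁻¹ * k) := by rw [hq]; group
        _ = h * (a * k) * h⁻¹ := by rw [e3]; group
        _ = (h * k) * a * h⁻¹ := by rw [← e2]; group
        _ = k * q := by rw [e1, hq]; group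
    have hsN := hRT hsR
    have hp1 : s * q * s⁻¹ ∈ T₂ := (mem_normalizer_iff.1 hsN q).1 hq1
    have hp2 : s * q * s⁻¹ ∈ K ⊔ L := by
      apply hmain _ hp1
      · intro l hl
        rw [hLdef, mem_conj_iff] at hl
        have e1 := hqC _ hl
        calc s * q * s⁻¹ * l = s * (q * (s⁻¹ * l * s)) * s⁻¹ := by group
          _ = s * ((s⁻¹ * l * s) * q) * s⁻¹ := by rw [e1]
          _ = l * (s * q * s⁻¹) := by group
      · have e1 : s * q * s⁻¹ * (s * q * s⁻¹) = s * (q * q) * s⁻¹ := by group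
        rw [e1, hqq, mul_one, mul_inv_cancel]
        exact K.one_mem
    -- `E` is invariant under `s`
    have hEs : (K ⊔ L).map (MulAut.conj s).toMonoidHom = K ⊔ L := by
      rw [Subgroup.map_sup, ← hLdef, hL3, sup_comm]
    apply hq2
    rw [← hEs, mem_conj_iff] at hp2
    have e1 : s⁻¹ * (s * q * s⁻¹) * s = q := by group
    rwa [e1] at hp2

end Cfsg.Agent.M22.SixFourCore
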