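import Cfsg.Agent.M22.SixFourCore

/-!
# The case `(e, |K|) = (6, 4)`: the order of `N(K)`
-/

set_option autoImplicit false

namespace Cfsg.Agent.M22.SixFourSplit

open Cfsg Subgroup MulAction
open Cfsg.Agent.SmallSimple Cfsg.Agent.SmallSimple.PrimeLocal
open Cfsg.Agent.SmallSimple.Simple168Klein
open Cfsg.Agent.M22.SevenEight Cfsg.Agent.M22.SevenTools

universe u

variable {G : Type u} [Group G] [Finite G]

theorem eq_eight_or {n : ℕ} (h1 : n % 7 = 1) (h2 : 2 ∣ n) (h3 : n ∣ 240) :
    n = 8 ∨ n = 120 := by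
  have h4 := Nat.le_of_dvd (by norm_num) h3
  obtain ⟨m, rfl⟩ := h2
  have : m ≤ 120 := by omega
  interval_cases m <;> omega

/-- `|N(K)| = 1344` if `16` divides it. -/
theorem card_normalizer [IsSimpleGroup G] (hcard : Nat.card G = 443520)
    [Fact (Nat.Prime 7)] [Fact (Nat.Prime 11)]
    (h11 : ∀ Q : Sylow 11 G, centralizer (Q : Set G) = (Q : Subgroup G))
    (P : Sylow 7 G) {K : Subgroup G} (hloc : IsLocal 7 P 6 K) (hK : Nat.card K = 4)
    (h16 : 16 ∣ Nat.card (normalizer (K : Set G))) :
    Nat.card (normalizer (K : Set G)) = 1344 := by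
  have hP : Nat.card P = 7 := Degrees.card_sylow_eq (m := 63360) (by rw [hcard]) (by norm_num) P
  have hN : Nat.card (normalizer (P : Set G)) = 168 := by rw [hloc.card_normalizer, hK]
  have hNM := hloc.normalizer_le
  have hPM : (P : Subgroup G) ≤ normalizer (K : Set G) := le_trans le_normalizer hNM
  have hK2 : IsPGroup 2 K := IsPGroup.of_card (n := 2) (by rw [hK]; norm_num)
  have hKne : K ≠ ⊥ := by
    rintro rfl
    rw [Subgroup.card_bot] at hK
    norm_num at hK
  have hne := not_eleven_dvd hcard h11 K hKne hK2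
  obtain ⟨n, hn7, hn⟩ := exists_count P (normalizer (K : Set G)) hPM
  rw [inf_eq_right.2 hNM, hN] at hn
  have hdvd : Nat.card (normalizer (K : Set G)) ∣ 443520 := hcard ▸ card_subgroup_dvd_card _
  have hn2 : 2 ∣ n := by
    rw [← hn] at h16
    have h1 : 16 ∣ 8 * (21 * n) := by
      have : n * 168 = 8 * (21 * n) := by ring
      rwa [this] at h16
    omega
  have hn240 : n ∣ 240 := by
    rw [← hn] at hdvd hne
    have h1 : n ∣ 2640 := by
      have h2 : n * 168 ∣ 2640 * 168 := by norm_num; exact hdvd
      exact (Nat.mul_dvd_mul_iff_right (by norm_num)).1 h2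
    have h2 : Nat.Coprime n 11 := by
      rw [Nat.coprime_comm]
      exact (Nat.Prime.coprime_iff_not_dvd (by norm_num)).2 fun h => hne (h.mul_right _)
    have h3 : n ∣ 240 * 11 := by norm_num; exact h1
    exact h2.dvd_of_dvd_mul_right h3
  rcases eq_eight_or hn7 hn2 hn240 with rfl | rfl
  · rw [← hn]
  · exfalso
    have hG : ¬ IsMulCommutative G :=
      Cfsg.Agent.SmallSimple.Embed.not_comm_of_card_not_prime (by rw [hcard]; norm_num)
    have hH : normalizer (K : Set G) ≠ ⊤ := by
      intro h
      rw [h, Subgroup.card_top, hcard] at hn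
      norm_num at hn
    obtain ⟨o, ho1, ho2⟩ := exists_index hG P hP hloc hNM hH
    have hidx : (normalizer (K : Set G)).index = 22 := by
      have h1 := index_mul_card (normalizer (K : Set G))
      rw [← hn, hcard] at h1
      omega
    have ho : o = 3 := by omega
    subst ho
    rw [hK] at ho2
    rcases ho2 with h | h
    · revert h; decide
    · omega

end Cfsg.Agent.M22.SixFourSplit
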