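import Cfsg.Agent.M22.SixFourA
import Cfsg.Agent.M22.SixFourB
import Cfsg.Agent.M22.SixFourCore
import Cfsg.Agent.M22.SixFourSplit

/-!
# Sylow 7-subgroups in a simple group of order 443520: the case `e = 6`, `|K| = 4`
-/

set_option autoImplicit false

namespace Cfsg.Agent.M22.SevenSixFour

open Cfsg Subgroup
open Cfsg.Agent.SmallSimple.PrimeLocal

universe u

theorem false_six_four {G : Type u} [Group G] [Finite G] [IsSimpleGroup G]
    (hcard : Nat.card G = 443520)
    [Fact (Nat.Prime 7)] [Fact (Nat.Prime 11)]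
    (h11 : ∀ Q : Sylow 11 G, centralizer (Q : Set G) = (Q : Subgroup G))
    (P : Sylow 7 G) {K : Subgroup G} (hloc : IsLocal 7 P 6 K) (hK : Nat.card K = 4) : False := by
  by_cases h16 : 16 ∣ Nat.card (normalizer (K : Set G))
  · have hM := SixFourSplit.card_normalizer hcard h11 P hloc hK h16
    have hP : Nat.card P = 7 := Degrees.card_sylow_eq (m := 63360) (by rw [hcard]) (by norm_num) P
    exact SixFourCore.core hcard h11 P hloc hK hM
      (fun T₂ h1 h2 h3 => SixFourB.dichotomy P hP hloc hK hM T₂ h1 h2 h3)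
  · exact SixFourA.caseA hcard h11 P hloc hK h16

end Cfsg.Agent.M22.SevenSixFour
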