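import Cfsg.Agent.M22.SevenTools

/-!
# Sylow 7-subgroups in a simple group of order 443520: the case `e = 3`, `|K| = 8`
-/

set_option autoImplicit false
set_option linter.unusedSectionVars false

namespace Cfsg.Agent.M22.SevenThreeEight

open Cfsg Subgroup
open Cfsg.Agent.SmallSimple Cfsg.Agent.SmallSimple.PrimeLocal
open Cfsg.Agent.SmallSimple.Simple168Klein
open Cfsg.Agent.M22.SevenTools

universe u

/-! ### Arithmetic -/

theorem arith_one {n : ℕ} (h7 : n % 7 = 1) (hn : n * 168 ∣ 40320) (h16 : 16 ∣ n * 168) :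
    n = 8 ∨ n = 120 := by
  have h1 : n ∣ 240 := by
    have : n * 168 ∣ 240 * 168 := by simpa using hn
    exact Nat.dvd_of_mul_dvd_mul_right (by norm_num) this
  have h2 : n ∈ Nat.divisors 240 := by rw [Nat.mem_divisors]; exact ⟨h1, by norm_num⟩
  have h3 : Nat.divisors 240 = {1, 2, 3, 4, 5, 6, 8, 10, 12, 15, 16, 20, 24, 30, 40, 48, 60, 80,
    120, 240} := by decide +kernel
  rw [h3] at h2
  simp only [Finset.mem_insert, Finset.mem_singleton] at h2
  omega

theorem arith_two : ∀ n < 721, n % 7 = 1 → 16 ∣ n → ¬ n ∣ 720 ∧ ¬ n ∣ 480 ∧ ¬ n ∣ 240 := by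
  decide +kernel

theorem arith_two' {n m : ℕ} (hm : m = 720 ∨ m = 480 ∨ m = 240) (h7 : n % 7 = 1) (h16 : 16 ∣ n) :
    ¬ n ∣ m := by
  intro h
  have h1 : n ≤ m := Nat.le_of_dvd (by omega) h
  have := arith_two n (by omega) h7 h16
  rcases hm with rfl | rfl | rfl
  · exact this.1 h
  · exact this.2.1 h
  · exact this.2.2 h

/-- If `w n` divides `40320 = 2^7 · 315`, is divisible by `2 ^ k` etc. -/
theorem sixteen_dvd {n j : ℕ} (hj : j = 56 ∨ j = 168) (h : 128 ∣ n * j) : 16 ∣ n := by
  have h1 : n * j = (n * (j / 8)) * 8 := by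
    rcases hj with rfl | rfl <;> omega
  have h2 : 16 ∣ n * (j / 8) := by
    have : 16 * 8 ∣ n * (j / 8) * 8 := by rw [← h1]; simpa using h
    exact Nat.dvd_of_mul_dvd_mul_right (by norm_num) this
  refine Nat.Coprime.dvd_of_dvd_mul_right (k := 16) (n := j / 8) ?_ h2
  rcases hj with rfl | rfl <;> norm_num

variable {G : Type u} [Group G] [Finite G]

theorem dvd_of_not_eleven (hcard : Nat.card G = 443520) (H : Subgroup G)
    (h : ¬ 11 ∣ Nat.card H) : Nat.card H ∣ 40320 := by
  have h1 : Nat.card H ∣ 11 * 40320 := by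
    have := H.card_subgroup_dvd_card
    rw [hcard] at this
    simpa using this
  exact (Nat.Coprime.dvd_mul_left ((Nat.Prime.coprime_iff_not_dvd (by norm_num)).2 h).symm).1 h1

/-- A subgroup which contains `K`, `P` (and hence `P K`) and is contained in `N(P)` has order 56
or 168. -/
theorem card_inf_eq (P : Sylow 7 G) (hP : Nat.card (P : Subgroup G) = 7) {K : Subgroup G}
    (hK : Nat.card K = 8) (hN : Nat.card (normalizer (P : Set G)) = 168) (H : Subgroup G)
    (hPH : (P : Subgroup G) ≤ H) (hKH : K ≤ H) (hHN : H ≤ normalizer (P : Set G)) :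
    Nat.card H = 56 ∨ Nat.card H = 168 := by
  have h7 : 7 ∣ Nat.card H := hP ▸ Subgroup.card_dvd_of_le hPH
  have h8 : 8 ∣ Nat.card H := hK ▸ Subgroup.card_dvd_of_le hKH
  have h168 : Nat.card H ∣ 168 := hN ▸ Subgroup.card_dvd_of_le hHN
  have h56 : 56 ∣ Nat.card H := by
    have : 7 * 8 ∣ Nat.card H := Nat.Coprime.mul_dvd_of_dvd_of_dvd (by norm_num) h7 h8
    simpa using this
  obtain ⟨k, hk⟩ := h56
  rw [hk] at h168 ⊢
  have h3 : k ∣ 3 := by
    have : 56 * k ∣ 56 * 3 := by simpa using h168
    exact Nat.dvd_of_mul_dvd_mul_left (by norm_num) this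
  rcases (Nat.dvd_prime Nat.prime_three).1 h3 with rfl | rfl <;> simp

/-- The number of 2-local kills: if `H` normalises a nontrivial 2-group, contains `P`, `K` and a
subgroup of order 128: contradiction. -/
theorem false_of_big (hcard : Nat.card G = 443520) [Fact (Nat.Prime 7)] [Fact (Nat.Prime 11)]
    (h11 : ∀ Q : Sylow 11 G, centralizer (Q : Set G) = (Q : Subgroup G))
    (P : Sylow 7 G) (hP : Nat.card (P : Subgroup G) = 7) {K : Subgroup G}
    (hK : Nat.card K = 8) (hN : Nat.card (normalizer (P : Set G)) = 168)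
    (hKN : K ≤ normalizer (P : Set G)) (W R : Subgroup G) (hW : W ≠ ⊥) (hW2 : IsPGroup 2 W)
    (hPW : (P : Subgroup G) ≤ normalizer (W : Set G)) (hKW : K ≤ normalizer (W : Set G))
    (hRW : R ≤ normalizer (W : Set G)) (hR : 128 ∣ Nat.card R) : False := by
  have h1 := not_eleven_dvd hcard h11 W hW hW2
  have h2 := dvd_of_not_eleven hcard _ h1
  obtain ⟨n, hn7, hn⟩ := exists_count P (normalizer (W : Set G)) hPW
  have h3 := card_inf_eq P hP hK hN (normalizer (W : Set G) ⊓ normalizer (P : Set G))
    (le_inf hPW le_normalizer) (le_inf hKW hKN) inf_le_right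
  have h4 : 128 ∣ n * Nat.card (normalizer (W : Set G) ⊓ normalizer (P : Set G) : Subgroup G) := by
    rw [hn]; exact hR.trans (Subgroup.card_dvd_of_le hRW)
  have h5 := sixteen_dvd h3 h4
  rw [← hn] at h2
  rcases h3 with h3 | h3
  · rw [h3] at h2
    refine arith_two' (m := 720) (Or.inl rfl) hn7 h5 ?_
    have : n * 56 ∣ 720 * 56 := by simpa using h2
    exact Nat.dvd_of_mul_dvd_mul_right (by norm_num) this
  · rw [h3] at h2
    refine arith_two' (m := 240) (Or.inr (Or.inr rfl)) hn7 h5 ?_
    have : n * 168 ∣ 240 * 168 := by simpa using h2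
    exact Nat.dvd_of_mul_dvd_mul_right (by norm_num) this

/-- The normaliser of `K` has order 1344. -/
theorem card_normalizer_K [IsSimpleGroup G] (hcard : Nat.card G = 443520) [Fact (Nat.Prime 7)]
    [Fact (Nat.Prime 11)]
    (h11 : ∀ Q : Sylow 11 G, centralizer (Q : Set G) = (Q : Subgroup G))
    (P : Sylow 7 G) (hP : Nat.card (P : Subgroup G) = 7) {K : Subgroup G}
    (hloc : IsLocal 7 P 3 K) (hK : Nat.card K = 8) :
    Nat.card (normalizer (K : Set G)) = 1344 := by
  have hG : ¬ (Nat.card G).Prime := by rw [hcard]; norm_num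
  have hGc : ¬ IsMulCommutative G := by
    intro h
    obtain ⟨a, b, hab⟩ := NonSelfCent.not_comm_of_not_prime hG
    exact hab (h.is_comm.comm a b)
  have hN : Nat.card (normalizer (P : Set G)) = 168 := by
    rw [hloc.card_normalizer, hK]
  have hNK := hloc.normalizer_le
  have hKne : K ≠ ⊥ := by
    rintro rfl
    rw [Subgroup.card_bot] at hK
    omega
  have hK2 : IsPGroup 2 K := IsPGroup.of_card (n := 3) (by rw [hK]; norm_num)
  have h1 := not_eleven_dvd hcard h11 K hKne hK2
  have h2 := dvd_of_not_eleven hcard _ h1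
  have hPK : (P : Subgroup G) ≤ normalizer (K : Set G) := le_normalizer.trans hNK
  obtain ⟨n, hn7, hn⟩ := exists_count P (normalizer (K : Set G)) hPK
  rw [inf_eq_right.2 hNK, hN] at hn
  obtain ⟨R, hR1, hR2, hR3⟩ := exists_growth (m := 3) (T := K) (by rw [hK]; norm_num)
    (by rw [hcard]; norm_num)
  have h16 : 16 ∣ n * 168 := by
    rw [hn]
    have := Subgroup.card_dvd_of_le hR3
    rw [hR2, hK] at this
    simpa using this
  rw [← hn] at h2
  rcases arith_one hn7 h2 h16 with rfl | rfl
  · rw [← hn]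
  exfalso
  -- index 22
  set M := normalizer (K : Set G) with hM
  have hidx : M.index = 22 := by
    have h3 := M.card_mul_index
    rw [hcard, ← hn] at h3
    omega
  have hMtop : M ≠ ⊤ := by
    intro h
    rw [h, Subgroup.index_top] at hidx
    omega
  have hP' : Nat.card (P : Subgroup G) = 7 := hP
  -- fixed points
  have hfixmem : ∀ g : G, (∀ y ∈ (P : Subgroup G), y • (g : G ⧸ M) = (g : G ⧸ M)) → g ∈ M := by
    intro g hg
    have h3 : ∀ y ∈ (P : Subgroup G), g⁻¹ * y * g ∈ M := by
      intro y hy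
      have h4 : ((y * g : G) : G ⧸ M) = (g : G ⧸ M) := hg y hy
      have h5 := QuotientGroup.eq.1 h4.symm
      rwa [← mul_assoc] at h5
    have h4 : ((g⁻¹ • P : Sylow 7 G) : Subgroup G) ≤ M := by
      intro x hx
      rw [Sylow.coe_subgroup_smul, Subgroup.mem_pointwise_smul_iff_inv_smul_mem] at hx
      have h5 := h3 _ hx
      simpa [MulAut.smul_def, MulAut.conj_apply, mul_assoc] using h5
    obtain ⟨c, hc⟩ := MulAction.exists_smul_eq M (P.subtype hPK) ((g⁻¹ • P : Sylow 7 G).subtype h4)
    rw [Sylow.smul_subtype] at hc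
    have h5 : (c : G) • P = g⁻¹ • P := Sylow.subtype_injective hc
    have h6 : (g * c) • P = P := by
      rw [mul_smul, h5, smul_inv_smul]
    have h7 := hNK (Sylow.smul_eq_iff_mem_normalizer.1 h6)
    have h8 : g = (g * c) * (c : G)⁻¹ := by group
    rw [h8]
    exact M.mul_mem h7 (M.inv_mem c.2)
  obtain ⟨o, ho1, ho2⟩ := OrbitSign.card_dvd_of_commute (Ω := G ⧸ M) hGc
    (faithful_quotient M hMtop) (P : Subgroup G) K
    (by rw [hP']; decide) hloc.comm
    (by rw [hP', hK]; norm_num)
    (by
      intro ω ω' hω hω'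
      induction ω using QuotientGroup.induction_on with
      | H g =>
      induction ω' using QuotientGroup.induction_on with
      | H g' =>
      rw [QuotientGroup.eq]
      exact M.mul_mem (M.inv_mem (hfixmem g hω)) (hfixmem g' hω'))
    (fun ω hω => eq_one_of_moved (by norm_num) hP' hω)
  have hfix1 : Nat.card {ω : G ⧸ M // ∀ y ∈ (P : Subgroup G), y • ω = ω} = 1 := by
    rw [Nat.card_eq_one_iff_unique]
    refine ⟨⟨fun a b => Subtype.ext ?_⟩, ⟨⟨((1 : G) : G ⧸ M), ?_⟩⟩⟩
    · obtain ⟨ω, hω⟩ := a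
      obtain ⟨ω', hω'⟩ := b
      induction ω using QuotientGroup.induction_on with
      | H g =>
      induction ω' using QuotientGroup.induction_on with
      | H g' =>
      change ((g : G) : G ⧸ M) = (g' : G ⧸ M)
      rw [QuotientGroup.eq]
      exact M.mul_mem (M.inv_mem (hfixmem g hω)) (hfixmem g' hω')
    · intro y hy
      change ((y * 1 : G) : G ⧸ M) = _
      rw [QuotientGroup.eq]
      simpa using M.inv_mem (hPK hy)
  rw [hfix1, hP'] at ho1
  have h3 : Nat.card (G ⧸ M) = 22 := hidx
  rw [h3] at ho1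
  have ho : o = 3 := by omega
  subst ho
  rw [hK] at ho2
  rcases ho2 with h | h
  · revert h; decide
  · omega

/-- If `M` has a normal subgroup `Y ≥ K` with `Y ≠ K`, `Y ≠ M`, then a Sylow 2-subgroup of `M` is
normal in `M`. Here `M = N(K)` has order 1344. -/
theorem normal_of_normal [Fact (Nat.Prime 7)] (P : Sylow 7 G)
    (hP : Nat.card (P : Subgroup G) = 7) {K : Subgroup G}
    (hloc : IsLocal 7 P 3 K) (hK : Nat.card K = 8)
    (hM : Nat.card (normalizer (K : Set G)) = 1344) (T : Subgroup G)
    (hT : Nat.card T = 64) (hTM : T ≤ normalizer (K : Set G))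
    (Y : Subgroup G) (hKY : K ≤ Y) (hYM : Y ≤ normalizer (K : Set G))
    (hnorm : normalizer (K : Set G) ≤ normalizer (Y : Set G)) (hYK : Y ≠ K)
    (hYM' : Y ≠ normalizer (K : Set G)) :
    normalizer (K : Set G) ≤ normalizer (T : Set G) := by
  have h2p : Fact (Nat.Prime 2) := ⟨Nat.prime_two⟩
  have hN : Nat.card (normalizer (P : Set G)) = 168 := by
    rw [hloc.card_normalizer, hK]
  have hNK := hloc.normalizer_le
  have hPM : (P : Subgroup G) ≤ normalizer (K : Set G) := le_normalizer.trans hNK
  -- a normal subgroup of order 64 of `M` is `T`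
  have huniq : ∀ C : Subgroup G, Nat.card C = 64 → C ≤ normalizer (K : Set G) →
      normalizer (K : Set G) ≤ normalizer (C : Set G) → C = T := by
    intro C hC hCM hMC
    -- `C T` is a 2-group
    have h1 : (C.subgroupOf (normalizer (K : Set G))).Normal := by
      constructor
      intro x hx g
      rw [Subgroup.mem_subgroupOf] at hx ⊢
      exact (mem_normalizer_iff.1 (hMC g.2) _).1 hx
    have hc1 : Nat.card (C.subgroupOf (normalizer (K : Set G))) = 64 := by
      rw [Nat.card_congr (subgroupOfEquivOfLe hCM).toEquiv, hC]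
    have hc2 : Nat.card (T.subgroupOf (normalizer (K : Set G))) = 64 := by
      rw [Nat.card_congr (subgroupOfEquivOfLe hTM).toEquiv, hT]
    have hs1 : ∀ S : Subgroup (normalizer (K : Set G)), Nat.card S = 64 →
        ∃ S' : Sylow 2 (normalizer (K : Set G)), (S' : Subgroup (normalizer (K : Set G))) = S := by
      intro S hS
      obtain ⟨S', hS'⟩ := (IsPGroup.of_card (n := 6) (by rw [hS]; norm_num) :
        IsPGroup 2 S).exists_le_sylow
      refine ⟨S', (Subgroup.eq_of_le_of_card_ge hS' ?_).symm⟩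
      obtain ⟨k, hk⟩ := IsPGroup.iff_card.1 S'.isPGroup'
      have h3 : 2 ^ k ∣ 1344 := by
        rw [← hk, ← hM]
        exact Subgroup.card_subgroup_dvd_card _
      have h4 : k ≤ 6 := by
        by_contra hcon
        have : 2 ^ 7 ∣ 1344 := (pow_dvd_pow 2 (by omega)).trans h3
        revert this; decide
      rw [hk, hS]
      calc 2 ^ k ≤ 2 ^ 6 := Nat.pow_le_pow_right (by norm_num) h4
        _ = 64 := by norm_num
    obtain ⟨C', hC'⟩ := hs1 _ hc1
    obtain ⟨T', hT'⟩ := hs1 _ hc2
    have hCn : (C' : Subgroup (normalizer (K : Set G))).Normal := by rw [hC']; exact h1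
    have h5 : T' = C' := by
      have := Sylow.unique_of_normal C' hCn
      exact this.eq_default T' |>.trans (this.eq_default C').symm
    have h6 : C.subgroupOf (normalizer (K : Set G)) = T.subgroupOf (normalizer (K : Set G)) := by
      rw [← hC', ← hT', h5]
    have h7 := congrArg (Subgroup.map (normalizer (K : Set G)).subtype) h6
    rwa [subgroupOf_map_subtype, subgroupOf_map_subtype, inf_eq_left.2 hCM,
      inf_eq_left.2 hTM] at h7
  by_cases h7 : 7 ∣ Nat.card Y
  · -- `P ≤ Y`
    have hPY : (P : Subgroup G) ≤ Y := by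
      obtain ⟨y, hy⟩ := exists_prime_orderOf_dvd_card' (G := Y) 7 h7
      have hy' : orderOf (y : G) = 7 := by rw [Subgroup.orderOf_coe, hy]
      obtain ⟨Q, hQ⟩ := (IsPGroup.of_card (n := 1) (by rw [Nat.card_zpowers, hy', pow_one]) :
        IsPGroup 7 (zpowers (y : G))).exists_le_sylow
      have hQ7 : Nat.card (Q : Subgroup G) = 7 := by
        exact (Nat.card_congr (Sylow.equiv Q P).toEquiv).trans hP
      have hQe : zpowers (y : G) = (Q : Subgroup G) :=
        Subgroup.eq_of_le_of_card_ge hQ (by rw [hQ7, Nat.card_zpowers, hy'])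
      have hQY : (Q : Subgroup G) ≤ Y := by rw [← hQe, zpowers_le]; exact y.2
      obtain ⟨c, hc⟩ := MulAction.exists_smul_eq (normalizer (K : Set G))
        (Q.subtype (hQY.trans hYM)) (P.subtype hPM)
      rw [Sylow.smul_subtype] at hc
      have h5 : (c : G) • Q = P := Sylow.subtype_injective hc
      intro x hx
      rw [← h5, Sylow.coe_subgroup_smul, Subgroup.mem_pointwise_smul_iff_inv_smul_mem] at hx
      have h8 := (mem_normalizer_iff.1 (hnorm c.2) _).1 (hQY hx)
      simpa [MulAut.smul_def, MulAut.conj_apply, mul_assoc] using h8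
    -- Frattini
    obtain ⟨n, hn7, hn⟩ := exists_count P Y hPY
    obtain ⟨n', hn7', hn'⟩ := exists_count P (normalizer (K : Set G)) hPM
    rw [inf_eq_right.2 hNK, hN, hM] at hn'
    have hn8 : n' = 8 := by omega
    have hcards := card_inf_eq P hP hK hN (Y ⊓ normalizer (P : Set G))
      (le_inf hPY le_normalizer) (le_inf hKY (hloc.le_centralizer.trans
        (Cfsg.Agent.SmallSimple.SylowPrimeCount.centralizer_le_normalizer' _))) inf_le_right
    have hYdvd : Nat.card Y ∣ 1344 := hM ▸ Subgroup.card_dvd_of_le hYM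
    have hn1 : n ∣ 24 := by
      rw [← hn] at hYdvd
      rcases hcards with h | h <;> rw [h] at hYdvd
      · have : n * 56 ∣ 24 * 56 := by simpa using hYdvd
        exact Nat.dvd_of_mul_dvd_mul_right (by norm_num) this
      · have : n * 168 ∣ 8 * 168 := by simpa using hYdvd
        exact (Nat.dvd_of_mul_dvd_mul_right (by norm_num) this).trans (by norm_num)
    have hncase : n = 1 ∨ n = 8 := by
      have : n ≤ 24 := Nat.le_of_dvd (by norm_num) hn1
      interval_cases n <;> omega
    -- `P` normal in `Y` is impossible since all Sylow 7-subgroups of `M` are in `Y`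
    have hn1' : n ≠ 1 := by
      rintro rfl
      have h8 : Y ≤ normalizer (P : Set G) := by
        have h9 : Y ⊓ normalizer (P : Set G) = Y :=
          Subgroup.eq_of_le_of_card_ge inf_le_left (by omega)
        exact inf_eq_left.1 h9
      have h9 : normalizer (K : Set G) ≤ normalizer (P : Set G) := by
        intro g hg
        rw [← Sylow.smul_eq_iff_mem_normalizer]
        -- both are Sylow 7-subgroups of Y, P normal in Y
        have hgY : ((g • P : Sylow 7 G) : Subgroup G) ≤ Y := by
          intro x hx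
          rw [Sylow.coe_subgroup_smul, Subgroup.mem_pointwise_smul_iff_inv_smul_mem] at hx
          have h8 := (mem_normalizer_iff.1 (hnorm hg) _).1 (hPY hx)
          simpa [MulAut.smul_def, MulAut.conj_apply, mul_assoc] using h8
        obtain ⟨c, hc⟩ := MulAction.exists_smul_eq Y (P.subtype hPY)
          ((g • P : Sylow 7 G).subtype hgY)
        rw [Sylow.smul_subtype] at hc
        have h5 : (c : G) • P = g • P := Sylow.subtype_injective hc
        rw [← h5]
        exact Sylow.smul_eq_iff_mem_normalizer.2 (h8 c.2)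
      have h10 := Subgroup.card_le_of_le h9
      rw [hM, hN] at h10
      omega
    have hn8' : n = 8 := by omega
    subst hn8'
    rcases hcards with h | h
    · -- `|Y| = 448`: Burnside
      rw [h] at hn
      have hY448 : Nat.card Y = 448 := by omega
      let PY : Sylow 7 Y := P.subtype hPY
      have hburn : normalizer (PY : Set Y) ≤ centralizer (PY : Set Y) := by
        intro y hy
        have h11 : (y : G) ∈ Y ⊓ normalizer (P : Set G) := by
          refine Subgroup.mem_inf.2 ⟨y.2, mem_normalizer_iff.2 fun x => ?_⟩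
          have hmem : ∀ x : G, x ∈ (P : Subgroup G) → ∀ w : Y, w ∈ normalizer (PY : Set Y) →
              (w : G) * x * (w : G)⁻¹ ∈ (P : Subgroup G) := by
            intro x hx w hw
            have h12 := (mem_normalizer_iff.1 hw ⟨x, hPY hx⟩).1 (by
              change (⟨x, hPY hx⟩ : Y) ∈ (P : Subgroup G).subgroupOf Y
              rw [Subgroup.mem_subgroupOf]
              exact hx)
            exact Subgroup.mem_subgroupOf.1 h12
          constructor
          · intro hx; exact hmem x hx y hy
          · intro hx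
            have h12 := hmem _ hx y⁻¹ (inv_mem hy)
            have h13 : ((y⁻¹ : Y) : G) * ((y : G) * x * (y : G)⁻¹) * ((y⁻¹ : Y) : G)⁻¹ = x := by
              rw [InvMemClass.coe_inv]; group
            rwa [h13] at h12
        -- order 56 = |P K|
        have h12 : Y ⊓ normalizer (P : Set G) ≤ centralizer (P : Set G) := by
          have h13 : centralizer (P : Set G) ≤ Y := by
            -- `C(P) = P K`
            have h14 : Nat.card ((P : Subgroup G) ⊔ K : Subgroup G) = 56 := by
              have h15 : 7 ∣ Nat.card ((P : Subgroup G) ⊔ K : Subgroup G) := by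
                have := Subgroup.card_dvd_of_le (le_sup_left : (P : Subgroup G) ≤ (P : Subgroup G) ⊔ K)
                rwa [hP] at this
              have h16 : 8 ∣ Nat.card ((P : Subgroup G) ⊔ K : Subgroup G) := by
                have := Subgroup.card_dvd_of_le (le_sup_right : K ≤ (P : Subgroup G) ⊔ K)
                rwa [hK] at this
              have h17 : (P : Subgroup G) ⊔ K ≤ centralizer (P : Set G) := by
                refine sup_le ?_ hloc.le_centralizer
                intro x hx
                rw [mem_centralizer_iff]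
                intro z hz
                exact comm_of_card_prime (by norm_num) (P : Subgroup G) hP z hz x hx
              have h18 := Subgroup.card_dvd_of_le h17
              rw [hloc.card_centralizer, hK] at h18
              have h19 : 7 * 8 ∣ Nat.card ((P : Subgroup G) ⊔ K : Subgroup G) :=
                Nat.Coprime.mul_dvd_of_dvd_of_dvd (by norm_num) h15 h16
              exact Nat.dvd_antisymm h18 h19
            have h15 : (P : Subgroup G) ⊔ K = centralizer (P : Set G) := by
              apply Subgroup.eq_of_le_of_card_ge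
              · refine sup_le ?_ hloc.le_centralizer
                intro x hx
                rw [mem_centralizer_iff]
                intro z hz
                exact comm_of_card_prime (by norm_num) (P : Subgroup G) hP z hz x hx
              · rw [hloc.card_centralizer, hK, h14]
            rw [← h15]
            exact sup_le hPY hKY
          have h14 : centralizer (P : Set G) = Y ⊓ normalizer (P : Set G) := by
            apply Subgroup.eq_of_le_of_card_ge
            · exact le_inf h13
                (Cfsg.Agent.SmallSimple.SylowPrimeCount.centralizer_le_normalizer' _)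
            · rw [h, hloc.card_centralizer, hK]
          rw [← h14]
        have h13 := h12 h11
        rw [mem_centralizer_iff] at h13 ⊢
        intro z hz
        apply Subtype.ext
        exact h13 z (by
          have : z ∈ (P : Subgroup G).subgroupOf Y := hz
          exact Subgroup.mem_subgroupOf.1 this)
      have hcompl := MonoidHom.ker_transferSylow_isComplement' PY hburn
      set C := (MonoidHom.transferSylow PY hburn).ker with hCdef
      have hCcard : Nat.card C = 64 := by
        have h11 := hcompl.card_mul_card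
        have h12 : Nat.card (PY : Subgroup Y) = 7 := by
          change Nat.card ((P : Subgroup G).subgroupOf Y) = 7
          rw [Nat.card_congr (subgroupOfEquivOfLe hPY).toEquiv, hP]
        rw [h12, hY448] at h11
        omega
      have hCuniq : ∀ S : Subgroup Y, Nat.card S = 64 → S = C := by
        intro S hS
        have hs1 : ∀ S : Subgroup Y, Nat.card S = 64 →
            ∃ S' : Sylow 2 Y, (S' : Subgroup Y) = S := by
          intro S hS
          obtain ⟨S', hS'⟩ := (IsPGroup.of_card (n := 6) (by rw [hS]; norm_num) :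
            IsPGroup 2 S).exists_le_sylow
          refine ⟨S', (Subgroup.eq_of_le_of_card_ge hS' ?_).symm⟩
          obtain ⟨k, hk⟩ := IsPGroup.iff_card.1 S'.isPGroup'
          have h3 : 2 ^ k ∣ 448 := by
            rw [← hk, ← hY448]
            exact Subgroup.card_subgroup_dvd_card _
          have h4 : k ≤ 6 := by
            by_contra hcon
            have : 2 ^ 7 ∣ 448 := (pow_dvd_pow 2 (by omega)).trans h3
            revert this; decide
          rw [hk, hS]
          calc 2 ^ k ≤ 2 ^ 6 := Nat.pow_le_pow_right (by norm_num) h4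
            _ = 64 := by norm_num
        obtain ⟨S', hS'⟩ := hs1 S hS
        obtain ⟨C', hC'⟩ := hs1 C hCcard
        have hCn : (C' : Subgroup Y).Normal := by
          rw [hC', hCdef]; exact MonoidHom.normal_ker _
        have h5 : S' = C' := by
          have := Sylow.unique_of_normal C' hCn
          exact this.eq_default S' |>.trans (this.eq_default C').symm
        rw [← hS', ← hC', h5]
      -- `C` as a subgroup of `G`
      have hCG : Nat.card (C.map Y.subtype) = 64 := by
        rw [Nat.card_congr (C.equivMapOfInjective _ Y.subtype_injective).symm.toEquiv, hCcard]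
      have hCnorm : normalizer (K : Set G) ≤ normalizer ((C.map Y.subtype : Subgroup G) : Set G) := by
        intro g hg
        rw [← map_conj_eq_iff_mem_normalizer]
        have hYg := (map_conj_eq_iff_mem_normalizer Y g).2 (hnorm hg)
        have hle : (C.map Y.subtype).map (MulAut.conj g).toMonoidHom ≤ Y := by
          have h11 : C.map Y.subtype ≤ Y := by
            rintro _ ⟨c, -, rfl⟩; exact c.2
          have := Subgroup.map_mono (f := (MulAut.conj g).toMonoidHom) h11
          rwa [hYg] at this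
        have h11 := hCuniq (((C.map Y.subtype).map (MulAut.conj g).toMonoidHom).subgroupOf Y) (by
          rw [Nat.card_congr (subgroupOfEquivOfLe hle).toEquiv, card_map_conj, hCG])
        have h12 := congrArg (Subgroup.map Y.subtype) h11
        rwa [subgroupOf_map_subtype, inf_eq_left.2 hle] at h12
      have h11 := huniq _ hCG (by
        rintro _ ⟨c, -, rfl⟩; exact hYM c.2) hCnorm
      rw [h11] at hCnorm
      exact hCnorm
    · -- `|Y| = 1344`
      exfalso
      rw [h] at hn
      exact hYM' (Subgroup.eq_of_le_of_card_ge hYM (by rw [hM]; omega))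
  · -- `7 ∤ |Y|`
    have hYdvd : Nat.card Y ∣ 1344 := hM ▸ Subgroup.card_dvd_of_le hYM
    have hYdvd2 : Nat.card Y ∣ 192 := by
      have : Nat.card Y ∣ 7 * 192 := by simpa using hYdvd
      exact (Nat.Coprime.dvd_mul_left
        ((Nat.Prime.coprime_iff_not_dvd (by norm_num)).2 h7).symm).1 this
    have hKdvd : 8 ∣ Nat.card Y := hK ▸ Subgroup.card_dvd_of_le hKY
    -- fixed points of `P` on `Y`
    have hmod : Nat.card Y % 7 = 1 := by
      have hPnY : ∀ x ∈ (P : Subgroup G), ∀ y ∈ Y, x * y * x⁻¹ ∈ Y := fun x hx y hy =>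
        (mem_normalizer_iff.1 (hnorm (hPM hx)) y).1 hy
      let act : MulAction (P : Subgroup G) Y :=
        { smul := fun x y => ⟨(x : G) * y * (x : G)⁻¹, hPnY x x.2 y y.2⟩
          one_smul := fun y => Subtype.ext (by
            show ((1 : (P : Subgroup G)) : G) * y * ((1 : (P : Subgroup G)) : G)⁻¹ = y
            simp)
          mul_smul := fun a b y => Subtype.ext (by
            show ((a * b : (P : Subgroup G)) : G) * y * ((a * b : (P : Subgroup G)) : G)⁻¹ =
              a * (b * y * (b : G)⁻¹) * (a : G)⁻¹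
            rw [Subgroup.coe_mul]; group) }
      have h1 := P.isPGroup'.card_modEq_card_fixedPoints (α := Y)
      have h2 : Nat.card (MulAction.fixedPoints (P : Subgroup G) Y) = 8 := by
        rw [← hK]
        refine Nat.card_congr
          { toFun := fun y => ⟨(y : Y), ?_⟩
            invFun := fun k => ⟨⟨k, hKY k.2⟩, ?_⟩
            left_inv := fun y => rfl
            right_inv := fun k => rfl }
        · obtain ⟨⟨y, hyY⟩, hy⟩ := y
          apply hloc.mem_of_coprime
          · rw [mem_centralizer_iff]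
            intro x hx
            have h3 : x * y * x⁻¹ = y := congrArg Subtype.val (hy ⟨x, hx⟩)
            calc x * y = x * y * x⁻¹ * x := by group
              _ = y * x := by rw [h3]
          · intro h3
            apply h7
            refine h3.trans ?_
            rw [← Subgroup.orderOf_mk y hyY]
            exact orderOf_dvd_natCard _
        · intro x
          apply Subtype.ext
          show (x : G) * k * (x : G)⁻¹ = k
          rw [← hloc.comm k k.2 x x.2]
          group
      rw [h2] at h1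
      exact h1
    have hcase : Nat.card Y = 8 ∨ Nat.card Y = 64 := by
      have : Nat.card Y ≤ 192 := Nat.le_of_dvd (by norm_num) hYdvd2
      obtain ⟨k, hk⟩ := hKdvd
      rw [hk] at hYdvd2 hmod this ⊢
      have hk24 : k ≤ 24 := by omega
      interval_cases k <;> omega
    rcases hcase with h | h
    · exfalso
      exact hYK (Subgroup.eq_of_le_of_card_ge hKY (by rw [h, hK])).symm
    · rw [← huniq Y h hYM hnorm]
      exact hnorm

/-- `M / K` is simple of order 168 and its Sylow 2-subgroup `T / K` is isomorphic to any complement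
`L` of `K` in `T`. -/
theorem quotient_facts [Fact (Nat.Prime 7)] (P : Sylow 7 G)
    (hP : Nat.card (P : Subgroup G) = 7) {K : Subgroup G}
    (hloc : IsLocal 7 P 3 K) (hK : Nat.card K = 8)
    (hM : Nat.card (normalizer (K : Set G)) = 1344) (T : Subgroup G)
    (hT : Nat.card T = 64) (hTM : T ≤ normalizer (K : Set G))
    (hTn : ¬ normalizer (K : Set G) ≤ normalizer (T : Set G))
    (L : Subgroup G) (hL : Nat.card L = 8) (hLM : L ≤ normalizer (K : Set G))
    (hKL : K ⊓ L = ⊥) :
    Nonempty (L ≃* DihedralGroup 4) ∧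
      ∀ a ∈ L, ∀ b ∈ L, a * a = 1 → a ≠ 1 → b * b = 1 → b ≠ 1 →
        ∃ h ∈ normalizer (K : Set G), ∃ κ ∈ K, h * b * h⁻¹ = a * κ := by
  classical
  have h2p : Fact (Nat.Prime 2) := ⟨Nat.prime_two⟩
  set M := normalizer (K : Set G) with hMdef
  have hKM : K ≤ M := le_normalizer
  set Kn := K.subgroupOf M with hKn
  have hKnn : Kn.Normal := by
    constructor
    intro x hx g
    rw [hKn, Subgroup.mem_subgroupOf] at hx ⊢
    exact (mem_normalizer_iff.1 g.2 _).1 hx
  have hKncard : Nat.card Kn = 8 := by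
    rw [hKn, Nat.card_congr (subgroupOfEquivOfLe hKM).toEquiv, hK]
  have hX : Nat.card (M ⧸ Kn) = 168 := by
    have h1 := Subgroup.card_eq_card_quotient_mul_card_subgroup Kn
    rw [hM, hKncard] at h1
    omega
  have hsimple : IsSimpleGroup (M ⧸ Kn) := by
    have hnt : Nontrivial (M ⧸ Kn) := by
      rw [← Finite.one_lt_card_iff_nontrivial, hX]; norm_num
    refine ⟨fun H hH => ?_⟩
    by_contra hcon
    push Not at hcon
    obtain ⟨hbot, htop⟩ := hcon
    apply hTn
    set Y0 := H.comap (QuotientGroup.mk' Kn) with hY0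
    have hY0n : Y0.Normal := hH.comap _
    have hKnY : Kn ≤ Y0 := by
      intro x hx
      rw [hY0, Subgroup.mem_comap]
      have : QuotientGroup.mk' Kn x = 1 := (QuotientGroup.eq_one_iff x).2 hx
      rw [this]
      exact one_mem _
    have hmapY : Y0.map (QuotientGroup.mk' Kn) = H :=
      Subgroup.map_comap_eq_self_of_surjective (QuotientGroup.mk'_surjective Kn) H
    refine normal_of_normal P hP hloc hK hM T hT hTM (Y0.map M.subtype) ?_ ?_ ?_ ?_ ?_
    · intro k hk
      exact ⟨⟨k, hKM hk⟩, hKnY (by rw [hKn, Subgroup.mem_subgroupOf]; exact hk), rfl⟩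
    · rintro _ ⟨y, -, rfl⟩
      exact y.2
    · intro g hg
      rw [mem_normalizer_iff]
      intro x
      have key : ∀ g ∈ M, ∀ x ∈ Y0.map M.subtype, g * x * g⁻¹ ∈ Y0.map M.subtype := by
        rintro g hg _ ⟨y, hy, rfl⟩
        exact ⟨⟨g, hg⟩ * y * ⟨g, hg⟩⁻¹, hY0n.conj_mem y hy ⟨g, hg⟩, rfl⟩
      refine ⟨key g hg x, fun h => ?_⟩
      have := key g⁻¹ (M.inv_mem hg) _ h
      simpa [mul_assoc] using this
    · intro h
      apply hbot
      rw [← hmapY]
      rw [eq_bot_iff]
      rintro _ ⟨y, hy, rfl⟩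
      rw [Subgroup.mem_bot]
      change ((y : M) : M ⧸ Kn) = 1
      rw [QuotientGroup.eq_one_iff, hKn, Subgroup.mem_subgroupOf]
      rw [← h]
      exact ⟨y, hy, rfl⟩
    · intro h
      apply htop
      rw [← hmapY]
      have h1 : Y0 = ⊤ := by
        rw [eq_top_iff]
        intro y _
        have h2 : (y : G) ∈ Y0.map M.subtype := by rw [h]; exact y.2
        obtain ⟨z, hz, hzy⟩ := h2
        have : z = y := Subtype.ext hzy
        rwa [this] at hz
      rw [h1]
      exact Subgroup.map_top_of_surjective _ (QuotientGroup.mk'_surjective Kn)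
  -- the map `L → M / K`
  let φ : L →* M ⧸ Kn := (QuotientGroup.mk' Kn).comp (Subgroup.inclusion hLM)
  have hφ : Function.Injective φ := by
    rw [← MonoidHom.ker_eq_bot_iff, eq_bot_iff]
    intro x hx
    rw [MonoidHom.mem_ker] at hx
    have h1 : Subgroup.inclusion hLM x ∈ Kn := (QuotientGroup.eq_one_iff _).1 hx
    rw [hKn, Subgroup.mem_subgroupOf] at h1
    have h2 : (x : G) ∈ K ⊓ L := ⟨h1, x.2⟩
    rw [hKL, Subgroup.mem_bot] at h2
    exact Subgroup.mem_bot.2 (Subtype.ext h2)
  have hrange : Nat.card φ.range = 8 := by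
    rw [← hL]
    exact (Nat.card_congr (MonoidHom.ofInjective hφ).toEquiv).symm
  obtain ⟨S, hS⟩ := Simple168Classes.exists_sylow_of_card_eight hX φ.range hrange
  obtain ⟨e⟩ := Simple168Classes.sylow_two_dihedral hX S
  refine ⟨⟨(MonoidHom.ofInjective hφ).trans ((MulEquiv.subgroupCongr hS).symm.trans e)⟩, ?_⟩
  intro a ha b hb haa ha1 hbb hb1
  have hord : ∀ x : L, x * x = 1 → x ≠ 1 → orderOf (φ x) = 2 := by
    intro x hx hx1
    rw [orderOf_injective φ hφ]
    exact orderOf_eq_prime (by rw [pow_two]; exact hx) hx1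
  have h1 := Simple168Classes.isConj_of_orderOf_two hX (φ ⟨b, hb⟩) (φ ⟨a, ha⟩)
    (hord _ (Subtype.ext hbb) (fun h => hb1 (congrArg Subtype.val h)))
    (hord _ (Subtype.ext haa) (fun h => ha1 (congrArg Subtype.val h)))
  obtain ⟨c, hc⟩ := isConj_iff.1 h1
  obtain ⟨h, rfl⟩ := QuotientGroup.mk'_surjective Kn c
  refine ⟨h, h.2, a⁻¹ * (h * b * (h : G)⁻¹), ?_, by group⟩
  have h2 : QuotientGroup.mk' Kn ((⟨a, hLM ha⟩ : M)⁻¹ * (h * ⟨b, hLM hb⟩ * h⁻¹)) = 1 := by
    rw [map_mul, map_inv, map_mul, map_mul, map_inv]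
    have h3 : QuotientGroup.mk' Kn ⟨a, hLM ha⟩ = φ ⟨a, ha⟩ := rfl
    have h4 : QuotientGroup.mk' Kn ⟨b, hLM hb⟩ = φ ⟨b, hb⟩ := rfl
    rw [h3, h4, hc, inv_mul_cancel]
  have h3 := (QuotientGroup.eq_one_iff _).1 h2
  rw [hKn, Subgroup.mem_subgroupOf] at h3
  exact h3

theorem dihedral_facts :
    (∃ a : DihedralGroup 4, a * a = 1 ∧ a ≠ 1 ∧ ∀ x, a * x = x * a) ∧
    Fintype.card {x : DihedralGroup 4 // x * x = 1 ∧ ¬ ∀ y, x * y = y * x} = 4 ∧
    ∀ x : DihedralGroup 4, x * x = 1 → (¬ ∀ y, x * y = y * x) →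
      Fintype.card {y : DihedralGroup 4 // y * x = x * y} = 4 := by
  refine ⟨by decide, by decide, by decide⟩

/-- The final count: a noncentral involution `b` of `K` commuting with an element of order 3 of
`N(P)` has `64 ∤ |C(b)|`. -/
theorem final_count (hcard : Nat.card G = 443520) [Fact (Nat.Prime 7)] [Fact (Nat.Prime 11)]
    (h11 : ∀ Q : Sylow 11 G, centralizer (Q : Set G) = (Q : Subgroup G))
    (P : Sylow 7 G) (hP : Nat.card (P : Subgroup G) = 7) {K : Subgroup G}
    (hloc : IsLocal 7 P 3 K) (hK : Nat.card K = 8) (b : G) (hb : b ∈ K) (hbb : b * b = 1)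
    (hb1 : b ≠ 1) (hbK : ¬ ∀ x ∈ K, b * x = x * b)
    (h4 : 4 ∣ Nat.card (centralizer ({b} : Set G) ⊓ K : Subgroup G)) (y : G)
    (hy : y ∈ normalizer (P : Set G)) (hy3 : orderOf y = 3) (hyb : y * b = b * y)
    (h64 : 64 ∣ Nat.card (centralizer ({b} : Set G))) : False := by
  have hN : Nat.card (normalizer (P : Set G)) = 168 := by
    rw [hloc.card_normalizer, hK]
  have hPC : (P : Subgroup G) ≤ centralizer ({b} : Set G) := by
    intro x hx
    rw [mem_centralizer_singleton_iff]
    exact (hloc.comm b hb x hx).symm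
  obtain ⟨n, hn7, hn⟩ := exists_count P _ hPC
  set E := centralizer ({b} : Set G) ⊓ normalizer (P : Set G) with hE
  have hE7 : 7 ∣ Nat.card E := by
    have := Subgroup.card_dvd_of_le (le_inf hPC le_normalizer : (P : Subgroup G) ≤ E)
    rwa [hP] at this
  have hE4 : 4 ∣ Nat.card E := h4.trans (Subgroup.card_dvd_of_le
    (inf_le_inf_left _ (hloc.le_centralizer.trans
      (Cfsg.Agent.SmallSimple.SylowPrimeCount.centralizer_le_normalizer' _))))
  have hE3 : 3 ∣ Nat.card E := by
    have hyE : y ∈ E := Subgroup.mem_inf.2 ⟨mem_centralizer_singleton_iff.2 hyb, hy⟩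
    rw [← hy3, ← Subgroup.orderOf_mk y hyE]
    exact orderOf_dvd_natCard _
  have hE84 : 84 ∣ Nat.card E := by
    have h1 : 3 * 4 ∣ Nat.card E := Nat.Coprime.mul_dvd_of_dvd_of_dvd (by norm_num) hE3 hE4
    have h2 : 7 * (3 * 4) ∣ Nat.card E := Nat.Coprime.mul_dvd_of_dvd_of_dvd (by norm_num) hE7 h1
    simpa using h2
  have hE168 : Nat.card E ∣ 168 := hN ▸ Subgroup.card_dvd_of_le inf_le_right
  have hEcard : Nat.card E = 84 := by
    obtain ⟨k, hk⟩ := hE84
    rw [hk] at hE168
    have h2 : k ∣ 2 := by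
      have : 84 * k ∣ 84 * 2 := by simpa using hE168
      exact Nat.dvd_of_mul_dvd_mul_left (by norm_num) this
    rcases (Nat.dvd_prime Nat.prime_two).1 h2 with rfl | rfl
    · exact hk
    · exfalso
      have h3 : E = normalizer (P : Set G) :=
        Subgroup.eq_of_le_of_card_ge inf_le_right (by rw [hk, hN])
      apply hbK
      intro x hx
      have h5 : x ∈ E := by
        rw [h3]
        exact Cfsg.Agent.SmallSimple.SylowPrimeCount.centralizer_le_normalizer' _
          (hloc.le_centralizer hx)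
      exact (mem_centralizer_singleton_iff.1 (Subgroup.mem_inf.1 h5).1).symm
  rw [hEcard] at hn
  have hW : zpowers b ≠ ⊥ := by
    intro h
    rw [zpowers_eq_bot] at h
    exact hb1 h
  have hbord : orderOf b = 2 := orderOf_eq_prime (by rw [pow_two]; exact hbb) hb1
  have hW2 : IsPGroup 2 (zpowers b) :=
    IsPGroup.of_card (n := 1) (by rw [Nat.card_zpowers, hbord, pow_one])
  have h1 := not_eleven_dvd hcard h11 _ hW hW2
  have hCN : centralizer ({b} : Set G) ≤ normalizer ((zpowers b : Subgroup G) : Set G) := by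
    refine le_trans ?_ (Cfsg.Agent.SmallSimple.SylowPrimeCount.centralizer_le_normalizer' _)
    intro x hx
    rw [mem_centralizer_iff]
    intro z hz
    obtain ⟨k, rfl⟩ := mem_zpowers_iff.1 hz
    exact (Commute.zpow_left (show Commute b x from
      (mem_centralizer_singleton_iff.1 hx).symm) k).eq
  have h2 := dvd_of_not_eleven hcard _ (fun h => h1 (h.trans (Subgroup.card_dvd_of_le hCN)))
  rw [← hn] at h2 h64
  have h16 : 16 ∣ n := by
    have h5 : 16 * 4 ∣ n * 21 * 4 := by
      have : n * 21 * 4 = n * 84 := by ring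
      rw [this]; simpa using h64
    have h6 : 16 ∣ n * 21 := Nat.dvd_of_mul_dvd_mul_right (by norm_num) h5
    exact Nat.Coprime.dvd_of_dvd_mul_right (k := 16) (n := 21) (by norm_num) h6
  refine arith_two' (m := 480) (Or.inr (Or.inl rfl)) hn7 h16 ?_
  have : n * 84 ∣ 480 * 84 := by simpa using h2
  exact Nat.dvd_of_mul_dvd_mul_right (by norm_num) this

theorem card_centralizer_conj (g x : G) :
    Nat.card (centralizer ({g * x * g⁻¹} : Set G)) = Nat.card (centralizer ({x} : Set G)) := by
  have h1 : centralizer ({g * x * g⁻¹} : Set G) =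
      (centralizer ({x} : Set G)).map (MulAut.conj g).toMonoidHom := by
    ext z
    rw [mem_conj_iff, mem_centralizer_singleton_iff, mem_centralizer_singleton_iff]
    constructor
    · intro h
      calc g⁻¹ * z * g * x = g⁻¹ * (z * (g * x * g⁻¹)) * g := by group
        _ = g⁻¹ * (g * x * g⁻¹ * z) * g := by rw [h]
        _ = x * (g⁻¹ * z * g) := by group
    · intro h
      calc z * (g * x * g⁻¹) = g * (g⁻¹ * z * g * x) * g⁻¹ := by group
        _ = g * (x * (g⁻¹ * z * g)) * g⁻¹ := by rw [h]
        _ = g * x * g⁻¹ * z := by group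
  rw [h1, card_map_conj]

/-- **Case `e = 3`, `|K| = 8`.** -/
theorem false_three_eight [IsSimpleGroup G] (hcard : Nat.card G = 443520) [Fact (Nat.Prime 7)]
    [Fact (Nat.Prime 11)]
    (h11 : ∀ Q : Sylow 11 G, centralizer (Q : Set G) = (Q : Subgroup G))
    (P : Sylow 7 G) {K : Subgroup G} (hloc : IsLocal 7 P 3 K) (hK : Nat.card K = 8) : False := by
  classical
  have h2p : Fact (Nat.Prime 2) := ⟨Nat.prime_two⟩
  have h3p : Fact (Nat.Prime 3) := ⟨Nat.prime_three⟩
  have hP : Nat.card (P : Subgroup G) = 7 :=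
    card_of_not_sq_dvd (by rw [hcard]; norm_num) (by rw [hcard]; norm_num) P
  have hN : Nat.card (normalizer (P : Set G)) = 168 := by
    rw [hloc.card_normalizer, hK]
  have hM := card_normalizer_K hcard h11 P hP hloc hK
  have hNK := hloc.normalizer_le
  have hKN : K ≤ normalizer (P : Set G) := hloc.le_centralizer.trans
    (Cfsg.Agent.SmallSimple.SylowPrimeCount.centralizer_le_normalizer' _)
  set M := normalizer (K : Set G) with hMdef
  have hKM : K ≤ M := le_normalizer
  have hPM : (P : Subgroup G) ≤ M := le_normalizer.trans hNK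
  -- `T`
  obtain ⟨T, hTM, hKT, hT⟩ : ∃ T : Subgroup G, T ≤ M ∧ K ≤ T ∧ Nat.card T = 64 := by
    obtain ⟨T0, hT0, hKT0⟩ := Sylow.exists_subgroup_card_pow_prime_le (G := M) 2 (n := 3) (m := 6)
      (by rw [hM]; norm_num) (K.subgroupOf M)
      (by rw [Nat.card_congr (subgroupOfEquivOfLe hKM).toEquiv, hK]; norm_num) (by norm_num)
    refine ⟨T0.map M.subtype, ?_, ?_, ?_⟩
    · rintro _ ⟨t, -, rfl⟩
      exact t.2
    · intro k hk
      exact ⟨⟨k, hKM hk⟩, hKT0 (Subgroup.mem_subgroupOf.2 hk), rfl⟩
    · rw [Nat.card_congr (T0.equivMapOfInjective _ M.subtype_injective).symm.toEquiv, hT0]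
      norm_num
  obtain ⟨R, hTR, hR, hRT⟩ := exists_growth (m := 6) (T := T) (by rw [hT]; norm_num)
    (by rw [hcard]; norm_num)
  obtain ⟨s, hsR, hsT⟩ : ∃ s ∈ R, s ∉ T := by
    by_contra hcon
    push Not at hcon
    have := Subgroup.card_le_of_le (show R ≤ T from hcon)
    omega
  have hR128 : 128 ∣ Nat.card R := by rw [hR, hT]
  set L := K.map (MulAut.conj s).toMonoidHom with hLdef
  obtain ⟨hLT, hTL, -, -⟩ := swap_data hTR hR hRT hKT hTM hsR
  have hDR := le_normalizer_inf hTR hR hRT hKT hTM hsR hsT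
  have hL : Nat.card L = 8 := by rw [hLdef, card_map_conj, hK]
  -- `K ∩ L = 1`
  have hD : K ⊓ L = ⊥ := by
    by_contra hcon
    refine false_of_big hcard h11 P hP hK hN hKN (K ⊓ L) R hcon
      ((IsPGroup.of_card (n := 3) (by rw [hK]; norm_num) : IsPGroup 2 K).to_le inf_le_left)
      ?_ ((hKT.trans hTR).trans hDR) hDR hR128
    refine le_trans ?_ (Cfsg.Agent.SmallSimple.SylowPrimeCount.centralizer_le_normalizer' _)
    intro x hx
    rw [mem_centralizer_iff]
    intro z hz
    exact hloc.comm z (Subgroup.mem_inf.1 hz).1 x hx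
  have hcomm : ∀ k ∈ K, ∀ l ∈ L, k * l = l * k := by
    intro k hk l hl
    have h1 : k * l * k⁻¹ * l⁻¹ ∈ K ⊓ L := by
      refine Subgroup.mem_inf.2 ⟨?_, ?_⟩
      · have h2 : l * k⁻¹ * l⁻¹ ∈ K :=
          (mem_normalizer_iff.1 (hTM (hLT hl)) _).1 (K.inv_mem hk)
        have h3 : k * l * k⁻¹ * l⁻¹ = k * (l * k⁻¹ * l⁻¹) := by group
        rw [h3]
        exact K.mul_mem hk h2
      · have h2 : k * l * k⁻¹ ∈ L := (mem_normalizer_iff.1 (hTL (hKT hk)) _).1 hl
        exact L.mul_mem h2 (L.inv_mem hl)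
    rw [hD, Subgroup.mem_bot] at h1
    calc k * l = (k * l * k⁻¹ * l⁻¹) * l * k := by group
      _ = l * k := by rw [h1, one_mul]
  have hprod : ∀ t ∈ T, ∃ k ∈ K, ∃ l ∈ L, t = k * l := by
    let f : K × L → T := fun x => ⟨x.1 * x.2, T.mul_mem (hKT x.1.2) (hLT x.2.2)⟩
    have hf : Function.Injective f := by
      rintro ⟨k, l⟩ ⟨k', l'⟩ h
      have h1 : (k : G) * l = k' * l' := congrArg Subtype.val h
      have h2 : ((k' : G)⁻¹ * k) = l' * (l : G)⁻¹ := by
        calc ((k' : G)⁻¹ * k) = (k' : G)⁻¹ * (k * l) * (l : G)⁻¹ := by group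
          _ = (k' : G)⁻¹ * (k' * l') * (l : G)⁻¹ := by rw [h1]
          _ = l' * (l : G)⁻¹ := by group
      have h3 : ((k' : G)⁻¹ * k) ∈ K ⊓ L := Subgroup.mem_inf.2
        ⟨K.mul_mem (K.inv_mem k'.2) k.2, by rw [h2]; exact L.mul_mem l'.2 (L.inv_mem l.2)⟩
      rw [hD, Subgroup.mem_bot] at h3
      have h4 : (k : G) = k' := (inv_mul_eq_one.1 h3).symm
      rw [h3] at h2
      have h5 : (l' : G) = l := mul_inv_eq_one.1 h2.symm
      exact Prod.ext (Subtype.ext h4) (Subtype.ext h5.symm)
    have hbij := (Nat.bijective_iff_injective_and_card f).2 ⟨hf, by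
      rw [Nat.card_prod, hK, hL, hT]⟩
    intro t ht
    obtain ⟨⟨k, l⟩, hkl⟩ := hbij.2 ⟨t, ht⟩
    exact ⟨k, k.2, l, l.2, (congrArg Subtype.val hkl).symm⟩
  -- `T` is not normal in `M`
  have hTn : ¬ M ≤ normalizer (T : Set G) := by
    intro h
    have hTne : T ≠ ⊥ := by
      rintro rfl
      rw [Subgroup.card_bot] at hT
      omega
    exact false_of_big hcard h11 P hP hK hN hKN T R hTne
      (IsPGroup.of_card (n := 6) (by rw [hT]; norm_num)) (hPM.trans h) (hKM.trans h) hRT hR128
  obtain ⟨⟨eL⟩, hfus⟩ := quotient_facts P hP hloc hK hM T hT hTM hTn L hL (hLT.trans hTM) hD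
  -- `K ≅ L ≅ D_8`
  let eK : K ≃* DihedralGroup 4 :=
    (K.equivMapOfInjective (MulAut.conj s).toMonoidHom (MulAut.conj s).injective).trans eL
  obtain ⟨⟨a0, ha0, ha01, ha0c⟩, hfour, hcen⟩ := dihedral_facts
  -- an element of order three of `N(P)`
  obtain ⟨y, hy⟩ := exists_prime_orderOf_dvd_card' (G := normalizer (P : Set G)) 3
    (by rw [hN]; norm_num)
  have hy3 : orderOf (y : G) = 3 := by rw [Subgroup.orderOf_coe, hy]
  have hyK : (y : G) ∈ normalizer (K : Set G) := hNK y.2
  -- a fixed noncentral involution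
  obtain ⟨b, hbK, hbb, hbc, hyb⟩ : ∃ b ∈ K, b * b = 1 ∧ (¬ ∀ x ∈ K, b * x = x * b) ∧
      (y : G) * b = b * y := by
    let Ω := {x : K // x * x = 1 ∧ ¬ ∀ z, x * z = z * x}
    have hconj : ∀ g ∈ zpowers (y : G), ∀ x : K, g * x * g⁻¹ ∈ K := by
      intro g hg x
      have h1 : g ∈ normalizer (K : Set G) := (zpowers_le.2 hyK) hg
      exact (mem_normalizer_iff.1 h1 _).1 x.2
    have hact : ∀ g : zpowers (y : G), ∀ x : Ω,
        (⟨(g : G) * x.1 * (g : G)⁻¹, hconj g g.2 x.1⟩ : K) * ⟨(g : G) * x.1 * (g : G)⁻¹,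
          hconj g g.2 x.1⟩ = 1 ∧ ¬ ∀ z : K, (⟨(g : G) * x.1 * (g : G)⁻¹, hconj g g.2 x.1⟩ : K) * z =
          z * ⟨(g : G) * x.1 * (g : G)⁻¹, hconj g g.2 x.1⟩ := by
      intro g x
      refine ⟨Subtype.ext ?_, fun h => x.2.2 fun z => Subtype.ext ?_⟩
      · have h1 : ((x.1 : K) : G) * x.1 = 1 := congrArg Subtype.val x.2.1
        change (g : G) * x.1 * (g : G)⁻¹ * ((g : G) * x.1 * (g : G)⁻¹) = 1
        calc (g : G) * x.1 * (g : G)⁻¹ * ((g : G) * x.1 * (g : G)⁻¹) =
            (g : G) * ((x.1 : K) * x.1) * (g : G)⁻¹ := by group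
          _ = 1 := by rw [h1]; group
      · have h1 : (g : G) * x.1 * (g : G)⁻¹ * ((g : G) * z * (g : G)⁻¹) =
            (g : G) * z * (g : G)⁻¹ * ((g : G) * x.1 * (g : G)⁻¹) :=
          congrArg Subtype.val (h ⟨(g : G) * z * (g : G)⁻¹, hconj g g.2 z⟩)
        change ((x.1 : K) : G) * z = z * x.1
        calc ((x.1 : K) : G) * z = (g : G)⁻¹ * ((g : G) * x.1 * (g : G)⁻¹ *
              ((g : G) * z * (g : G)⁻¹)) * g := by group
          _ = (g : G)⁻¹ * ((g : G) * z * (g : G)⁻¹ * ((g : G) * x.1 * (g : G)⁻¹)) * g := by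
              rw [h1]
          _ = z * x.1 := by group
    let act : MulAction (zpowers (y : G)) Ω :=
      { smul := fun g x => ⟨⟨(g : G) * x.1 * (g : G)⁻¹, hconj g g.2 x.1⟩, hact g x⟩
        one_smul := fun x => Subtype.ext (Subtype.ext (by
          show ((1 : zpowers (y : G)) : G) * x.1 * ((1 : zpowers (y : G)) : G)⁻¹ = x.1
          simp))
        mul_smul := fun g g' x => Subtype.ext (Subtype.ext (by
          show ((g * g' : zpowers (y : G)) : G) * x.1 * ((g * g' : zpowers (y : G)) : G)⁻¹ =
            g * (g' * x.1 * (g' : G)⁻¹) * (g : G)⁻¹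
          rw [Subgroup.coe_mul]; group)) }
    have hcardΩ : Nat.card Ω = 4 := by
      rw [← hfour, ← Nat.card_eq_fintype_card]
      refine Nat.card_congr (Equiv.subtypeEquiv eK.toEquiv fun x => ?_)
      change _ ↔ eK x * eK x = 1 ∧ ¬ ∀ z, eK x * z = z * eK x
      rw [← map_mul, map_eq_one_iff eK eK.injective]
      refine and_congr Iff.rfl (not_congr ⟨fun h z => ?_, fun h z => ?_⟩)
      · obtain ⟨w, rfl⟩ := eK.surjective z
        rw [← map_mul, ← map_mul, h]
      · apply eK.injective
        rw [map_mul, map_mul, h]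
    have hA : IsPGroup 3 (zpowers (y : G)) :=
      IsPGroup.of_card (n := 1) (by rw [Nat.card_zpowers, hy3, pow_one])
    obtain ⟨⟨b, hb1, hb2⟩, hb⟩ := hA.nonempty_fixed_point_of_prime_not_dvd_card Ω
      (by rw [hcardΩ]; norm_num)
    refine ⟨b, b.2, congrArg Subtype.val hb1, fun h => hb2 fun z => Subtype.ext (h z z.2), ?_⟩
    have h1 : (y : G) * b * (y : G)⁻¹ = b :=
      congrArg (fun w : Ω => ((w.1 : K) : G)) (hb ⟨y, mem_zpowers _⟩)
    calc (y : G) * b = (y : G) * b * (y : G)⁻¹ * y := by group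
      _ = b * y := by rw [h1]
  have hb1 : b ≠ 1 := by
    rintro rfl
    exact hbc fun x _ => by simp
  -- fusion
  obtain ⟨a, haL, haa, ha1, hac⟩ : ∃ a ∈ L, a * a = 1 ∧ a ≠ 1 ∧ ∀ l ∈ L, a * l = l * a := by
    refine ⟨eL.symm a0, (eL.symm a0).2, ?_, ?_, ?_⟩
    · have h1 : eL.symm a0 * eL.symm a0 = 1 := by rw [← map_mul, ha0, map_one]
      exact congrArg Subtype.val h1
    · intro h
      have h1 : eL.symm a0 = 1 := Subtype.ext h
      rw [map_eq_one_iff eL.symm eL.symm.injective] at h1
      exact ha01 h1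
    · intro l hl
      have h1 : eL.symm a0 * ⟨l, hl⟩ = ⟨l, hl⟩ * eL.symm a0 := by
        apply eL.injective
        rw [map_mul, map_mul, MulEquiv.apply_symm_apply, ha0c]
      exact congrArg Subtype.val h1
  have hbs : s * b * s⁻¹ ∈ L := ⟨b, hbK, rfl⟩
  obtain ⟨h, hhM, κ, hκ, hconj⟩ := hfus a haL (s * b * s⁻¹) hbs haa ha1
    (by
      calc s * b * s⁻¹ * (s * b * s⁻¹) = s * (b * b) * s⁻¹ := by group
        _ = 1 := by rw [hbb]; group)
    (by
      intro h
      apply hb1
      calc b = s⁻¹ * (s * b * s⁻¹) * s := by group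
        _ = 1 := by rw [h]; group)
  -- `a κ` is centralised by `T`
  have hcK : ∀ k ∈ K, (a * κ) * k = k * (a * κ) := by
    intro k hk
    rw [← hconj]
    have h1 : h⁻¹ * k * h ∈ K := by
      have := (mem_normalizer_iff.1 (M.inv_mem hhM) k).1 hk
      simpa using this
    have h2 := hcomm _ h1 _ hbs
    calc h * (s * b * s⁻¹) * h⁻¹ * k = h * ((s * b * s⁻¹) * (h⁻¹ * k * h)) * h⁻¹ := by group
      _ = h * ((h⁻¹ * k * h) * (s * b * s⁻¹)) * h⁻¹ := by rw [h2]
      _ = k * (h * (s * b * s⁻¹) * h⁻¹) := by group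
  have hcL : ∀ l ∈ L, (a * κ) * l = l * (a * κ) := by
    intro l hl
    calc a * κ * l = a * (κ * l) := by group
      _ = a * (l * κ) := by rw [hcomm κ hκ l hl]
      _ = (a * l) * κ := by group
      _ = (l * a) * κ := by rw [hac l hl]
      _ = l * (a * κ) := by group
  have hTc : T ≤ centralizer ({a * κ} : Set G) := by
    intro t ht
    obtain ⟨k, hk, l, hl, rfl⟩ := hprod t ht
    rw [mem_centralizer_singleton_iff]
    calc k * l * (a * κ) = k * (l * (a * κ)) := by group
      _ = k * ((a * κ) * l) := by rw [hcL l hl]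
      _ = (k * (a * κ)) * l := by group
      _ = ((a * κ) * k) * l := by rw [hcK k hk]
      _ = (a * κ) * (k * l) := by group
  have h64 : 64 ∣ Nat.card (centralizer ({b} : Set G)) := by
    have h1 := Subgroup.card_dvd_of_le hTc
    rw [hT, ← hconj, card_centralizer_conj, card_centralizer_conj] at h1
    exact h1
  refine final_count hcard h11 P hP hloc hK b hbK hbb hb1 hbc ?_ y y.2 hy3 hyb h64
  -- `|C_K(b)| = 4`
  have h1 : Nat.card (centralizer ({b} : Set G) ⊓ K : Subgroup G) = 4 := by
    rw [← hcen (eK ⟨b, hbK⟩)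
      (by rw [← map_mul, map_eq_one_iff eK eK.injective]; exact Subtype.ext hbb)
      (by
        intro h
        apply hbc
        intro x hx
        have h1 : (⟨b, hbK⟩ : K) * ⟨x, hx⟩ = ⟨x, hx⟩ * ⟨b, hbK⟩ := by
          apply eK.injective
          rw [map_mul, map_mul, h]
        exact congrArg Subtype.val h1), ← Nat.card_eq_fintype_card]
    refine Nat.card_congr
      { toFun := fun x => ⟨eK ⟨x.1, (Subgroup.mem_inf.1 x.2).2⟩, ?_⟩
        invFun := fun z => ⟨(eK.symm z.1 : K), ?_⟩
        left_inv := fun x => ?_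
        right_inv := fun z => ?_ }
    · rw [← map_mul, ← map_mul]
      congr 1
      exact Subtype.ext (mem_centralizer_singleton_iff.1 (Subgroup.mem_inf.1 x.2).1)
    · refine Subgroup.mem_inf.2 ⟨mem_centralizer_singleton_iff.2 ?_, (eK.symm z.1).2⟩
      have h2 : eK.symm z.1 * ⟨b, hbK⟩ = ⟨b, hbK⟩ * eK.symm z.1 := by
        apply eK.injective
        rw [map_mul, map_mul, MulEquiv.apply_symm_apply]
        exact z.2
      exact congrArg Subtype.val h2
    · apply Subtype.ext
      change ((eK.symm (eK ⟨x.1, _⟩) : K) : G) = x.1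
      rw [MulEquiv.symm_apply_apply]
    · apply Subtype.ext
      change eK ⟨((eK.symm z.1 : K) : G), _⟩ = z.1
      have h2 : (⟨((eK.symm z.1 : K) : G), (eK.symm z.1).2⟩ : K) = eK.symm z.1 := rfl
      rw [h2, MulEquiv.apply_symm_apply]
  rw [h1]

end Cfsg.Agent.M22.SevenThreeEight
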