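import Cfsg.Agent.M22.NonSelfCent
import Cfsg.Agent.SmallSimple.RelSylow
import Cfsg.Agent.SmallSimple.Simple168Klein

/-!
# Tools for the Sylow 7-subgroups of a simple group of order 443520
-/

set_option autoImplicit false

namespace Cfsg.Agent.M22.SevenTools

open Cfsg Subgroup
open Cfsg.Agent.SmallSimple Cfsg.Agent.SmallSimple.PrimeLocal
open Cfsg.Agent.SmallSimple.Simple168Klein

universe u

variable {G : Type u} [Group G] [Finite G]

/-- `11` does not divide the order of the normaliser of a nontrivial 2-subgroup. -/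
theorem not_eleven_dvd (hcard : Nat.card G = 443520) [Fact (Nat.Prime 11)]
    (h11 : ∀ Q : Sylow 11 G, centralizer (Q : Set G) = (Q : Subgroup G))
    (W : Subgroup G) (hW : W ≠ ⊥) (h2 : IsPGroup 2 W) :
    ¬ 11 ∣ Nat.card (normalizer (W : Set G)) := by
  intro h
  have : Fact (Nat.Prime 2) := ⟨Nat.prime_two⟩
  obtain ⟨n, hn⟩ := IsPGroup.iff_card.1 h2
  have hn0 : n ≠ 0 := by
    rintro rfl
    rw [pow_zero] at hn
    exact hW (Subgroup.card_eq_one.1 hn)
  have hn7 : n ≤ 7 := by
    by_contra hcon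
    have h1 : 2 ^ 8 ∣ Nat.card G :=
      (pow_dvd_pow 2 (by omega)).trans (hn ▸ W.card_subgroup_dvd_card)
    rw [hcard] at h1
    revert h1
    decide
  obtain ⟨f, hf⟩ := exists_prime_orderOf_dvd_card' (G := normalizer (W : Set G)) 11 h
  have hf' : orderOf (f : G) = 11 := by rw [Subgroup.orderOf_coe, hf]
  obtain ⟨t, htW, ht2, htf⟩ := NonSelfCent.exists_commuting (q := 11) (r := 2) W f.2 hf'
    (by
      rw [hn]
      intro h1
      have h2 := (Nat.Prime.dvd_of_dvd_pow (by norm_num) h1)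
      omega)
    (by rw [hn]; exact dvd_pow_self 2 hn0)
    (by
      intro j hj hjW
      rw [hn] at hjW
      have hj7 : j ≤ n := (Nat.pow_dvd_pow_iff_le_right (by norm_num)).1 hjW
      have hj7' : j ≤ 7 := by omega
      interval_cases j <;> decide)
  -- a Sylow 11-subgroup containing `f`
  have hp : IsPGroup 11 (zpowers (f : G)) :=
    IsPGroup.of_card (n := 1) (by rw [Nat.card_zpowers, hf', pow_one])
  obtain ⟨Q, hQ⟩ := hp.exists_le_sylow
  have hQ11 : Nat.card Q = 11 :=
    Degrees.card_sylow_eq (m := 40320) (by rw [hcard]) (by norm_num) Q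
  have hQeq : zpowers (f : G) = (Q : Subgroup G) := by
    apply Subgroup.eq_of_le_of_card_ge hQ
    rw [Nat.card_zpowers, hf']
    exact hQ11.le
  have ht : t ∈ centralizer (Q : Set G) := by
    rw [mem_centralizer_iff]
    intro y hy
    have hy' : y ∈ zpowers (f : G) := by rw [hQeq]; exact hy
    obtain ⟨k, rfl⟩ := Subgroup.mem_zpowers_iff.1 hy'
    exact (Commute.zpow_left (show Commute (f : G) t from htf) k).eq
  rw [h11 Q] at ht
  have h3 : orderOf t ∣ 11 := by
    have h4 : orderOf (⟨t, ht⟩ : (Q : Subgroup G)) ∣ Nat.card (Q : Subgroup G) :=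
      orderOf_dvd_natCard _
    rw [Subgroup.orderOf_mk] at h4
    rwa [show Nat.card (Q : Subgroup G) = 11 from hQ11] at h4
  rw [ht2] at h3
  revert h3
  decide

/-- `|H| = n |H ∩ N(P)|` with `n ≡ 1 mod 7`. -/
theorem exists_count [Fact (Nat.Prime 7)] (P : Sylow 7 G) (H : Subgroup G)
    (hPH : (P : Subgroup G) ≤ H) :
    ∃ n, n % 7 = 1 ∧
      n * Nat.card (H ⊓ normalizer (P : Set G) : Subgroup G) = Nat.card H := by
  refine ⟨(normalizer (P : Set G)).relIndex H, ?_, RelSylow.relIndex_mul_card_inf _ H⟩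
  have := RelSylow.relIndex_modEq_one P H hPH
  exact this

/-- Growth of 2-subgroups. -/
theorem exists_growth {m : ℕ} {T : Subgroup G} (hT : Nat.card T = 2 ^ m)
    (h : 2 ^ (m + 1) ∣ Nat.card G) :
    ∃ R : Subgroup G, T ≤ R ∧ Nat.card R = 2 * Nat.card T ∧ R ≤ normalizer (T : Set G) := by
  have : Fact (Nat.Prime 2) := ⟨Nat.prime_two⟩
  obtain ⟨R, hR1, hR2⟩ := Sylow.exists_subgroup_card_pow_succ h hT
  have h1 : Nat.card R = 2 * Nat.card T := by rw [hR1, hT, pow_succ, mul_comm]
  exact ⟨R, hR2, h1, le_normalizer_of_card hR2 h1⟩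

omit [Finite G] in
theorem mem_conj_iff (K : Subgroup G) (s x : G) :
    x ∈ K.map (MulAut.conj s).toMonoidHom ↔ s⁻¹ * x * s ∈ K := by
  constructor
  · rintro ⟨k, hk, rfl⟩
    have : s⁻¹ * (MulAut.conj s).toMonoidHom k * s = k := by
      simp only [MulEquiv.coe_toMonoidHom, MulAut.conj_apply]; group
    rw [this]; exact hk
  · intro h
    refine ⟨_, h, ?_⟩
    simp only [MulEquiv.coe_toMonoidHom, MulAut.conj_apply]; group

/-- The square of an element of a group with a subgroup of index two. -/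
theorem sq_mem_of_card {T R : Subgroup G} (hTR : T ≤ R) (hR : Nat.card R = 2 * Nat.card T)
    {s : G} (hs : s ∈ R) : s * s ∈ T := by
  have h1 : (T.subgroupOf R).index = 2 := by
    have h2 : (T.subgroupOf R).index * Nat.card (T.subgroupOf R) = Nat.card R :=
      index_mul_card _
    rw [Nat.card_congr (subgroupOfEquivOfLe hTR).toEquiv, hR] at h2
    exact Nat.eq_of_mul_eq_mul_right Nat.card_pos h2
  have h3 := Subgroup.mul_self_mem_of_index_two h1 (⟨s, hs⟩ : R)
  exact Subgroup.mem_subgroupOf.1 h3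

/-- Swapping data: `T` has index 2 in `R`, `s ∈ R`, `K ≤ T` normalised by `T`. -/
theorem swap_data {T R K : Subgroup G} (hTR : T ≤ R) (hR : Nat.card R = 2 * Nat.card T)
    (hRT : R ≤ normalizer (T : Set G)) (hKT : K ≤ T) (hTK : T ≤ normalizer (K : Set G))
    {s : G} (hs : s ∈ R) :
    K.map (MulAut.conj s).toMonoidHom ≤ T ∧
    T ≤ normalizer ((K.map (MulAut.conj s).toMonoidHom : Subgroup G) : Set G) ∧
    (K.map (MulAut.conj s).toMonoidHom).map (MulAut.conj s).toMonoidHom = K ∧
    (K.map (MulAut.conj s⁻¹).toMonoidHom) = K.map (MulAut.conj s).toMonoidHom := by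
  have hTs : T.map (MulAut.conj s).toMonoidHom = T :=
    (map_conj_eq_iff_mem_normalizer T s).2 (hRT hs)
  have hss : s * s ∈ T := sq_mem_of_card hTR hR hs
  have hK2 : (K.map (MulAut.conj s).toMonoidHom).map (MulAut.conj s).toMonoidHom = K := by
    rw [map_conj_map_conj]
    exact (map_conj_eq_iff_mem_normalizer K (s * s)).2 (hTK hss)
  refine ⟨?_, ?_, hK2, ?_⟩
  · have := Subgroup.map_mono (f := (MulAut.conj s).toMonoidHom) hKT
    rwa [hTs] at this
  · rw [normalizer_map_conj]
    have := Subgroup.map_mono (f := (MulAut.conj s).toMonoidHom) hTK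
    rwa [hTs] at this
  · conv_lhs => rw [← hK2]
    rw [map_conj_map_conj, inv_mul_cancel, map_conj_one]

/-- The intersection of `K` and its conjugate is normalised by `R`. -/
theorem le_normalizer_inf {T R K : Subgroup G} (hTR : T ≤ R)
    (hR : Nat.card R = 2 * Nat.card T)
    (hRT : R ≤ normalizer (T : Set G)) (hKT : K ≤ T) (hTK : T ≤ normalizer (K : Set G))
    {s : G} (hs : s ∈ R) (hsT : s ∉ T) :
    R ≤ normalizer ((K ⊓ K.map (MulAut.conj s).toMonoidHom : Subgroup G) : Set G) := by
  obtain ⟨h1, h2, h3, h4⟩ := swap_data hTR hR hRT hKT hTK hs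
  -- `R` is generated by `T` and `s`
  intro x hx
  rw [← map_conj_eq_iff_mem_normalizer]
  have hcase : x ∈ T ∨ s⁻¹ * x ∈ T := by
    by_cases hxT : x ∈ T
    · exact Or.inl hxT
    · right
      have h5 : (T.subgroupOf R).index = 2 := by
        have h2 : (T.subgroupOf R).index * Nat.card (T.subgroupOf R) = Nat.card R :=
          index_mul_card _
        rw [Nat.card_congr (subgroupOfEquivOfLe hTR).toEquiv, hR] at h2
        exact Nat.eq_of_mul_eq_mul_right Nat.card_pos h2
      have h6 := (Subgroup.mul_mem_iff_of_index_two h5 (a := (⟨s, hs⟩ : R)⁻¹)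
        (b := (⟨x, hx⟩ : R))).2 (by
          have h7 : (⟨s, hs⟩ : R)⁻¹ ∉ T.subgroupOf R := fun h => hsT (by
            have := (T.subgroupOf R).inv_mem h
            rw [inv_inv] at this
            exact Subgroup.mem_subgroupOf.1 this)
          have h8 : (⟨x, hx⟩ : R) ∉ T.subgroupOf R := fun h => hxT (Subgroup.mem_subgroupOf.1 h)
          exact iff_of_false h7 h8)
      exact Subgroup.mem_subgroupOf.1 h6
  have hT : ∀ t ∈ T, (K ⊓ K.map (MulAut.conj s).toMonoidHom).map (MulAut.conj t).toMonoidHom =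
      K ⊓ K.map (MulAut.conj s).toMonoidHom := by
    intro t ht
    rw [Subgroup.map_inf _ _ _ (MulAut.conj t).injective]
    rw [(map_conj_eq_iff_mem_normalizer K t).2 (hTK ht),
      (map_conj_eq_iff_mem_normalizer _ t).2 (h2 ht)]
  rcases hcase with h | h
  · exact hT x h
  · have hx' : x = s * (s⁻¹ * x) := by group
    rw [hx', ← map_conj_map_conj, hT _ h, Subgroup.map_inf _ _ _ (MulAut.conj s).injective, h3,
      inf_comm]

end Cfsg.Agent.M22.SevenTools
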