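import Cfsg.Agent.M22.SevenChar
import Cfsg.Agent.M22.SevenTools
import Cfsg.Agent.Lib.ProductSet

/-!
# The Sylow 7-subgroups of a simple group of order 443520: arithmetic and the large 2-groups
-/

set_option autoImplicit false
set_option linter.unusedSectionVars false

namespace Cfsg.Agent.M22.Sylow7Core

open Cfsg Subgroup
open Cfsg.Agent.SmallSimple Cfsg.Agent.SmallSimple.PrimeLocal
open Cfsg.Agent.M22.SevenTools Cfsg.Agent.SmallSimple.Simple168Klein

universe u

/-! ### Arithmetic -/

theorem three_check' : ∀ i < 51, ∀ j < 60, 21120 % (1 + 7 * (60 * i + j)) = 0 →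
    (21120 / (1 + 7 * (60 * i + j)) % 11 = 0 ∨ 60 * i + j = 3 ∨ 60 * i + j = 25 ∨
      60 * i + j = 47 ∨ 60 * i + j = 201 ∨ 60 * i + j = 377 ∨ 60 * i + j = 3017) := by
  decide +kernel

theorem three_check (o : ℕ) (ho : o < 3018) (h : 21120 % (1 + 7 * o) = 0) :
    (21120 / (1 + 7 * o) % 11 = 0 ∨ o = 3 ∨ o = 25 ∨ o = 47 ∨ o = 201 ∨ o = 377 ∨ o = 3017) := by
  have h1 := three_check' (o / 60) (by omega) (o % 60) (by omega)
  rw [Nat.div_add_mod] at h1
  exact h1 h

theorem six_check : ∀ o < 1509, 10560 % (1 + 7 * o) = 0 →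
    (10560 / (1 + 7 * o) % 11 = 0 ∨ o = 3 ∨ o = 25 ∨ o = 47 ∨ o = 377) := by
  decide +kernel

theorem cases_ec {e c o : ℕ} (he : e ∣ 6) (he1 : 1 < e)
    (hn : 443520 = (1 + 7 * o) * (7 * e * c)) (h11 : ¬ 11 ∣ c)
    (ho : 2 * c ∣ o.factorial ∨ (o = 1 ∧ c = 1)) :
    (e = 2 ∧ c ≠ 1) ∨ (e = 3 ∧ (c = 1 ∨ c = 8 ∨ c = 64 ∨ 15 ∣ c)) ∨
      (e = 6 ∧ (c = 4 ∨ c = 32 ∨ 15 ∣ c)) := by
  have he' : e = 2 ∨ e = 3 ∨ e = 6 := by
    have h1 : e ≤ 6 := Nat.le_of_dvd (by norm_num) he
    interval_cases e <;> omega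
  rcases he' with rfl | rfl | rfl
  · left
    refine ⟨rfl, ?_⟩
    rintro rfl
    omega
  · right; left
    refine ⟨rfl, ?_⟩
    have h1 : (1 + 7 * o) * c = 21120 := by
      have : (1 + 7 * o) * (7 * 3 * c) = 21 * ((1 + 7 * o) * c) := by ring
      omega
    have h2 : 1 + 7 * o ∣ 21120 := Dvd.intro _ h1
    have h3 := Nat.le_of_dvd (by norm_num) h2
    have h4 : 21120 / (1 + 7 * o) = c := Nat.div_eq_of_eq_mul_right (by omega) h1.symm
    rcases three_check o (by omega) (Nat.mod_eq_zero_of_dvd h2) with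
      h | rfl | rfl | rfl | rfl | rfl | rfl
    · exfalso
      rw [h4] at h
      exact h11 (Nat.dvd_of_mod_eq_zero h)
    · exfalso
      have hc : c = 960 := by omega
      subst hc
      rcases ho with h | h
      · revert h; decide
      · omega
    all_goals omega
  · right; right
    refine ⟨rfl, ?_⟩
    have h1 : (1 + 7 * o) * c = 10560 := by
      have : (1 + 7 * o) * (7 * 6 * c) = 42 * ((1 + 7 * o) * c) := by ring
      omega
    have h2 : 1 + 7 * o ∣ 10560 := Dvd.intro _ h1
    have h3 := Nat.le_of_dvd (by norm_num) h2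
    have h4 : 10560 / (1 + 7 * o) = c := Nat.div_eq_of_eq_mul_right (by omega) h1.symm
    rcases six_check o (by omega) (Nat.mod_eq_zero_of_dvd h2) with
      h | rfl | rfl | rfl | rfl
    · exfalso
      rw [h4] at h
      exact h11 (Nat.dvd_of_mod_eq_zero h)
    · exfalso
      have hc : c = 480 := by omega
      subst hc
      rcases ho with h | h
      · revert h; decide
      · omega
    all_goals omega

theorem div_thirty : ∀ n < 331, (330 % n = 0 ∧ n % 11 ≠ 0 ∧ n % 7 = 1) → n = 1 ∨ n = 15 := by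
  decide +kernel

theorem div_ninety : ∀ n < 991, (990 % n = 0 ∧ n % 11 ≠ 0 ∧ n % 7 = 1) → n % 2 = 1 := by
  decide +kernel

variable {G : Type u} [Group G] [Finite G]

theorem card_mul_le {H K T : Subgroup G} (h1 : H ≤ T) (h2 : K ≤ T) :
    Nat.card H * Nat.card K ≤ Nat.card T * Nat.card (H ⊓ K : Subgroup G) := by
  rw [← Cfsg.Agent.Lib.ProductSet.card_mul_card_inf H K]
  refine Nat.mul_le_mul_right _ ?_
  refine Nat.card_mono (Set.toFinite _) ?_
  rintro _ ⟨x, hx, y, hy, rfl⟩
  exact mul_mem (h1 hx) (h2 hy)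

/-- The order of the normaliser of a nontrivial 2-subgroup normalised by `N(P)`. -/
theorem card_normalizer [IsSimpleGroup G] (hcard : Nat.card G = 443520)
    [Fact (Nat.Prime 11)] [Fact (Nat.Prime 7)]
    (h11 : ∀ Q : Sylow 11 G, centralizer (Q : Set G) = (Q : Subgroup G))
    (P : Sylow 7 G) (W : Subgroup G) (hW : W ≠ ⊥) (h2 : IsPGroup 2 W) {a : ℕ}
    (hPW : (P : Subgroup G) ≤ normalizer (W : Set G))
    (ha : Nat.card (normalizer (W : Set G) ⊓ normalizer (P : Set G) : Subgroup G) = a) :
    ∃ n, n % 7 = 1 ∧ Nat.card (normalizer (W : Set G)) = a * n ∧ a * n ∣ 443520 ∧ ¬ 11 ∣ n := by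
  obtain ⟨n, hn1, hn2⟩ := exists_count P (normalizer (W : Set G)) hPW
  rw [ha] at hn2
  have h3 : Nat.card (normalizer (W : Set G)) = a * n := by rw [← hn2, mul_comm]
  refine ⟨n, hn1, h3, ?_, ?_⟩
  · rw [← h3, ← hcard]
    exact Subgroup.card_subgroup_dvd_card _
  · intro h
    apply not_eleven_dvd hcard h11 W hW h2
    rw [h3]
    exact Dvd.dvd.mul_left h _

theorem isPGroup_of_card {K : Subgroup G} {n : ℕ} (h : Nat.card K = 2 ^ n) : IsPGroup 2 K :=
  have : Fact (Nat.Prime 2) := ⟨Nat.prime_two⟩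
  IsPGroup.of_card h

theorem false_three_sixtyfour [IsSimpleGroup G] (hcard : Nat.card G = 443520)
    [Fact (Nat.Prime 11)] [Fact (Nat.Prime 7)]
    (h11 : ∀ Q : Sylow 11 G, centralizer (Q : Set G) = (Q : Subgroup G))
    (P : Sylow 7 G) {K : Subgroup G} (hloc : IsLocal 7 P 3 K) (hK : Nat.card K = 64) : False := by
  have hNK := hloc.normalizer_le
  have hcN := hloc.card_normalizer
  rw [hK] at hcN
  have hKne : K ≠ ⊥ := by
    rintro rfl
    rw [Subgroup.card_bot] at hK
    omega
  have hinf : normalizer (K : Set G) ⊓ normalizer (P : Set G) = normalizer (P : Set G) :=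
    inf_eq_right.2 hNK
  obtain ⟨n, hn1, hn2, hn3, hn4⟩ := card_normalizer hcard h11 P K hKne
    (isPGroup_of_card (n := 6) (by rw [hK]; norm_num)) (a := 1344)
    (le_trans le_normalizer hNK) (by rw [hinf, hcN])
  obtain ⟨R, hR1, hR2, hR3⟩ := exists_growth (T := K) (m := 6) (by rw [hK]; norm_num)
    (by rw [hcard]; norm_num)
  have h128 : 128 ∣ 1344 * n := by
    rw [← hn2]
    have h1 := Subgroup.card_dvd_of_le hR3
    rw [hR2, hK] at h1
    exact h1
  have h330 : n ∣ 330 := by
    have h1 : 1344 * n ∣ 1344 * 330 := by simpa using hn3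
    exact Nat.dvd_of_mul_dvd_mul_left (by norm_num) h1
  have hle := Nat.le_of_dvd (by norm_num) h330
  rcases div_thirty n (by omega) ⟨Nat.mod_eq_zero_of_dvd h330, by omega, hn1⟩ with rfl | rfl <;>
    revert h128 <;> decide

theorem false_six_thirtytwo [IsSimpleGroup G] (hcard : Nat.card G = 443520)
    [Fact (Nat.Prime 11)] [Fact (Nat.Prime 7)]
    (h11 : ∀ Q : Sylow 11 G, centralizer (Q : Set G) = (Q : Subgroup G))
    (P : Sylow 7 G) {K : Subgroup G} (hloc : IsLocal 7 P 6 K) (hK : Nat.card K = 32) : False := by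
  classical
  have : Fact (Nat.Prime 2) := ⟨Nat.prime_two⟩
  have hNK := hloc.normalizer_le
  have hcN := hloc.card_normalizer
  rw [hK] at hcN
  have hKne : K ≠ ⊥ := by
    rintro rfl
    rw [Subgroup.card_bot] at hK
    omega
  have hinf : normalizer (K : Set G) ⊓ normalizer (P : Set G) = normalizer (P : Set G) :=
    inf_eq_right.2 hNK
  obtain ⟨n, hn1, hn2, hn3, hn4⟩ := card_normalizer hcard h11 P K hKne
    (isPGroup_of_card (n := 5) (by rw [hK]; norm_num)) (a := 1344)
    (le_trans le_normalizer hNK) (by rw [hinf, hcN])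
  have h330 : n ∣ 330 := by
    have h1 : 1344 * n ∣ 1344 * 330 := by simpa using hn3
    exact Nat.dvd_of_mul_dvd_mul_left (by norm_num) h1
  have hle := Nat.le_of_dvd (by norm_num) h330
  have hn15 := div_thirty n (by omega) ⟨Nat.mod_eq_zero_of_dvd h330, by omega, hn1⟩
  -- `K ≤ T`, a Sylow 2-subgroup of `N(P)`
  have hKN : K ≤ normalizer (P : Set G) := hloc.le_centralizer.trans (centralizer_le_normalizer _)
  have hKp : IsPGroup 2 (K.subgroupOf (normalizer (P : Set G))) :=
    (isPGroup_of_card (n := 5) (by rw [hK]; norm_num)).comap_of_injective _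
      (Subtype.val_injective)
  obtain ⟨T', hT'⟩ := hKp.exists_le_sylow
  set T : Subgroup G := (T' : Subgroup (normalizer (P : Set G))).map
    (normalizer (P : Set G)).subtype with hTdef
  have hT'card : Nat.card (T' : Subgroup (normalizer (P : Set G))) = 64 := by
    rw [Sylow.card_eq_multiplicity, hcN]
    have : (7 * 6 * 32).factorization 2 = 6 := by
      rw [show 7 * 6 * 32 = 2 ^ 6 * 21 by norm_num, Nat.factorization_mul (by norm_num)
        (by norm_num), Nat.factorization_pow]
      simp [Nat.prime_two.factorization_self, Nat.factorization_eq_zero_of_not_dvd]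
    rw [this]; norm_num
  have hTcard : Nat.card T = 64 := by
    rw [hTdef, ← hT'card]
    exact (Nat.card_congr ((T' : Subgroup (normalizer (P : Set G))).equivMapOfInjective _
      (Subgroup.subtype_injective _)).toEquiv).symm
  have hKT : K ≤ T := by
    intro x hx
    exact ⟨⟨x, hKN hx⟩, hT' (Subgroup.mem_subgroupOf.2 hx), rfl⟩
  have hTN : T ≤ normalizer (P : Set G) := by
    rintro _ ⟨x, -, rfl⟩
    exact x.2
  have hTK : T ≤ normalizer (K : Set G) := hTN.trans hNK
  obtain ⟨R, hTR, hRcard, hRT⟩ := exists_growth (T := T) (m := 6) (by rw [hTcard]; norm_num)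
    (by rw [hcard]; norm_num)
  -- an element of `R` outside `T`
  obtain ⟨s, hsR, hsT⟩ : ∃ s ∈ R, s ∉ T := by
    by_contra hcon
    push Not at hcon
    have h1 := Subgroup.card_le_of_le (show R ≤ T from hcon)
    rw [hRcard, hTcard] at h1
    omega
  have hsK : s ∉ normalizer (K : Set G) := by
    intro hs
    have hRK : R ≤ normalizer (K : Set G) := by
      intro x hx
      by_cases hxT : x ∈ T
      · exact hTK hxT
      · have h5 : (T.subgroupOf R).index = 2 := by
          have h2 : (T.subgroupOf R).index * Nat.card (T.subgroupOf R) = Nat.card R :=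
            index_mul_card _
          rw [Nat.card_congr (subgroupOfEquivOfLe hTR).toEquiv, hRcard] at h2
          exact Nat.eq_of_mul_eq_mul_right Nat.card_pos h2
        have h6 := (Subgroup.mul_mem_iff_of_index_two h5 (a := (⟨s, hsR⟩ : R)⁻¹)
          (b := (⟨x, hx⟩ : R))).2 (by
            have h7 : (⟨s, hsR⟩ : R)⁻¹ ∉ T.subgroupOf R := fun h => hsT (by
              have := (T.subgroupOf R).inv_mem h
              rw [inv_inv] at this
              exact Subgroup.mem_subgroupOf.1 this)
            have h8 : (⟨x, hx⟩ : R) ∉ T.subgroupOf R :=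
              fun h => hxT (Subgroup.mem_subgroupOf.1 h)
            exact iff_of_false h7 h8)
        have h7 : s⁻¹ * x ∈ T := Subgroup.mem_subgroupOf.1 h6
        have h8 : x = s * (s⁻¹ * x) := by group
        rw [h8]
        exact mul_mem hs (hTK h7)
    have h1 := Subgroup.card_dvd_of_le hRK
    rw [hRcard, hTcard, hn2] at h1
    rcases hn15 with rfl | rfl <;> revert h1 <;> decide
  obtain ⟨hs1, hs2, hs3, hs4⟩ := swap_data hTR hRcard hRT hKT hTK hsR
  set Ks : Subgroup G := K.map (MulAut.conj s).toMonoidHom with hKs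
  have hRD := le_normalizer_inf hTR hRcard hRT hKT hTK hsR hsT
  rw [← hKs] at hRD
  set Dd : Subgroup G := K ⊓ Ks with hDd
  have hKsK : Ks ≠ K := fun h => hsK ((map_conj_eq_iff_mem_normalizer K s).1 h)
  have hKscard : Nat.card Ks = 32 := by
    rw [hKs, ← hK]
    exact (Nat.card_congr (K.equivMapOfInjective _ (MulAut.conj s).injective).toEquiv).symm
  -- the order of the intersection
  have hDK : Dd ≤ K := inf_le_left
  have hDcard : Nat.card Dd = 16 := by
    have h1 : Nat.card Dd ∣ 32 := hK ▸ Subgroup.card_dvd_of_le hDK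
    have h2 : Nat.card Dd ≠ 32 := by
      intro h
      have h3 : Dd = K := Subgroup.eq_of_le_of_card_ge hDK (by rw [h, hK])
      have h4 : K ≤ Ks := by
        rw [← h3]; exact inf_le_right
      exact hKsK (Subgroup.eq_of_le_of_card_ge h4 (by rw [hKscard, hK])).symm
    have h3 : Nat.card K * Nat.card Ks ≤ Nat.card T * Nat.card Dd :=
      card_mul_le hKT hs1
    rw [hK, hKscard, hTcard] at h3
    have h4 : Nat.card Dd ≤ 32 := Nat.le_of_dvd (by norm_num) h1
    interval_cases h : Nat.card Dd <;> omega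
  have hDne : Dd ≠ ⊥ := by
    intro h
    rw [h, Subgroup.card_bot] at hDcard
    omega
  -- `P T ≤ N(D) ∩ N(P)`
  have hPD : (P : Subgroup G) ≤ normalizer (Dd : Set G) := by
    intro x hx
    rw [mem_normalizer_iff]
    have hcomm : ∀ d ∈ K, x * d * x⁻¹ = d := fun d hd => by
      have := mem_centralizer_iff.1 (hloc.le_centralizer hd) x hx
      rw [this, mul_inv_cancel_right]
    intro d
    constructor
    · intro hd
      rw [hcomm d (hDK hd)]; exact hd
    · intro hd
      have h1 := hcomm _ (hDK hd)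
      have h2 : x * d * x⁻¹ = d := by
        have h3 : x * (x * d * x⁻¹) * x⁻¹ = x * d * x⁻¹ := h1
        have h4 : x * d * x⁻¹ = d := by
          have := congrArg (fun z => x⁻¹ * z * x) h3
          simpa [mul_assoc] using this
        exact h4
      rwa [h2] at hd
  have hTD : T ≤ normalizer (Dd : Set G) := hTR.trans hRD
  set H : Subgroup G := normalizer (Dd : Set G) ⊓ normalizer (P : Set G) with hH
  have hTH : T ≤ H := le_inf hTD hTN
  have hPH : (P : Subgroup G) ≤ H := le_inf hPD le_normalizer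
  have hP : Nat.card (P : Subgroup G) = 7 :=
    Degrees.card_sylow_eq (m := 63360) (by rw [hcard]) (by norm_num) P
  have h64 : 64 ∣ Nat.card H := hTcard ▸ Subgroup.card_dvd_of_le hTH
  have h7 : 7 ∣ Nat.card H := hP ▸ Subgroup.card_dvd_of_le hPH
  have h448 : 448 ∣ Nat.card H :=
    Nat.Coprime.mul_dvd_of_dvd_of_dvd (m := 64) (n := 7) (by norm_num) h64 h7
  have h1344 : Nat.card H ∣ 1344 := by
    have := Subgroup.card_dvd_of_le (show H ≤ normalizer (P : Set G) from inf_le_right)
    rwa [hcN] at this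
  have hHcard : Nat.card H = 448 ∨ Nat.card H = 1344 := by
    obtain ⟨k, hk⟩ := h448
    rw [hk] at h1344 ⊢
    have h2 : k ∣ 3 := by
      have h3 : 448 * k ∣ 448 * 3 := by simpa using h1344
      exact Nat.dvd_of_mul_dvd_mul_left (by norm_num) h3
    rcases (Nat.dvd_prime Nat.prime_three).1 h2 with rfl | rfl <;> simp
  have hRcard' : Nat.card R = 128 := by rw [hRcard, hTcard]
  obtain ⟨m, hm1, hm2, hm3, hm4⟩ := card_normalizer hcard h11 P Dd hDne
    (isPGroup_of_card (n := 4) (by rw [hDcard]; norm_num)) (a := Nat.card H) hPD rfl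
  have h128 : 128 ∣ Nat.card H * m := by
    rw [← hm2, ← hRcard']
    exact Subgroup.card_dvd_of_le hRD
  rcases hHcard with h | h
  · rw [h] at hm3 h128
    have h990 : m ∣ 990 := by
      have h1 : 448 * m ∣ 448 * 990 := by simpa using hm3
      exact Nat.dvd_of_mul_dvd_mul_left (by norm_num) h1
    have hle := Nat.le_of_dvd (by norm_num) h990
    have := div_ninety m (by omega) ⟨Nat.mod_eq_zero_of_dvd h990, by omega, hm1⟩
    omega
  · rw [h] at hm3 h128
    have h330 : m ∣ 330 := by
      have h1 : 1344 * m ∣ 1344 * 330 := by simpa using hm3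
      exact Nat.dvd_of_mul_dvd_mul_left (by norm_num) h1
    have hle := Nat.le_of_dvd (by norm_num) h330
    rcases div_thirty m (by omega) ⟨Nat.mod_eq_zero_of_dvd h330, by omega, hm1⟩ with rfl | rfl <;>
      omega

theorem relIndex_eq {P : Sylow 7 G} {e : ℕ} {K : Subgroup G} (hloc : IsLocal 7 P e K) :
    (centralizer (P : Set G)).relIndex (normalizer (P : Set G)) = e := by
  have h1 : Nat.card (normalizer (P : Set G)) = Nat.card (centralizer (P : Set G)) *
      (centralizer (P : Set G)).relIndex (normalizer (P : Set G)) :=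
    BurnsideNC.card_normalizer_eq (P : Subgroup G)
  have h2 := hloc.card_normalizer
  have h3 := hloc.card_centralizer
  rw [h1, h3] at h2
  have h4 : 0 < Nat.card K := Nat.card_pos
  have h5 : 7 * Nat.card K * (centralizer (P : Set G)).relIndex (normalizer (P : Set G)) =
      7 * Nat.card K * e := by rw [h2]; ring
  exact Nat.eq_of_mul_eq_mul_left (by omega) h5

theorem not_eleven_dvd_card (hcard : Nat.card G = 443520)
    [Fact (Nat.Prime 11)] [Fact (Nat.Prime 7)]
    (h11 : ∀ Q : Sylow 11 G, centralizer (Q : Set G) = (Q : Subgroup G))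
    {P : Sylow 7 G} {e : ℕ} {K : Subgroup G} (hloc : IsLocal 7 P e K) : ¬ 11 ∣ Nat.card K := by
  intro h
  have hP : Nat.card P = 7 := Degrees.card_sylow_eq (m := 63360) (by rw [hcard]) (by norm_num) P
  obtain ⟨f, hf⟩ := exists_prime_orderOf_dvd_card' (G := K) 11 h
  have hf' : orderOf (f : G) = 11 := by rw [Subgroup.orderOf_coe, hf]
  have hp : IsPGroup 11 (zpowers (f : G)) :=
    IsPGroup.of_card (n := 1) (by rw [Nat.card_zpowers, hf', pow_one])
  obtain ⟨Q, hQ⟩ := hp.exists_le_sylow
  have hQ11 : Nat.card Q = 11 :=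
    Degrees.card_sylow_eq (m := 40320) (by rw [hcard]) (by norm_num) Q
  have hQeq : zpowers (f : G) = (Q : Subgroup G) := by
    apply Subgroup.eq_of_le_of_card_ge hQ
    rw [Nat.card_zpowers, hf']
    exact hQ11.le
  have hPQ : (P : Subgroup G) ≤ centralizer (Q : Set G) := by
    intro x hx
    rw [mem_centralizer_iff]
    intro y hy
    have hy' : y ∈ zpowers (f : G) := by rw [hQeq]; exact hy
    obtain ⟨k, rfl⟩ := Subgroup.mem_zpowers_iff.1 hy'
    have h1 : x * (f : G) = f * x := mem_centralizer_iff.1 (hloc.le_centralizer f.2) x hx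
    exact (Commute.zpow_left (show Commute (f : G) x from h1.symm) k).eq
  rw [h11 Q] at hPQ
  have h2 := Subgroup.card_dvd_of_le hPQ
  rw [show Nat.card (Q : Subgroup G) = 11 from hQ11,
    show Nat.card (P : Subgroup G) = 7 from hP] at h2
  revert h2
  decide

/-- The Sylow 7-subgroups, modulo the cases `(3, 8)` and `(6, 4)`. -/
theorem sylow_seven_core [IsSimpleGroup G] (hcard : Nat.card G = 443520)
    [Fact (Nat.Prime 11)] [Fact (Nat.Prime 7)]
    (h11 : ∀ Q : Sylow 11 G, centralizer (Q : Set G) = (Q : Subgroup G))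
    (P : Sylow 7 G)
    (h38 : ∀ K : Subgroup G, IsLocal 7 P 3 K → Nat.card K = 8 → False)
    (h64 : ∀ K : Subgroup G, IsLocal 7 P 6 K → Nat.card K = 4 → False) :
    centralizer (P : Set G) = (P : Subgroup G) ∧
      (centralizer (P : Set G)).relIndex (normalizer (P : Set G)) = 3 := by
  have hGc : ¬ IsMulCommutative G := by
    intro h
    obtain ⟨a, b, hab⟩ := NonSelfCent.not_comm_of_not_prime (SevenChar.not_prime hcard)
    exact hab (h.is_comm.comm a b)
  have hP : Nat.card P = 7 := Degrees.card_sylow_eq (m := 63360) (by rw [hcard]) (by norm_num) P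
  obtain ⟨e, K, hloc⟩ := exists_local hGc (p := 7) (by rw [hcard]; norm_num)
    (by rw [hcard]; norm_num) P
  obtain ⟨o, ho1, ho2⟩ := hloc.card_sylow hGc (by norm_num) hP
  have heq := hloc.card_eq
  rw [hcard, ho1] at heq
  have hec := cases_ec hloc.dvd_pred hloc.one_lt heq (not_eleven_dvd_card hcard h11 hloc) ho2
  have hrel := relIndex_eq hloc
  have hcop : Nat.Coprime 7 (Nat.card K) :=
    (Nat.Prime.coprime_iff_not_dvd (by norm_num)).2 hloc.not_dvd
  rcases hec with ⟨rfl, h1⟩ | ⟨rfl, h1 | h1 | h1 | h1⟩ | ⟨rfl, h1 | h1 | h1⟩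
  · exfalso
    refine SevenChar.false_of_two hcard P (K := K) ?_ hloc.le_centralizer hcop hrel
    rintro rfl
    exact h1 Subgroup.card_bot
  · refine ⟨?_, hrel⟩
    have h3 := hloc.card_centralizer
    rw [h1, mul_one] at h3
    have h4 : (P : Subgroup G) ≤ centralizer (P : Set G) := by
      intro x hx
      rw [mem_centralizer_iff]
      intro y hy
      exact comm_of_card_prime (by norm_num) (P : Subgroup G) hP y hy x hx
    exact (Subgroup.eq_of_le_of_card_ge h4 (by rw [h3]; exact hP.ge)).symm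
  · exact (h38 K hloc h1).elim
  · exact (false_three_sixtyfour hcard h11 P hloc h1).elim
  · exact (SevenChar.false_of_fifteen hcard P hloc.le_centralizer hcop hrel (Or.inl rfl) h1).elim
  · exact (h64 K hloc h1).elim
  · exact (false_six_thirtytwo hcard h11 P hloc h1).elim
  · exact (SevenChar.false_of_fifteen hcard P hloc.le_centralizer hcop hrel (Or.inr rfl) h1).elim

end Cfsg.Agent.M22.Sylow7Core
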