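import Cfsg.Agent.M22.FiveA

/-!
# The Sylow 5-subgroups of a simple group of order 443520
-/

set_option autoImplicit false

namespace Cfsg.Agent.M22.SylowFive

open Cfsg Subgroup Cfsg.Agent.Characters.Core Cfsg.Agent.SmallSimple.InvolColumn
open Cfsg.Agent.M22.Residue Cfsg.Agent.M22.ResiduePartial Cfsg.Agent.M22.NonSelfCent
open Cfsg.Agent.SmallSimple.PrimeLocal Cfsg.Agent.M22.FiveB Cfsg.Agent.M22.FiveLists
open scoped ComplexConjugate

universe u
variable {G : Type u} [Group G] [Finite G]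

theorem filter_add {M : Multiset ℕ} {a b : List ℕ}
    (ha : (a : Multiset ℕ) = M.filter (fun d => ¬ 11 ∣ d))
    (hb : (b : Multiset ℕ) = M.filter (fun d => ¬ 7 ∣ d)) :
    ((a : Multiset ℕ) + (b : Multiset ℕ).filter (fun d => 11 ∣ d)) =
      M.filter (fun d => ¬ 77 ∣ d) := by
  rw [← Multiset.filter_add_not (fun d => ¬ 11 ∣ d) (M.filter (fun d => ¬ 77 ∣ d)), ha, hb,
    Multiset.filter_filter, Multiset.filter_filter, Multiset.filter_filter]
  congr 1
  · refine Multiset.filter_congr fun d _ => ?_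
    omega
  · refine Multiset.filter_congr fun d _ => ?_
    omega

/-- The enumeration in mode A. -/
theorem exists_nine [Fintype (IrrCharacter G)] {a b : List ℕ} (c : List ℕ) (hc : c.length = 7)
    (hca : c.Perm a) (hbp : b.Perm [1, 45, 45, 55, 99])
    (ha : (a : Multiset ℕ) = (Finset.univ.val.map
      (fun χ : IrrCharacter G => charDegree (χ : G → ℂ))).filter (fun d => ¬ 11 ∣ d))
    (hb : (b : Multiset ℕ) = (Finset.univ.val.map
      (fun χ : IrrCharacter G => charDegree (χ : G → ℂ))).filter (fun d => ¬ 7 ∣ d)) :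
    ∃ F : Fin 9 → IrrCharacter G, Function.Injective F ∧
      (∀ i, charDegree (F i : G → ℂ) = (c ++ [55, 99]).getD i 0) ∧
      (∀ χ : IrrCharacter G, ¬ 7 ∣ charDegree (χ : G → ℂ) → ∃ i, F i = χ) ∧
      ∀ χ : IrrCharacter G, ¬ 11 ∣ charDegree (χ : G → ℂ) → ∃ i, F i = χ := by
  classical
  have h1 := filter_add ha hb
  have h2 : (b : Multiset ℕ) = (([1, 45, 45, 55, 99] : List ℕ) : Multiset ℕ) :=
    Multiset.coe_eq_coe.2 hbp
  have h3 : (([1, 45, 45, 55, 99] : List ℕ) : Multiset ℕ).filter (fun d => 11 ∣ d) =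
      (([55, 99] : List ℕ) : Multiset ℕ) := by decide
  rw [h2, h3, ← Multiset.coe_eq_coe.2 hca, Multiset.coe_add] at h1
  obtain ⟨F, hF, hFD, hcov⟩ := exists_partial_enum 77 (c ++ [55, 99]) h1
  have hlen : (c ++ [55, 99]).length = 9 := by simp [hc]
  refine ⟨fun i => F (Fin.cast hlen.symm i), ?_, ?_, ?_, ?_⟩
  · intro i j hij
    have := hF hij
    exact Fin.cast_injective _ this
  · intro i
    rw [hFD]
    rw [List.getD_eq_getElem _ _ (by rw [hlen]; exact i.2)]
    rfl
  · intro χ hχ
    obtain ⟨i, hi⟩ := hcov χ fun h => hχ ((by norm_num : 7 ∣ 77).trans h)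
    exact ⟨Fin.cast hlen i, by simpa using hi⟩
  · intro χ hχ
    obtain ⟨i, hi⟩ := hcov χ fun h => hχ ((by norm_num : 11 ∣ 77).trans h)
    exact ⟨Fin.cast hlen i, by simpa using hi⟩

/-- Arithmetic for the prime 5. -/
theorem cases_A {e k o : ℕ} (he : e ∣ 4) (he1 : 1 < e)
    (hn : 443520 = (1 + 5 * o) * (5 * e * k)) (h2 : ¬ 2 ∣ k) (h5 : ¬ 5 ∣ k) (h7 : ¬ 7 ∣ k)
    (h11 : ¬ 11 ∣ k) : e = 4 ∧ k = 1 := by
  have hk : k ∣ 9 := by
    have h1 : k ∣ 9 * 49280 := ⟨(1 + 5 * o) * (5 * e), by
      rw [show 9 * 49280 = 443520 by norm_num, hn]; ring⟩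
    have c2 : Nat.Coprime k 2 := ((Nat.Prime.coprime_iff_not_dvd (by norm_num)).2 h2).symm
    have c5 : Nat.Coprime k 5 := ((Nat.Prime.coprime_iff_not_dvd (by norm_num)).2 h5).symm
    have c7 : Nat.Coprime k 7 := ((Nat.Prime.coprime_iff_not_dvd (by norm_num)).2 h7).symm
    have c11 : Nat.Coprime k 11 := ((Nat.Prime.coprime_iff_not_dvd (by norm_num)).2 h11).symm
    have c0 : Nat.Coprime k 49280 := by
      rw [show 49280 = 2 ^ 7 * (5 * (7 * 11)) by norm_num]
      exact (c2.pow_right 7).mul_right (c5.mul_right (c7.mul_right c11))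
    exact c0.dvd_of_dvd_mul_right h1
  have he' : e = 2 ∨ e = 4 := by
    have h1 : e ≤ 4 := Nat.le_of_dvd (by norm_num) he
    interval_cases e <;> omega
  have hk' : k = 1 ∨ k = 3 ∨ k = 9 := by
    have h1 : k ≤ 9 := Nat.le_of_dvd (by norm_num) hk
    interval_cases k <;> omega
  rcases he' with rfl | rfl <;> rcases hk' with rfl | rfl | rfl <;> omega

/-- The end of mode A. -/
theorem sylow_five_A [IsSimpleGroup G] (hcard : Nat.card G = 443520)
    [Fact (Nat.Prime 11)] [Fact (Nat.Prime 7)] [Fact (Nat.Prime 5)]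
    (P11 : Sylow 11 G) (P7 : Sylow 7 G)
    (c11 : centralizer (P11 : Set G) = (P11 : Subgroup G))
    (c7 : centralizer (P7 : Set G) = (P7 : Subgroup G))
    (hno : ∀ t : G, orderOf t = 2 → ¬ 5 ∣ Nat.card (centralizer ({t} : Set G)))
    (P : Sylow 5 G) : centralizer (P : Set G) = (P : Subgroup G) ∧
      (centralizer (P : Set G)).relIndex (normalizer (P : Set G)) = 4 := by
  classical
  have hG : ¬ (Nat.card G).Prime := by rw [hcard]; norm_num
  have hGc : ¬ IsMulCommutative G := by
    intro h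
    obtain ⟨a, b, hab⟩ := not_comm_of_not_prime hG
    exact hab (h.is_comm.comm a b)
  have hP : Nat.card P = 5 := Degrees.card_sylow_eq (m := 88704) (by rw [hcard]) (by norm_num) P
  have h11 : Nat.card P11 = 11 :=
    Degrees.card_sylow_eq (m := 40320) (by rw [hcard]) (by norm_num) P11
  have h7 : Nat.card P7 = 7 :=
    Degrees.card_sylow_eq (m := 63360) (by rw [hcard]) (by norm_num) P7
  obtain ⟨e, K, hloc⟩ := exists_local hGc (p := 5) (by rw [hcard]; norm_num)
    (by rw [hcard]; norm_num) P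
  obtain ⟨o, ho1, ho2⟩ := hloc.card_sylow hGc (by norm_num) hP
  have heq := hloc.card_eq
  rw [hcard, ho1] at heq
  have hrel : (centralizer (P : Set G)).relIndex (normalizer (P : Set G)) = e := by
    have h1 : Nat.card (normalizer (P : Set G)) = Nat.card (centralizer (P : Set G)) *
        (centralizer (P : Set G)).relIndex (normalizer (P : Set G)) :=
      Cfsg.Agent.SmallSimple.BurnsideNC.card_normalizer_eq (P : Subgroup G)
    have h2 := hloc.card_normalizer
    have h3 := hloc.card_centralizer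
    rw [h1, h3] at h2
    have h4 : 0 < Nat.card K := Nat.card_pos
    have h5 : 5 * Nat.card K * (centralizer (P : Set G)).relIndex (normalizer (P : Set G)) =
        5 * Nat.card K * e := by rw [h2]; ring
    exact Nat.eq_of_mul_eq_mul_left (by omega) h5
  obtain ⟨y, hyP, hy1⟩ : ∃ y ∈ P, y ≠ 1 := by
    have h5 : 1 < Nat.card P := by rw [hP]; norm_num
    have : Nontrivial (P : Subgroup G) := (Finite.one_lt_card_iff_nontrivial).1 h5
    obtain ⟨x, hx⟩ := exists_ne (1 : (P : Subgroup G))
    exact ⟨x, x.2, fun h => hx (Subtype.ext h)⟩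
  have hy : orderOf y = 5 := by
    have h1 : orderOf y ∣ 5 := by
      have := orderOf_dvd_natCard (⟨y, hyP⟩ : (P : Subgroup G))
      rw [hP] at this
      simpa using this
    rcases (Nat.dvd_prime (by norm_num)).1 h1 with h2 | h2
    · exact absurd (orderOf_eq_one_iff.1 h2) hy1
    · exact h2
  have hCy : centralizer ({y} : Set G) = centralizer (P : Set G) :=
    Cfsg.Agent.Blocks.CyclicOrtho.centralizer_eq P hP hyP hy1
  have hCc := hloc.card_centralizer
  have n11 := KillC.not_dvd_card_centralizer P11 h11 c11 (t := y) (by rw [hy]; norm_num) hy1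
  have n7 := KillC.not_dvd_card_centralizer P7 h7 c7 (t := y) (by rw [hy]; norm_num) hy1
  rw [hCy, hCc] at n11 n7
  have hk2 : ¬ 2 ∣ Nat.card K := by
    intro h
    obtain ⟨t, ht⟩ := exists_prime_orderOf_dvd_card' 2 h
    refine hno (t : G) (by rw [Subgroup.orderOf_coe, ht]) ?_
    have htC : (t : G) ∈ centralizer (P : Set G) := hloc.le_centralizer t.2
    have hle : (P : Subgroup G) ≤ centralizer ({(t : G)} : Set G) := by
      intro x hx
      rw [mem_centralizer_iff]
      rintro _ rfl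
      exact (mem_centralizer_iff.1 htC x hx).symm
    have := Subgroup.card_dvd_of_le hle
    rwa [show Nat.card (P : Subgroup G) = 5 from hP] at this
  obtain ⟨rfl, hK1⟩ := cases_A hloc.dvd_pred hloc.one_lt heq hk2 hloc.not_dvd
    (fun h => n7 (h.mul_left 5)) (fun h => n11 (h.mul_left 5))
  refine ⟨?_, hrel⟩
  rw [hK1, mul_one] at hCc
  have h4 : (P : Subgroup G) ≤ centralizer (P : Set G) := by
    intro x hx
    rw [mem_centralizer_iff]
    intro y hy
    exact comm_of_card_prime (by norm_num) (P : Subgroup G) hP y hy x hx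
  exact (Subgroup.eq_of_le_of_card_ge h4 (by rw [hCc]; exact hP.ge)).symm

/-- **The Sylow 5-subgroups** of a simple group of order 443520, given the Sylow 11- and
7-subgroups. -/
theorem sylow_five [IsSimpleGroup G] (hcard : Nat.card G = 443520)
    [Fact (Nat.Prime 11)] [Fact (Nat.Prime 7)] [Fact (Nat.Prime 5)]
    (P11 : Sylow 11 G) (P7 : Sylow 7 G)
    (c11 : centralizer (P11 : Set G) = (P11 : Subgroup G))
    (c7 : centralizer (P7 : Set G) = (P7 : Subgroup G))
    (e11 : (centralizer (P11 : Set G)).relIndex (normalizer (P11 : Set G)) = 5)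
    (e7 : (centralizer (P7 : Set G)).relIndex (normalizer (P7 : Set G)) = 3)
    (P : Sylow 5 G) : centralizer (P : Set G) = (P : Subgroup G) ∧
      (centralizer (P : Set G)).relIndex (normalizer (P : Set G)) = 4 := by
  classical
  have hfin : Finite (IrrCharacter G) := finite_irr
  have := Fintype.ofFinite (IrrCharacter G)
  obtain ⟨a, b, hgood, ha, hb⟩ := exists_lists hcard P11 P7 c11 c7 e11 e7
  unfold good at hgood
  rw [Bool.or_eq_true, Bool.and_eq_true] at hgood
  rcases hgood with ⟨hbp, hg⟩ | hg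
  · refine sylow_five_A hcard P11 P7 c11 c7 ?_ P
    intro t ht h5t
    rw [List.isPerm_iff] at hbp
    rw [List.any_eq_true] at hg
    obtain ⟨c, hc, hca⟩ := hg
    rw [List.isPerm_iff] at hca
    have hlen : c.length = 7 := by
      simp only [List.mem_cons, List.not_mem_nil, or_false] at hc
      rcases hc with rfl | rfl | rfl <;> rfl
    obtain ⟨F, hF, hD, hcov7, hcov11⟩ := exists_nine c hlen hca hbp ha hb
    simp only [List.mem_cons, List.not_mem_nil, or_false] at hc
    rcases hc with rfl | rfl | rfl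
    · exact FiveA.contra1 hcard P11 P7 c11 c7 e11 e7 F hF _ hD hcov7 hcov11
        rfl rfl rfl rfl rfl rfl rfl rfl rfl ht h5t
    · exact FiveA.contra2 hcard P11 P7 c11 c7 e11 e7 F hF _ hD hcov7 hcov11
        rfl rfl rfl rfl rfl rfl rfl rfl rfl ht h5t
    · exact FiveA.contra3 hcard P11 P7 c11 c7 e11 e7 F hF _ hD hcov7 hcov11
        rfl rfl rfl rfl rfl rfl rfl rfl rfl ht h5t
  · rw [List.isPerm_iff] at hg
    have h1 : (([1, 55, 66, 66, 120] : List ℕ) : Multiset ℕ) = b :=
      (Multiset.coe_eq_coe.2 hg).symm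
    exact sylow_five_B hcard P7 c7 e7 (h1.trans hb) P

end Cfsg.Agent.M22.SylowFive
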