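import Cfsg.Agent.M22.Residue

/-!
# Not all signs in the principal block are positive

In a simple group with a self-centralising Sylow `p`-subgroup of order `p` and an automiser of odd
order, the degree relation of Brauer's theorem cannot be `∑ χ(1) = Θ(1)` with all signs `+1`:
by the two relations at an involution and the equality case of Cauchy's inequality.
-/

set_option autoImplicit false

namespace Cfsg.Agent.M22.AllPlus

open Cfsg Subgroup Cfsg.Agent.Characters.Core Cfsg.Agent.SmallSimple.InvolColumn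
open Cfsg.Agent.M22.Residue

universe u
variable {G : Type u} [Group G] [Finite G]

/-- integral values at an involution, for an enumeration -/
theorem exists_values [IsSimpleGroup G] (hG : commutator G = ⊤) {n : ℕ}
    (f : Fin n ≃ IrrCharacter G) (D : Fin n → ℕ) (hD : ∀ i, charDegree (f i : G → ℂ) = D i)
    {t : G} (ht : t ^ 2 = 1) (ht1 : t ≠ 1) :
    ∃ z : Fin n → ℤ, (∀ i, (f i : G → ℂ) t = z i) ∧
      ∀ i, (4 : ℤ) ∣ D i - z i ∧ ((f i : G → ℂ) ≠ 1 → |z i| < D i) ∧
        ((f i : G → ℂ) = 1 → z i = 1) := by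
  have h : ∀ i, ∃ z : ℤ, (f i : G → ℂ) t = z ∧ (4 : ℤ) ∣ D i - z ∧
      ((f i : G → ℂ) ≠ 1 → |z| < D i) ∧ ((f i : G → ℂ) = 1 → z = 1) := by
    intro i
    by_cases h1 : (f i : G → ℂ) = 1
    · refine ⟨1, ?_, ?_, fun h => absurd h1 h, fun _ => rfl⟩
      · rw [h1]; simp
      · have h2 : charDegree (f i : G → ℂ) = 1 := by
          apply Cfsg.Agent.Blocks.Basic.charDegree_of_eq
          rw [h1]; simp
        rw [← hD i, h2]; norm_num
    · obtain ⟨z, hz, hlt, h4⟩ := exists_int hG (f i).2 h1 ht ht1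
      rw [hD i] at hlt h4
      exact ⟨z, hz, h4, fun _ => hlt, fun h => absurd h h1⟩
  choose z hz using h
  exact ⟨z, fun i => (hz i).1, fun i => (hz i).2⟩

/-- Not all signs are positive. -/
theorem not_all_pos [IsSimpleGroup G] (hG : commutator G = ⊤) {n : ℕ}
    (f : Fin n ≃ IrrCharacter G) (D : Fin n → ℕ) (hD : ∀ i, charDegree (f i : G → ℂ) = D i)
    (p : ℕ) [Fact p.Prime] (hp2 : p ≠ 2) (P : Sylow p G) (hP : Nat.card P = p)
    (hC : centralizer (P : Set G) = (P : Subgroup G)) (e t : ℕ)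
    (he : (centralizer (P : Set G)).relIndex (normalizer (P : Set G)) = e) (ht : e * t = p - 1)
    (he2 : 2 ≤ e) (ht2 : 2 ≤ t) (hodd : Odd e) (j : Fin n) (hj : sx p e (D j) = 1)
    (hpos : ∀ i, 0 ≤ sg p (D i)) {a : G} (ha : a ^ 2 = 1) (ha1 : a ≠ 1) : False := by
  obtain ⟨z, hz, hz'⟩ := exists_values hG f D hD ha ha1
  have hpp : p.Prime := Fact.out
  have hp : 2 < p := lt_of_le_of_ne hpp.two_le (Ne.symm hp2)
  have het : 2 * e + 1 ≤ p := by
    have h1 : e * 2 ≤ e * t := Nat.mul_le_mul_left _ ht2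
    omega
  have hj0 : sx p e (D j) ≠ 0 := by rw [hj]; norm_num
  have hreg : ∀ g : G, g ^ 2 = 1 → ¬ p ∣ orderOf g := by
    intro g hg h
    have h7 : orderOf g ∣ 2 := orderOf_dvd_of_pow_eq_one hg
    have h9 := Nat.le_of_dvd (by norm_num) (h.trans h7)
    omega
  have hone : (1 : G) ^ 2 = 1 := one_pow 2
  have h1 : ∀ i, (f i : G → ℂ) 1 = ((D i : ℤ) : ℂ) := fun i => by
    rw [charDegree_cast (f i).2, hD i]
  have e1 := r1 f D hD p hp2 P hP hC e t he ht he2 ht2 j hj0 (hreg 1 hone) (fun i => (D i : ℤ)) h1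
  have e2 := r1 f D hD p hp2 P hP hC e t he ht he2 ht2 j hj0 (hreg a ha) z hz
  have e3 := r2 f D hD p hp2 P hP hC e t he ht he2 ht2 hodd j hj0 ha ha z z hz hz
  rw [hj] at e1 e2 e3
  have hDpos : ∀ i, (0 : ℚ) < D i := by
    intro i
    have h2 := Cfsg.Agent.Blocks.Basic.irr_one_ne_zero (f i).2
    rw [Cfsg.Agent.Blocks.Basic.irr_one_eq_charDegree (f i).2, hD i] at h2
    have h3 : D i ≠ 0 := by exact_mod_cast h2
    exact_mod_cast Nat.pos_of_ne_zero h3
  set c : ℚ := z j / D j with hc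
  have hjne : (D j : ℚ) ≠ 0 := (hDpos j).ne'
  have hzj : (z j : ℚ) = c * D j := by rw [hc]; field_simp
  have E1 : ∑ i, (sg p (D i) : ℚ) * D i = D j := by
    have : ((∑ i, sg p (D i) * (D i : ℤ) : ℤ) : ℚ) = ((1 * (D j : ℤ) : ℤ) : ℚ) := by rw [e1]
    push_cast at this
    rw [one_mul] at this
    exact this
  have E2 : ∑ i, (sg p (D i) : ℚ) * z i = z j := by
    have : ((∑ i, sg p (D i) * z i : ℤ) : ℚ) = ((1 * z j : ℤ) : ℚ) := by rw [e2]
    push_cast at this
    rw [one_mul] at this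
    exact this
  have key : ∑ i, (sg p (D i) : ℚ) * (D i * (z i / D i - c) ^ 2) = 0 := by
    have h5 : ∀ i, (sg p (D i) : ℚ) * (D i * (z i / D i - c) ^ 2) =
        (sg p (D i) : ℚ) * (z i * z i / D i) - 2 * c * ((sg p (D i) : ℚ) * z i) +
          c ^ 2 * ((sg p (D i) : ℚ) * D i) := by
      intro i
      have := (hDpos i).ne'
      field_simp
      ring
    rw [Finset.sum_congr rfl fun i _ => h5 i, Finset.sum_add_distrib, Finset.sum_sub_distrib,
      ← Finset.mul_sum, ← Finset.mul_sum, E1, E2, e3, hzj]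
    field_simp
    push_cast
    ring
  have h6 : ∀ i, (sg p (D i) : ℚ) * (D i * (z i / D i - c) ^ 2) = 0 := by
    intro i
    refine (Finset.sum_eq_zero_iff_of_nonneg ?_).1 key i (Finset.mem_univ i)
    intro k _
    have h7 : (0 : ℚ) ≤ sg p (D k) := by exact_mod_cast hpos k
    exact mul_nonneg h7 (mul_nonneg (hDpos k).le (sq_nonneg _))
  -- the trivial character
  obtain ⟨i0, hi0⟩ := f.surjective ⟨1, isIrr_one⟩
  have hf0 : (f i0 : G → ℂ) = 1 := by rw [hi0]
  have hD0 : D i0 = 1 := by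
    rw [← hD i0]
    apply Cfsg.Agent.Blocks.Basic.charDegree_of_eq
    rw [hf0]; simp
  have hz0 : z i0 = 1 := (hz' i0).2.2 hf0
  have h7 := h6 i0
  have hs0 : sg p 1 = 1 := by rw [sg_def, if_pos (Nat.mod_eq_of_lt (by omega))]
  rw [hD0, hz0, hs0] at h7
  have hc1 : c = 1 := by
    norm_num at h7
    linarith
  have h8 : (z j : ℚ) = D j := by rw [hzj, hc1, one_mul]
  have h9 : z j = D j := by exact_mod_cast h8
  have hfj : (f j : G → ℂ) ≠ 1 := by
    intro h
    have h10 : D j = 1 := by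
      rw [← hD j]
      apply Cfsg.Agent.Blocks.Basic.charDegree_of_eq
      rw [h]; simp
    rw [h10, sx_def, Nat.mod_eq_of_lt (by omega), if_neg (by omega), if_neg (by omega)] at hj
    norm_num at hj
  have h10 := (hz' j).2.1 hfj
  rw [h9, abs_of_nonneg (by positivity)] at h10
  exact lt_irrefl _ h10

end Cfsg.Agent.M22.AllPlus
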