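import Mathlib

/-!
# Degrees of the irreducible characters of a simple group of order 443520: combinatorial part
-/

set_option autoImplicit false

namespace Cfsg.Agent.M22.DegreesComb

/-- The degree pattern of the characters of a group with a self-centralising Sylow `p`-subgroup of
order `p` (Brauer): `NE` are the nonexceptional and `X` the exceptional characters of the
principal block, `ε` and `d` the signs, `i0` the trivial character. -/
def BData {ι : Type*} (deg : ι → ℕ) (i0 : ι) (p e t : ℕ) : Prop :=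
  ∃ (NE X : Finset ι) (ε : ι → ℤ) (d : ℤ), Disjoint NE X ∧ NE.card = e ∧ X.card = t ∧
    (∀ i ∈ NE, ε i = 1 ∨ ε i = -1) ∧ (d = 1 ∨ d = -1) ∧ i0 ∈ NE ∧ ε i0 = 1 ∧
    (∀ i ∈ NE, (p : ℤ) ∣ (deg i : ℤ) - ε i) ∧ (∀ i ∈ X, (p : ℤ) ∣ (deg i : ℤ) - d * e) ∧
    (∀ j ∈ X, ∑ i ∈ NE, ε i * (deg i : ℤ) = d * (deg j : ℤ)) ∧
    (∀ i, i ∉ NE → i ∉ X → p ∣ deg i)

/-- The multisets of size `k` with elements in a list, as lists. -/
def multis : ℕ → List ℤ → List (List ℤ)
  | 0, _ => [[]]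
  | k + 1, C => C.tails.flatMap fun t =>
      match t with
      | [] => []
      | c :: t' => (multis k (c :: t')).map (c :: ·)

theorem multis_cons_subset (c : ℤ) (C : List ℤ) (k : ℕ) {l : List ℤ} (h : l ∈ multis (k + 1) C) :
    l ∈ multis (k + 1) (c :: C) := by
  have h' : l ∈ C.tails.flatMap fun t =>
      match t with
      | [] => []
      | c :: t' => (multis k (c :: t')).map (c :: ·) := h
  show l ∈ (c :: C).tails.flatMap fun t =>
      match t with
      | [] => []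
      | c :: t' => (multis k (c :: t')).map (c :: ·)
  rw [List.tails_cons, List.flatMap_cons, List.mem_append]
  exact Or.inr h'

theorem cons_mem_multis (c : ℤ) (C : List ℤ) (k : ℕ) {l : List ℤ} (h : l ∈ multis k (c :: C)) :
    c :: l ∈ multis (k + 1) (c :: C) := by
  show c :: l ∈ (c :: C).tails.flatMap fun t =>
      match t with
      | [] => []
      | c :: t' => (multis k (c :: t')).map (c :: ·)
  rw [List.tails_cons, List.flatMap_cons, List.mem_append]
  exact Or.inl (List.mem_map.2 ⟨l, h, rfl⟩)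

theorem exists_mem_multis (C : List ℤ) : ∀ (k : ℕ) (s : Multiset ℤ), s.card = k →
    (∀ a ∈ s, a ∈ C) → ∃ l ∈ multis k C, (l : Multiset ℤ) = s := by
  induction C with
  | nil =>
    intro k s hs hC
    have h0 : s = 0 := Multiset.eq_zero_of_forall_notMem fun a ha => List.not_mem_nil (hC a ha)
    subst h0
    rw [Multiset.card_zero] at hs
    subst hs
    exact ⟨[], List.mem_singleton.2 rfl, rfl⟩
  | cons c C ih =>
    intro k
    induction k with
    | zero =>
      intro s hs _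
      rw [Multiset.card_eq_zero] at hs
      subst hs
      exact ⟨[], List.mem_singleton.2 rfl, rfl⟩
    | succ k ihk =>
      intro s hs hC
      by_cases hc : c ∈ s
      · obtain ⟨s', rfl⟩ := Multiset.exists_cons_of_mem hc
        rw [Multiset.card_cons, Nat.add_right_cancel_iff] at hs
        obtain ⟨l, hl, rfl⟩ := ihk s' hs fun a ha => hC a (Multiset.mem_cons_of_mem ha)
        exact ⟨c :: l, cons_mem_multis c C k hl, rfl⟩
      · obtain ⟨l, hl, h⟩ := ih (k + 1) s hs fun a ha => by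
          rcases List.mem_cons.1 (hC a ha) with h | h
          · exact absurd (h ▸ ha) hc
          · exact h
        exact ⟨l, multis_cons_subset c C k hl, h⟩

/-- Sum of squares of a list of integers. -/
def sumSq (l : List ℤ) : ℤ := (l.map fun a => a * a).sum

/-- Check that all admissible sign patterns lead to lists of degrees in `LL`. -/
def chk (C E : List ℤ) (k t : ℕ) (LL : List (List ℕ)) : Bool :=
  (multis k C).all fun l =>
    (fun v => !(E.contains v) || !(decide (1 + sumSq l + t * (v * v) ≤ 443520)) ||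
      (fun m => LL.any fun r => r.isPerm m)
        (1 :: (l.map Int.natAbs ++ List.replicate t v.natAbs))) (1 + l.sum)

variable {ι : Type*} [Fintype ι] {deg : ι → ℕ} {i0 : ι}

theorem deg_lt (hsq : ∑ i, deg i ^ 2 = 443520) (i : ι) : deg i < 666 := by
  by_contra h
  push Not at h
  have h1 : deg i ^ 2 ≤ ∑ i, deg i ^ 2 :=
    Finset.single_le_sum (f := fun i => deg i ^ 2) (fun _ _ => Nat.zero_le _) (Finset.mem_univ i)
  rw [hsq] at h1
  have h2 : 666 ^ 2 ≤ deg i ^ 2 := Nat.pow_le_pow_left h 2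
  omega

theorem block_list [DecidableEq ι] (h0 : deg i0 = 1) (h1 : ∀ i, deg i = 1 → i = i0)
    (hdvd : ∀ i, deg i ∣ 443520) (hsq : ∑ i, deg i ^ 2 = 443520) (p e t : ℕ) (C E : List ℤ)
    (LL : List (List ℕ)) (hp1 : ¬ (p : ℤ) ∣ 1) (hpe : ¬ (p : ℤ) ∣ e)
    (hC : ∀ m : ℕ, m < 666 → m ∣ 443520 → m ≠ 1 → ∀ s ∈ [(1 : ℤ), -1], (p : ℤ) ∣ (m : ℤ) - s → s * m ∈ C)
    (hE : ∀ m : ℕ, m < 666 → m ∣ 443520 → m ≠ 1 → ∀ s ∈ [(1 : ℤ), -1], (p : ℤ) ∣ (m : ℤ) - s * e →
      s * m ∈ E)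
    (ht : t ≠ 0) (hLL : chk C E (e - 1) t LL = true) (b : BData deg i0 p e t) :
    ∃ r ∈ LL, (r : Multiset ℕ) = (Finset.univ.val.map deg).filter fun m => ¬ p ∣ m := by
  obtain ⟨NE, X, ε, d, hdis, hNE, hX, hε, hd, hi0, hεi0, hcong, hcongX, hrel, hrest⟩ := b
  obtain ⟨x, hx⟩ : X.Nonempty := by
    rw [Finset.nonempty_iff_ne_empty]
    rintro rfl
    rw [Finset.card_empty] at hX
    exact ht hX.symm
  have hd2 : d * d = 1 := by rcases hd with rfl | rfl <;> norm_num
  have hε2 : ∀ i ∈ NE, ε i * ε i = 1 := by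
    intro i hi
    rcases hε i hi with h | h <;> rw [h] <;> norm_num
  have hi0X : i0 ∉ X := Finset.disjoint_left.1 hdis hi0
  set s : Multiset ℤ := (NE.erase i0).val.map fun i => ε i * (deg i : ℤ) with hs
  set v : ℤ := d * (deg x : ℤ) with hv
  have hsum : 1 + s.sum = v := by
    rw [hv, ← hrel x hx, ← Finset.add_sum_erase NE _ hi0, hεi0, h0, hs]
    rw [Finset.sum_eq_multiset_sum]
    norm_num
  have hcard : s.card = e - 1 := by
    rw [hs, Multiset.card_map, Finset.card_val, Finset.card_erase_of_mem hi0, hNE]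
  have hdegX : ∀ y ∈ X, deg y = v.natAbs := by
    intro y hy
    have h2 : d * (deg y : ℤ) = v := by rw [← hrel y hy, hrel x hx]
    rw [← h2, Int.natAbs_mul, Int.natAbs_natCast]
    rcases hd with rfl | rfl <;> simp
  have hsC : ∀ a ∈ s, a ∈ C := by
    intro a ha
    obtain ⟨i, hi, rfl⟩ := Multiset.mem_map.1 ha
    rw [Finset.mem_val, Finset.mem_erase] at hi
    refine hC (deg i) (deg_lt hsq i) (hdvd i) (fun h => hi.1 (h1 i h)) (ε i) ?_ (hcong i hi.2)
    rcases hε i hi.2 with h | h <;> rw [h] <;> simp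
  have hvE : v ∈ E := by
    refine hE (deg x) (deg_lt hsq x) (hdvd x) ?_ d ?_ (hcongX x hx)
    · intro h
      exact hi0X ((h1 x h) ▸ hx)
    · rcases hd with h | h <;> rw [h] <;> simp
  -- the multiset of degrees prime to `p`
  have hnat : ∀ i ∈ NE, (ε i * (deg i : ℤ)).natAbs = deg i := by
    intro i hi
    rw [Int.natAbs_mul, Int.natAbs_natCast]
    rcases hε i hi with h | h <;> rw [h] <;> simp
  have hfil : (Finset.univ.val.map deg).filter (fun m => ¬ p ∣ m) =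
      1 ::ₘ (s.map Int.natAbs + Multiset.replicate t v.natAbs) := by
    have hset : (Finset.univ.filter fun i => ¬ p ∣ deg i) = NE ∪ X := by
      ext i
      rw [Finset.mem_filter, Finset.mem_union]
      constructor
      · rintro ⟨-, hi⟩
        by_contra hcon
        rw [not_or] at hcon
        exact hi (hrest i hcon.1 hcon.2)
      · intro hi
        refine ⟨Finset.mem_univ _, fun hdiv => ?_⟩
        have hdiv' : (p : ℤ) ∣ (deg i : ℤ) := Int.natCast_dvd_natCast.2 hdiv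
        rcases hi with hi | hi
        · have h2 := (dvd_sub_right hdiv').1 (hcong i hi)
          have h3 : (p : ℤ) ∣ ε i * ε i := h2.mul_right _
          rw [hε2 i hi] at h3
          exact hp1 h3
        · have h2 := (dvd_sub_right hdiv').1 (hcongX i hi)
          have h3 : (p : ℤ) ∣ d * (d * e) := h2.mul_left _
          rw [← mul_assoc, hd2, one_mul] at h3
          exact hpe h3
    have h2 : (Finset.univ.val.map deg).filter (fun m => ¬ p ∣ m) =
        (NE ∪ X).val.map deg := by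
      rw [← hset, Finset.filter_val, Multiset.filter_map]
      rfl
    have h3 : (NE ∪ X).val = NE.val + X.val := by
      rw [← Finset.disjUnion_eq_union NE X hdis]
      rfl
    have h4 : NE.val = i0 ::ₘ (NE.erase i0).val := by
      rw [Finset.erase_val, Multiset.cons_erase (show i0 ∈ NE.val from hi0)]
    have h5 : (NE.erase i0).val.map deg = s.map Int.natAbs := by
      rw [hs, Multiset.map_map]
      refine Multiset.map_congr rfl fun i hi => ?_
      rw [Finset.mem_val, Finset.mem_erase] at hi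
      exact (hnat i hi.2).symm
    have h6 : X.val.map deg = Multiset.replicate t v.natAbs := by
      rw [Multiset.eq_replicate]
      refine ⟨by rw [Multiset.card_map, Finset.card_val, hX], fun m hm => ?_⟩
      obtain ⟨y, hy, rfl⟩ := Multiset.mem_map.1 hm
      exact hdegX y hy
    rw [h2, h3, Multiset.map_add, h6, h4, Multiset.map_cons, h0, h5, Multiset.cons_add]
  -- the sum of the squares
  have hsq2 : 1 + (s.map fun a => a * a).sum + t * (v * v) ≤ 443520 := by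
    have h2 : ∑ i ∈ NE ∪ X, deg i ^ 2 ≤ 443520 := by
      rw [← hsq]
      exact Finset.sum_le_sum_of_subset (Finset.subset_univ _)
    rw [Finset.sum_union hdis, ← Finset.add_sum_erase NE _ hi0, h0] at h2
    have h3 : ∑ y ∈ X, deg y ^ 2 = t * v.natAbs ^ 2 := by
      rw [Finset.sum_congr rfl fun y hy => by rw [hdegX y hy], Finset.sum_const, hX, smul_eq_mul]
    rw [h3] at h2
    have h4 : ((∑ i ∈ NE.erase i0, deg i ^ 2 : ℕ) : ℤ) = (s.map fun a => a * a).sum := by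
      rw [hs, Multiset.map_map, Nat.cast_sum, Finset.sum_eq_multiset_sum]
      congr 1
      refine Multiset.map_congr rfl fun i hi => ?_
      rw [Finset.mem_val, Finset.mem_erase] at hi
      have := hε2 i hi.2
      simp only [Function.comp_apply, Nat.cast_pow]
      linear_combination (-(deg i : ℤ) ^ 2) * this
    have h5 : ((1 ^ 2 + ∑ i ∈ NE.erase i0, deg i ^ 2 + t * v.natAbs ^ 2 : ℕ) : ℤ) ≤ 443520 := by
      exact_mod_cast h2
    have h6 : ((v.natAbs ^ 2 : ℕ) : ℤ) = v * v := by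
      rw [Nat.cast_pow, sq, Int.natAbs_mul_self' v]
    rw [Nat.cast_add, Nat.cast_add, h4, Nat.cast_mul, h6] at h5
    norm_num at h5
    exact h5
  obtain ⟨l, hl, hls⟩ := exists_mem_multis C (e - 1) s hcard hsC
  have hall := List.all_eq_true.1 hLL l hl
  rw [← hls] at hsum hsq2 hfil
  rw [Multiset.sum_coe] at hsum
  rw [Multiset.map_coe, Multiset.sum_coe] at hsq2
  simp only [hsum] at hall
  rw [Bool.or_eq_true, Bool.or_eq_true, Bool.not_eq_true', Bool.not_eq_true'] at hall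
  rcases hall with (h | h) | h
  · rw [List.contains_iff_mem.2 hvE] at h
    exact absurd h (by decide)
  · exact absurd hsq2 (of_decide_eq_false h)
  · obtain ⟨r, hr, hperm⟩ := List.any_eq_true.1 h
    refine ⟨r, hr, ?_⟩
    rw [hfil, Multiset.coe_eq_coe.2 (List.isPerm_iff.1 hperm)]
    rw [Multiset.map_coe, ← Multiset.coe_replicate, Multiset.coe_add, Multiset.cons_coe]

/-! ### The concrete lists -/

def C11 : List ℤ := [-10, 12, -21, -32, 45, 56, -120, 144, 210, -252, 320, -384, -560]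
def E11 : List ℤ := [5, -6, 16, -28, 60, -72, -105, 126, -160, 192, 280, -336]
def L11 : List (List ℕ) :=
  [[1, 5, 5, 10, 10, 12, 12],
   [1, 5, 5, 10, 10, 21, 45],
   [1, 5, 5, 10, 10, 32, 56],
   [1, 5, 5, 10, 10, 120, 144],
   [1, 5, 5, 10, 21, 21, 56],
   [1, 5, 5, 10, 56, 210, 252],
   [1, 5, 5, 12, 12, 12, 32],
   [1, 5, 5, 12, 21, 32, 45],
   [1, 5, 5, 12, 32, 32, 56],
   [1, 5, 5, 12, 32, 120, 144],
   [1, 5, 5, 12, 56, 56, 120],
   [1, 5, 5, 12, 56, 320, 384],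
   [1, 5, 5, 32, 32, 252, 320],
   [1, 5, 5, 32, 144, 144, 252],
   [1, 5, 5, 32, 210, 210, 384],
   [1, 5, 5, 56, 56, 144, 252],
   [1, 5, 5, 56, 120, 252, 320],
   [1, 5, 5, 144, 210, 210, 560],
   [1, 5, 5, 252, 320, 320, 384],
   [1, 6, 6, 10, 10, 32, 45],
   [1, 6, 6, 10, 12, 12, 21],
   [1, 6, 6, 10, 21, 21, 45],
   [1, 6, 6, 10, 21, 32, 56],
   [1, 6, 6, 10, 21, 120, 144],
   [1, 6, 6, 10, 45, 210, 252],
   [1, 6, 6, 12, 32, 32, 45],
   [1, 6, 6, 12, 45, 56, 120],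
   [1, 6, 6, 12, 45, 320, 384],
   [1, 6, 6, 21, 21, 21, 56],
   [1, 6, 6, 21, 56, 210, 252],
   [1, 6, 6, 45, 56, 144, 252],
   [1, 6, 6, 45, 120, 252, 320],
   [1, 10, 10, 10, 16, 16, 45],
   [1, 10, 10, 12, 21, 28, 28],
   [1, 10, 10, 16, 16, 21, 56],
   [1, 10, 10, 21, 32, 72, 72],
   [1, 10, 10, 21, 120, 160, 160],
   [1, 10, 10, 21, 280, 280, 320],
   [1, 10, 12, 12, 45, 60, 60],
   [1, 10, 12, 12, 105, 105, 120],
   [1, 10, 12, 16, 16, 32, 45],
   [1, 10, 12, 21, 126, 126, 144],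
   [1, 10, 12, 21, 192, 192, 210],
   [1, 10, 12, 45, 72, 72, 120],
   [1, 10, 12, 45, 144, 192, 192],
   [1, 10, 12, 45, 336, 336, 384],
   [1, 10, 12, 105, 105, 144, 252],
   [1, 10, 21, 21, 21, 72, 72],
   [1, 10, 21, 45, 45, 60, 60],
   [1, 10, 21, 45, 105, 105, 120],
   [1, 10, 21, 60, 60, 120, 210],
   [1, 10, 21, 72, 72, 210, 252],
   [1, 10, 28, 28, 32, 32, 45],
   [1, 10, 28, 28, 45, 56, 120],
   [1, 10, 28, 28, 45, 320, 384],
   [1, 10, 32, 32, 32, 105, 105],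
   [1, 10, 32, 45, 56, 60, 60],
   [1, 10, 32, 56, 105, 105, 120],
   [1, 10, 32, 105, 105, 320, 384],
   [1, 10, 45, 45, 45, 126, 126],
   [1, 10, 45, 56, 160, 160, 252],
   [1, 10, 45, 60, 60, 120, 144],
   [1, 10, 45, 72, 72, 144, 252],
   [1, 10, 45, 120, 126, 126, 210],
   [1, 10, 45, 120, 252, 336, 336],
   [1, 10, 105, 105, 120, 120, 144],
   [1, 10, 105, 105, 144, 144, 384],
   [1, 12, 12, 12, 16, 16, 21],
   [1, 12, 12, 21, 28, 28, 32],
   [1, 12, 12, 21, 56, 60, 60],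
   [1, 12, 12, 45, 56, 126, 126],
   [1, 12, 12, 45, 210, 280, 280],
   [1, 12, 16, 16, 21, 21, 45],
   [1, 12, 16, 16, 21, 32, 56],
   [1, 12, 16, 16, 21, 120, 144],
   [1, 12, 16, 16, 45, 210, 252],
   [1, 12, 21, 32, 32, 72, 72],
   [1, 12, 21, 32, 120, 160, 160],
   [1, 12, 21, 32, 280, 280, 320],
   [1, 12, 21, 56, 72, 72, 120],
   [1, 12, 21, 56, 144, 192, 192],
   [1, 12, 21, 56, 336, 336, 384],
   [1, 12, 21, 60, 60, 252, 320],
   [1, 12, 21, 72, 72, 320, 384],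
   [1, 12, 21, 120, 192, 192, 320],
   [1, 12, 21, 144, 144, 280, 280],
   [1, 12, 45, 126, 126, 252, 320],
   [1, 12, 56, 105, 105, 210, 384],
   [1, 16, 16, 21, 32, 252, 320],
   [1, 16, 16, 21, 144, 144, 252],
   [1, 16, 16, 21, 210, 210, 384],
   [1, 16, 16, 45, 45, 45, 120],
   [1, 16, 16, 45, 120, 120, 210],
   [1, 16, 16, 45, 144, 210, 384],
   [1, 21, 21, 28, 28, 32, 45],
   [1, 21, 21, 32, 32, 105, 105],
   [1, 21, 21, 45, 56, 60, 60],
   [1, 21, 21, 56, 105, 105, 120],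
   [1, 21, 21, 105, 105, 320, 384],
   [1, 21, 28, 28, 32, 32, 56],
   [1, 21, 28, 28, 32, 120, 144],
   [1, 21, 28, 28, 56, 56, 120],
   [1, 21, 28, 28, 56, 320, 384],
   [1, 21, 32, 32, 60, 60, 144],
   [1, 21, 32, 32, 126, 126, 210],
   [1, 21, 32, 32, 252, 336, 336],
   [1, 21, 32, 56, 56, 60, 60],
   [1, 21, 32, 144, 160, 160, 252],
   [1, 21, 45, 45, 56, 126, 126],
   [1, 21, 45, 45, 210, 280, 280],
   [1, 21, 56, 56, 160, 160, 252],
   [1, 21, 56, 60, 60, 120, 144],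
   [1, 21, 56, 72, 72, 144, 252],
   [1, 21, 56, 120, 126, 126, 210],
   [1, 21, 56, 120, 252, 336, 336],
   [1, 21, 60, 60, 120, 120, 320],
   [1, 21, 60, 60, 144, 320, 384],
   [1, 21, 72, 72, 120, 252, 320],
   [1, 21, 120, 210, 210, 280, 280],
   [1, 21, 126, 126, 210, 320, 384],
   [1, 21, 144, 192, 192, 252, 320],
   [1, 28, 28, 32, 45, 210, 252],
   [1, 32, 32, 45, 126, 126, 144],
   [1, 32, 32, 45, 192, 192, 210],
   [1, 32, 32, 105, 105, 210, 252],
   [1, 32, 45, 56, 56, 126, 126],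
   [1, 32, 45, 56, 210, 280, 280],
   [1, 32, 45, 160, 160, 210, 384],
   [1, 45, 45, 45, 56, 192, 192],
   [1, 45, 45, 45, 144, 280, 280],
   [1, 45, 45, 56, 105, 105, 252],
   [1, 45, 56, 60, 60, 210, 252],
   [1, 45, 56, 72, 72, 210, 384],
   [1, 45, 56, 120, 126, 126, 144],
   [1, 45, 56, 120, 192, 192, 210],
   [1, 45, 120, 120, 126, 126, 320],
   [1, 45, 120, 144, 210, 280, 280],
   [1, 45, 126, 126, 144, 320, 384],
   [1, 45, 144, 160, 160, 210, 560],
   [1, 45, 192, 192, 210, 320, 384],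
   [1, 56, 105, 105, 120, 210, 252],
   [1, 105, 105, 210, 252, 320, 384]]

def C7 : List ℤ := [-6, 8, 15, -20, 22, 36, -48, -55, 64, -90, 99, 120, -132, -160, 176, 288, 330, -384, -440]
def E7 : List ℤ := [3, -4, 10, -11, -18, 24, -32, 45, -60, 66, 80, -88, -144, -165, 192, 220, 360, -396, -480, 528, 
   640]
def L7 : List (List ℕ) :=
  [[1, 3, 3, 6, 8],
   [1, 3, 3, 20, 22],
   [1, 4, 4, 15, 20],
   [1, 6, 6, 11, 11],
   [1, 6, 10, 10, 15],
   [1, 6, 55, 60, 60],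
   [1, 6, 160, 165, 165],
   [1, 8, 11, 11, 20],
   [1, 8, 15, 24, 24],
   [1, 8, 36, 45, 45],
   [1, 10, 10, 55, 64],
   [1, 10, 10, 90, 99],
   [1, 11, 11, 36, 48],
   [1, 11, 11, 120, 132],
   [1, 15, 32, 32, 48],
   [1, 15, 64, 80, 80],
   [1, 15, 144, 144, 160],
   [1, 15, 176, 192, 192],
   [1, 18, 18, 36, 55],
   [1, 20, 45, 45, 64],
   [1, 20, 80, 80, 99],
   [1, 22, 22, 45, 45],
   [1, 22, 32, 32, 55],
   [1, 32, 32, 99, 132],
   [1, 45, 45, 55, 99],
   [1, 45, 45, 132, 176],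
   [1, 55, 66, 66, 120],
   [1, 55, 90, 144, 144],
   [1, 60, 60, 99, 160],
   [1, 99, 120, 220, 220]]

def C5 : List ℤ := [-4, 6, -9, 11, -14, 16, 21, -24, 36, -44, 56, -64, 66, -84, 96, -99, 126, -144, -154, 176, 
   -224, 231, -264, 336, -384, 396, -504, 576, 616]
def E5 : List ℤ := [4, -6, 9, -11, 14, -16, -21, 24, -36, 44, -56, 64, -66, 84, -96, 99, -126, 144, 154, -176, 224, 
   -231, 264, -336, 384, -396, 504, -576, -616]
def L5 : List (List ℕ) :=
  [[1, 4, 4, 4, 11],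
   [1, 4, 4, 9, 16],
   [1, 4, 4, 14, 21],
   [1, 4, 4, 224, 231],
   [1, 4, 6, 6, 9],
   [1, 4, 6, 11, 14],
   [1, 4, 6, 21, 24],
   [1, 4, 6, 96, 99],
   [1, 4, 9, 9, 21],
   [1, 4, 9, 24, 36],
   [1, 4, 9, 44, 56],
   [1, 4, 9, 84, 96],
   [1, 4, 9, 384, 396],
   [1, 4, 11, 16, 24],
   [1, 4, 11, 36, 44],
   [1, 4, 11, 56, 64],
   [1, 4, 21, 66, 84],
   [1, 4, 21, 126, 144],
   [1, 4, 24, 99, 126],
   [1, 4, 36, 66, 99],
   [1, 4, 36, 231, 264],
   [1, 4, 84, 144, 231],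
   [1, 6, 6, 11, 24],
   [1, 6, 9, 9, 11],
   [1, 6, 9, 14, 16],
   [1, 6, 9, 64, 66],
   [1, 6, 11, 66, 84],
   [1, 6, 11, 126, 144],
   [1, 6, 14, 14, 21],
   [1, 6, 14, 224, 231],
   [1, 6, 16, 21, 44],
   [1, 6, 21, 36, 64],
   [1, 6, 21, 56, 84],
   [1, 6, 21, 126, 154],
   [1, 6, 36, 56, 99],
   [1, 6, 84, 99, 176],
   [1, 6, 84, 154, 231],
   [1, 9, 11, 11, 14],
   [1, 9, 11, 21, 24],
   [1, 9, 11, 96, 99],
   [1, 9, 14, 14, 36],
   [1, 9, 14, 44, 66],
   [1, 9, 14, 154, 176],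
   [1, 9, 16, 16, 24],
   [1, 9, 16, 36, 44],
   [1, 9, 16, 56, 64],
   [1, 9, 24, 24, 56],
   [1, 9, 24, 64, 96],
   [1, 9, 24, 144, 176],
   [1, 9, 36, 36, 64],
   [1, 9, 36, 56, 84],
   [1, 9, 36, 126, 154],
   [1, 9, 44, 44, 96],
   [1, 9, 56, 96, 144],
   [1, 9, 56, 176, 224],
   [1, 9, 56, 336, 384],
   [1, 9, 64, 264, 336],
   [1, 9, 66, 96, 154],
   [1, 9, 84, 84, 176],
   [1, 9, 96, 176, 264],
   [1, 9, 176, 336, 504],
   [1, 11, 11, 21, 44],
   [1, 11, 14, 14, 16],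
   [1, 11, 14, 64, 66],
   [1, 11, 16, 16, 44],
   [1, 11, 16, 36, 64],
   [1, 11, 16, 56, 84],
   [1, 11, 16, 126, 154],
   [1, 11, 21, 66, 99],
   [1, 11, 21, 231, 264],
   [1, 11, 24, 24, 36],
   [1, 11, 24, 44, 56],
   [1, 11, 24, 84, 96],
   [1, 11, 24, 384, 396],
   [1, 11, 36, 36, 84],
   [1, 11, 36, 96, 144],
   [1, 11, 36, 176, 224],
   [1, 11, 36, 336, 384],
   [1, 11, 44, 64, 96],
   [1, 11, 44, 144, 176],
   [1, 11, 66, 66, 144],
   [1, 11, 84, 264, 336],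
   [1, 11, 96, 396, 504],
   [1, 11, 99, 144, 231],
   [1, 11, 126, 126, 264],
   [1, 11, 144, 264, 396],
   [1, 14, 14, 99, 126],
   [1, 14, 16, 21, 24],
   [1, 14, 16, 96, 99],
   [1, 14, 21, 36, 44],
   [1, 14, 21, 56, 64],
   [1, 14, 56, 56, 99],
   [1, 14, 64, 99, 176],
   [1, 14, 64, 154, 231],
   [1, 14, 99, 224, 336],
   [1, 16, 16, 66, 99],
   [1, 16, 16, 231, 264],
   [1, 16, 24, 224, 231],
   [1, 16, 44, 99, 126],
   [1, 21, 21, 21, 64],
   [1, 21, 21, 56, 99],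
   [1, 21, 24, 64, 66],
   [1, 21, 36, 96, 154],
   [1, 21, 44, 44, 66],
   [1, 21, 44, 154, 176],
   [1, 21, 56, 66, 144],
   [1, 21, 64, 84, 126],
   [1, 21, 66, 66, 154],
   [1, 21, 66, 176, 264],
   [1, 21, 99, 99, 176],
   [1, 21, 99, 154, 231],
   [1, 21, 154, 264, 396],
   [1, 24, 56, 66, 99],
   [1, 24, 56, 231, 264],
   [1, 24, 64, 144, 231],
   [1, 24, 176, 231, 384],
   [1, 36, 44, 224, 231],
   [1, 36, 64, 99, 126],
   [1, 44, 44, 144, 231],
   [1, 56, 64, 224, 231],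
   [1, 56, 84, 99, 126],
   [1, 56, 96, 231, 384],
   [1, 56, 144, 144, 231],
   [1, 64, 66, 96, 99],
   [1, 64, 84, 84, 231],
   [1, 64, 96, 231, 264],
   [1, 64, 231, 336, 504],
   [1, 66, 99, 144, 176],
   [1, 66, 144, 154, 231],
   [1, 84, 99, 154, 336],
   [1, 96, 176, 231, 504],
   [1, 99, 126, 126, 154],
   [1, 99, 144, 154, 396],
   [1, 144, 176, 231, 264]]

theorem chk11 : chk C11 E11 4 2 L11 = true := by decide +kernel
theorem chk7 : chk C7 E7 2 2 L7 = true := by decide +kernel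
theorem chk5 : chk C5 E5 3 1 L5 = true := by decide +kernel

end Cfsg.Agent.M22.DegreesComb
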