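import Cfsg.Agent.Characters.Core
import Cfsg.Agent.Blocks.Basic
import Cfsg.Agent.M22.DegreesComb

/-!
# From the conclusion of Brauer's theorem (self-centralising Sylow subgroup of prime order) to the
combinatorial degree data `BData`
-/

set_option autoImplicit false

namespace Cfsg.Agent.M22.BDataOfBlocks

open Cfsg Cfsg.Agent.Characters.Core Cfsg.Agent.M22.DegreesComb
open Cfsg.Agent.Blocks.Basic (irr_one_eq_charDegree)

universe u

variable {G : Type u} [Group G] [Finite G]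

/-- The sum of a character over a subgroup is a natural multiple of its order. -/
theorem exists_sum_eq {χ : G → ℂ} (hχ : IsCharacter G χ) (P : Subgroup G) [Fintype P] :
    ∃ n : ℕ, ∑ x : P, χ x = (Nat.card P : ℂ) * n := by
  obtain ⟨n, hn⟩ := classInner_isNat (G := P) (isCharacter_comp P.subtype hχ) isCharacter_one
  refine ⟨n, ?_⟩
  rw [classInner_def] at hn
  have hc : (Nat.card P : ℂ) ≠ 0 := card_ne_zero_complex
  have h2 : ∑ g : P, (χ ∘ P.subtype) g * (starRingEnd ℂ) ((1 : P → ℂ) g) =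
      ∑ x : P, χ x := by
    refine Finset.sum_congr rfl fun x _ => ?_
    simp
  rw [h2] at hn
  rw [← hn, mul_inv_cancel_left₀ hc]

/-- The degree of an irreducible character with constant value `ε` on `P ∖ 1` is congruent to `ε`
modulo `p`. -/
theorem dvd_of_const {p : ℕ} (P : Subgroup G) (hP : Nat.card P = p) (χ : IrrCharacter G) (ε : ℤ)
    (h : ∀ x ∈ P, x ≠ 1 → (χ : G → ℂ) x = ε) :
    (p : ℤ) ∣ (charDegree (χ : G → ℂ) : ℤ) - ε := by
  classical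
  have := Fintype.ofFinite P
  obtain ⟨n, hn⟩ := exists_sum_eq (isIrr_isCharacter χ.2) P
  rw [← Finset.add_sum_erase Finset.univ _ (Finset.mem_univ (1 : P))] at hn
  have h2 : ∑ x ∈ Finset.univ.erase (1 : P), (χ : G → ℂ) x =
      ∑ x ∈ Finset.univ.erase (1 : P), (ε : ℂ) := by
    refine Finset.sum_congr rfl fun x hx => ?_
    refine h x x.2 fun h1 => ?_
    exact (Finset.mem_erase.1 hx).1 (Subtype.ext h1)
  rw [h2, Finset.sum_const, Finset.card_erase_of_mem (Finset.mem_univ _), Finset.card_univ,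
    ← Nat.card_eq_fintype_card, hP, OneMemClass.coe_one, irr_one_eq_charDegree χ.2,
    nsmul_eq_mul] at hn
  have hp : 0 < p := hP ▸ Nat.card_pos
  have h3 : (charDegree (χ : G → ℂ) : ℤ) + ((p - 1 : ℕ) : ℤ) * ε = p * n := by
    exact_mod_cast hn
  rw [Nat.cast_sub hp, Nat.cast_one] at h3
  exact ⟨n - ε, by linear_combination h3⟩

/-- A nontrivial linear character of a finite group sums to zero. -/
theorem sum_hom_eq_zero {P : Type*} [Group P] [Fintype P] (l : P →* ℂˣ) (hl : l ≠ 1) :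
    ∑ x : P, ((l x : ℂˣ) : ℂ) = 0 := by
  obtain ⟨y, hy⟩ : ∃ y, l y ≠ 1 := by
    by_contra hcon
    push Not at hcon
    exact hl (MonoidHom.ext hcon)
  have h1 : ((l y : ℂˣ) : ℂ) * ∑ x : P, ((l x : ℂˣ) : ℂ) = ∑ x : P, ((l x : ℂˣ) : ℂ) := by
    rw [Finset.mul_sum, ← Equiv.sum_comp (Equiv.mulLeft y) fun x => ((l x : ℂˣ) : ℂ)]
    refine Finset.sum_congr rfl fun x _ => ?_
    rw [Equiv.coe_mulLeft, map_mul, Units.val_mul]
  have h2 : (((l y : ℂˣ) : ℂ) - 1) * ∑ x : P, ((l x : ℂˣ) : ℂ) = 0 := by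
    rw [sub_mul, one_mul, h1, sub_self]
  rcases mul_eq_zero.1 h2 with h | h
  · exact absurd (Units.ext (by rw [Units.val_one]; exact sub_eq_zero.1 h)) hy
  · exact h

/-- The degree of an exceptional character is congruent to `d * e` modulo `p`. -/
theorem dvd_of_exceptional {p e : ℕ} (P : Subgroup G) (hP : Nat.card P = p) (χ : IrrCharacter G)
    (d : ℤ) (S : Finset (P →* ℂˣ)) (hS : S.card = e) (h1 : 1 ∉ S)
    (h : ∀ x : P, x ≠ 1 → (χ : G → ℂ) x = d * ∑ l ∈ S, ((l x : ℂˣ) : ℂ)) :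
    (p : ℤ) ∣ (charDegree (χ : G → ℂ) : ℤ) - d * e := by
  classical
  have := Fintype.ofFinite P
  obtain ⟨n, hn⟩ := exists_sum_eq (isIrr_isCharacter χ.2) P
  have h2 : ∑ x : P, (χ : G → ℂ) x = charDegree (χ : G → ℂ) - d * e := by
    have h3 : ∑ x : P, (d : ℂ) * ∑ l ∈ S, ((l x : ℂˣ) : ℂ) = 0 := by
      rw [← Finset.mul_sum, Finset.sum_comm]
      rw [Finset.sum_eq_zero fun l hl => sum_hom_eq_zero l fun h => h1 (h ▸ hl), mul_zero]
    rw [← Finset.add_sum_erase Finset.univ _ (Finset.mem_univ (1 : P))] at h3 ⊢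
    have h4 : ∑ x ∈ Finset.univ.erase (1 : P), (χ : G → ℂ) x =
        ∑ x ∈ Finset.univ.erase (1 : P), (d : ℂ) * ∑ l ∈ S, ((l x : ℂˣ) : ℂ) := by
      refine Finset.sum_congr rfl fun x hx => ?_
      exact h x (Finset.mem_erase.1 hx).1
    have h5 : ∑ l ∈ S, ((l (1 : P) : ℂˣ) : ℂ) = e := by
      rw [Finset.sum_congr rfl fun l _ => by rw [map_one, Units.val_one], Finset.sum_const, hS,
        nsmul_eq_mul, mul_one]
    rw [h5] at h3
    rw [h4, OneMemClass.coe_one, irr_one_eq_charDegree χ.2]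
    linear_combination h3
  rw [h2, hP] at hn
  refine ⟨n, ?_⟩
  exact_mod_cast hn

/-- The degree data from the conclusion of Brauer's theorem. -/
theorem bdata {p : ℕ} (P : Subgroup G) (hP : Nat.card P = p) (e t : ℕ)
    (NE X : Finset (IrrCharacter G)) (ε : IrrCharacter G → ℤ) (d : ℤ)
    (S : IrrCharacter G → Finset (P →* ℂˣ)) (hdis : Disjoint NE X) (hNE : NE.card = e)
    (hX : X.card = t) (hε : ∀ χ ∈ NE, ε χ = 1 ∨ ε χ = -1) (hd : d = 1 ∨ d = -1)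
    (htriv : ∃ χ₁ ∈ NE, (χ₁ : G → ℂ) = 1 ∧ ε χ₁ = 1)
    (hval : ∀ χ ∈ NE, ∀ x ∈ P, x ≠ 1 → (χ : G → ℂ) x = ε χ)
    (hexc : ∀ Θ ∈ X, (S Θ).card = e ∧ 1 ∉ S Θ ∧
      ∀ x : P, x ≠ 1 → (Θ : G → ℂ) x = d * ∑ l ∈ S Θ, ((l x : ℂˣ) : ℂ))
    (hrel : ∀ Θ ∈ X, ∑ χ ∈ NE, (ε χ : ℂ) * (χ : G → ℂ) 1 = d * (Θ : G → ℂ) 1)
    (hrest : ∀ χ : IrrCharacter G, χ ∉ NE → χ ∉ X → p ∣ charDegree (χ : G → ℂ)) :
    BData (fun χ : IrrCharacter G => charDegree (χ : G → ℂ)) ⟨1, isIrr_one⟩ p e t := by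
  obtain ⟨χ₁, h1, h2, h3⟩ := htriv
  have h4 : χ₁ = ⟨1, isIrr_one⟩ := Subtype.ext h2
  subst h4
  refine ⟨NE, X, ε, d, hdis, hNE, hX, hε, hd, h1, h3, fun χ hχ => ?_, fun Θ hΘ => ?_,
    fun Θ hΘ => ?_, hrest⟩
  · exact dvd_of_const P hP χ (ε χ) (hval χ hχ)
  · obtain ⟨h5, h6, h7⟩ := hexc Θ hΘ
    exact dvd_of_exceptional P hP Θ d (S Θ) h5 h6 h7
  · have h5 := hrel Θ hΘ
    rw [irr_one_eq_charDegree Θ.2] at h5
    have h6 : ∑ χ ∈ NE, (ε χ : ℂ) * (χ : G → ℂ) 1 =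
        ((∑ χ ∈ NE, ε χ * (charDegree (χ : G → ℂ) : ℤ) : ℤ) : ℂ) := by
      push_cast
      refine Finset.sum_congr rfl fun χ _ => ?_
      rw [irr_one_eq_charDegree χ.2]
    rw [h6] at h5
    exact_mod_cast h5

end Cfsg.Agent.M22.BDataOfBlocks
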