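import Cfsg.Agent.M22.CaseBTable

/-!
# The column of an involution in case B of the group of order 443520
-/

set_option autoImplicit false
set_option linter.unusedSectionVars false

open Cfsg Subgroup
open scoped ComplexConjugate

namespace Cfsg.Agent.M22.CaseBInvol

open Cfsg.Agent.Characters.Core
open Cfsg.Agent.Blocks.Basic (irr_one_eq_charDegree)
open Cfsg.Agent.SporadicA
open Cfsg.Agent.M22.CaseBTable

universe u

variable {G : Type u} [Group G] [Finite G]

/-- All facts used about case B. -/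
structure Ctx (f : Fin 12 ≃ IrrCharacter G) : Prop where
  simple : IsSimpleGroup G
  card : Nat.card G = 443520
  deg : ∀ i, charDegree (f i : G → ℂ) = D i
  e11 : ∃ x : G, Eleven f x ∧ Eleven f (x * x)
  e7 : ∃ x : G, Seven f x ∧ Seven f (x * x)
  e5 : ∃ x : G, orderOf x = 5 ∧ Five f x ∧ Five f (x * x)
  r11 : ∀ g : G, ¬ 11 ∣ orderOf g →
      (f 9 : G → ℂ) g = 1 - (f 1 : G → ℂ) g + (f 2 : G → ℂ) g + (f 3 : G → ℂ) g + (f 7 : G → ℂ) g ∧
      (f 10 : G → ℂ) g = (f 9 : G → ℂ) g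
  r7 : ∀ g : G, ¬ 7 ∣ orderOf g →
      (f 2 : G → ℂ) g = 1 - (f 4 : G → ℂ) g + (f 5 : G → ℂ) g ∧
      (f 3 : G → ℂ) g = (f 2 : G → ℂ) g
  c11 : ∀ t : G, t ≠ 1 → ¬ 11 ∣ orderOf t → ¬ 11 ∣ Nat.card (centralizer ({t} : Set G))
  c7 : ∀ t : G, t ≠ 1 → ¬ 7 ∣ orderOf t → ¬ 7 ∣ Nat.card (centralizer ({t} : Set G))
  c5 : ∀ t : G, t ≠ 1 → ¬ 5 ∣ orderOf t → ¬ 5 ∣ Nat.card (centralizer ({t} : Set G))

theorem mul_self_ne_one {p : ℕ} (hp : 2 < p) {x : G} (hx : orderOf x = p) : x * x ≠ 1 := by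
  intro h
  have h1 : orderOf x ∣ 2 := orderOf_dvd_of_pow_eq_one (by rw [pow_two]; exact h)
  have h2 := Nat.le_of_dvd (by norm_num) h1
  omega

theorem ne_one_of_orderOf {p : ℕ} (hp : 2 < p) {x : G} (hx : orderOf x = p) : x ≠ 1 := by
  rintro rfl
  rw [orderOf_one] at hx
  omega

theorem not_prime (hcard : Nat.card G = 443520) : ¬ (Nat.card G).Prime := by
  rw [hcard]; norm_num

theorem Ctx.mk' [hs : IsSimpleGroup G] (hcard : Nat.card G = 443520)
    [Fact (Nat.Prime 11)] [Fact (Nat.Prime 7)] [Fact (Nat.Prime 5)]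
    (P11 : Sylow 11 G) (P7 : Sylow 7 G) (P5 : Sylow 5 G)
    (c11 : centralizer (P11 : Set G) = (P11 : Subgroup G))
    (c7 : centralizer (P7 : Set G) = (P7 : Subgroup G))
    (c5 : centralizer (P5 : Set G) = (P5 : Subgroup G))
    (e11 : (centralizer (P11 : Set G)).relIndex (normalizer (P11 : Set G)) = 5)
    (e7 : (centralizer (P7 : Set G)).relIndex (normalizer (P7 : Set G)) = 3)
    (e5 : (centralizer (P5 : Set G)).relIndex (normalizer (P5 : Set G)) = 4)
    (f : Fin 12 ≃ IrrCharacter G) (hf : ∀ i, charDegree (f i : G → ℂ) = D i) : Ctx f := by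
  have h11 : Nat.card P11 = 11 :=
    Degrees.card_sylow_eq (m := 40320) (by rw [hcard]) (by norm_num) P11
  have h7 : Nat.card P7 = 7 :=
    Degrees.card_sylow_eq (m := 63360) (by rw [hcard]) (by norm_num) P7
  have h5 : Nat.card P5 = 5 :=
    Degrees.card_sylow_eq (m := 88704) (by rw [hcard]) (by norm_num) P5
  have hG := not_prime hcard
  obtain ⟨x11, hx11, ho11⟩ := SmallSimple.DetKernel.exists_generator P11 h11
  obtain ⟨x7, hx7, ho7⟩ := SmallSimple.DetKernel.exists_generator P7 h7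
  obtain ⟨x5, hx5, ho5⟩ := SmallSimple.DetKernel.exists_generator P5 h5
  obtain ⟨t11, r11⟩ := eleven hG hf P11 h11 c11 e11
  obtain ⟨t7, r7⟩ := seven hG hf P7 h7 c7 e7
  have t5 := five hG hf P5 h5 c5 e5
  exact
    { simple := hs
      card := hcard
      deg := hf
      e11 := ⟨x11, t11 _ hx11 (ne_one_of_orderOf (by norm_num) ho11),
        t11 _ (mul_mem hx11 hx11) (mul_self_ne_one (by norm_num) ho11)⟩
      e7 := ⟨x7, t7 _ hx7 (ne_one_of_orderOf (by norm_num) ho7),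
        t7 _ (mul_mem hx7 hx7) (mul_self_ne_one (by norm_num) ho7)⟩
      e5 := ⟨x5, ho5, t5 _ hx5 (ne_one_of_orderOf (by norm_num) ho5),
        t5 _ (mul_mem hx5 hx5) (mul_self_ne_one (by norm_num) ho5)⟩
      r11 := r11
      r7 := r7
      c11 := fun t ht1 ht => ColTools.not_dvd_card_centralizer P11 h11 c11 ht1 ht
      c7 := fun t ht1 ht => ColTools.not_dvd_card_centralizer P7 h7 c7 ht1 ht
      c5 := fun t ht1 ht => ColTools.not_dvd_card_centralizer P5 h5 c5 ht1 ht }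

section

variable {f : Fin 12 ≃ IrrCharacter G} (C : Ctx f)

include C

theorem Ctx.commutator : commutator G = ⊤ := by
  have := C.simple
  exact MTwelve.SmallDegree.commutator_eq_top_of_card (not_prime C.card)

theorem Ctx.f0 (g : G) : (f 0 : G → ℂ) g = 1 := by
  have := C.simple
  exact f0_apply (not_prime C.card) C.deg g

theorem Ctx.col5 {g : G} (hg : ¬ 5 ∣ orderOf g) :
    1 + (f 1 : G → ℂ) g - (f 5 : G → ℂ) g - (f 6 : G → ℂ) g + (f 8 : G → ℂ) g = 0 := by
  obtain ⟨x, hx, h, -⟩ := C.e5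
  have hconj : ¬ IsConj g x := by
    intro hc
    obtain ⟨c, hc⟩ := isConj_iff.1 hc
    apply hg
    rw [← hx, ← hc, ← MulAut.conj_apply, MulEquiv.orderOf_eq]
  have h1 := (S0145.result g x).2 hconj
  rw [sum_irr f, sum12, C.f0 g, h.c0, h.c1, h.c2, h.c3, h.c4, h.c5, h.c6, h.c7, h.c8, h.c9, h.c10,
    h.c11] at h1
  simp only [map_one, map_neg, map_zero] at h1
  linear_combination h1

theorem Ctx.f_ne_one {i : Fin 12} (hi : i ≠ 0) : (f i : G → ℂ) ≠ 1 := by
  intro h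
  have h1 : (f i : G → ℂ) 1 = 1 := by rw [h]; rfl
  rw [apply_one C.deg] at h1
  have h2 : D i = 1 := by exact_mod_cast h1
  have key : ∀ i : Fin 12, i ≠ 0 → D i ≠ 1 := by decide
  exact key i hi h2

theorem Ctx.card_centralizer_dvd {g : G} (hg : g ≠ 1) (h5 : ¬ 5 ∣ orderOf g)
    (h7 : ¬ 7 ∣ orderOf g) (h11 : ¬ 11 ∣ orderOf g) :
    Nat.card (centralizer ({g} : Set G)) ∣ 1152 := by
  have h1 : Nat.card (centralizer ({g} : Set G)) ∣ 1152 * 385 := by
    have := Subgroup.card_subgroup_dvd_card (centralizer ({g} : Set G))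
    rw [C.card] at this
    exact this
  refine Nat.Coprime.dvd_of_dvd_mul_right ?_ h1
  have h385 : (385 : ℕ) = 5 * 7 * 11 := by norm_num
  rw [h385]
  refine Nat.Coprime.mul_right (Nat.Coprime.mul_right ?_ ?_) ?_
  · exact ((Nat.Prime.coprime_iff_not_dvd (by norm_num)).2 (C.c5 g hg h5)).symm
  · exact ((Nat.Prime.coprime_iff_not_dvd (by norm_num)).2 (C.c7 g hg h7)).symm
  · exact ((Nat.Prime.coprime_iff_not_dvd (by norm_num)).2 (C.c11 g hg h11)).symm

/-- The column of an involution. -/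
theorem Ctx.invol {t : G} (ht : t * t = 1) (ht1 : t ≠ 1) :
    (f 1 : G → ℂ) t = 5 ∧ (f 2 : G → ℂ) t = -3 ∧ (f 3 : G → ℂ) t = -3 ∧ (f 4 : G → ℂ) t = 7 ∧
    (f 5 : G → ℂ) t = 3 ∧ (f 6 : G → ℂ) t = 10 ∧ (f 7 : G → ℂ) t = 2 ∧ (f 8 : G → ℂ) t = 7 ∧
    (f 9 : G → ℂ) t = -8 ∧ (f 10 : G → ℂ) t = -8 ∧ (f 11 : G → ℂ) t = 1 ∧
    Nat.card (centralizer ({t} : Set G)) = 384 := by
  have := C.simple
  have hord : orderOf t = 2 := by
    apply orderOf_eq_prime _ ht1
    rw [pow_two]; exact ht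
  have h5 : ¬ 5 ∣ orderOf t := by rw [hord]; norm_num
  have h7 : ¬ 7 ∣ orderOf t := by rw [hord]; norm_num
  have h11 : ¬ 11 ∣ orderOf t := by rw [hord]; norm_num
  have hval : ∀ i : Fin 12, i ≠ 0 → ∃ z : ℤ, (f i : G → ℂ) t = z ∧ |z| < D i ∧
      (4 : ℤ) ∣ D i - z := by
    intro i hi
    have := SmallSimple.InvolColumn.exists_int C.commutator (f i).2 (C.f_ne_one hi)
      (by rw [pow_two]; exact ht) ht1
    rwa [C.deg] at this
  obtain ⟨a, ha, ha', ha4⟩ := hval 1 (by decide)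
  obtain ⟨b, hb, hb', hb4⟩ := hval 2 (by decide)
  obtain ⟨c, hc, hc', hc4⟩ := hval 4 (by decide)
  obtain ⟨d, hd, hd', hd4⟩ := hval 6 (by decide)
  obtain ⟨e, he, he', he4⟩ := hval 7 (by decide)
  obtain ⟨r7a, r7b⟩ := C.r7 t h7
  obtain ⟨r11a, r11b⟩ := C.r11 t h11
  have r5 := C.col5 h5
  have h3 : (f 3 : G → ℂ) t = b := by rw [r7b, hb]
  have h5' : (f 5 : G → ℂ) t = b + c - 1 := by
    rw [hb, hc] at r7a
    linear_combination -r7a
  have h8 : (f 8 : G → ℂ) t = d + b + c - 2 - a := by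
    rw [ha, h5', hd] at r5
    linear_combination r5
  have h9 : (f 9 : G → ℂ) t = 1 - a + 2 * b + e := by
    rw [r11a, ha, hb, h3, he]
    ring
  have h10 : (f 10 : G → ℂ) t = 1 - a + 2 * b + e := by rw [r11b, h9]
  have h11' : (f 11 : G → ℂ) t = 2 * a - 4 * b - c - d - 2 * e := by
    have h := col_one C.deg ht1
    rw [sum12, C.f0, ha, hb, h3, hc, h5', hd, he, h8, h9, h10] at h
    simp [D] at h
    linear_combination h / 385
  -- the norm
  have hnorm : CaseBSearch.norm a b c d e = Nat.card (centralizer ({t} : Set G)) := by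
    have h := (S0145.result t t).1 (IsConj.refl t)
    rw [sum_irr f, sum12, C.f0, ha, hb, h3, hc, h5', hd, he, h8, h9, h10, h11'] at h
    simp only [map_one, map_add, map_sub, map_mul, conj_ofInt, map_ofNat] at h
    have h' : ((CaseBSearch.norm a b c d e : ℤ) : ℂ) =
        (Nat.card (centralizer ({t} : Set G)) : ℂ) := by
      rw [← h]
      unfold CaseBSearch.norm
      push_cast
      ring
    exact_mod_cast h'
  -- the two relations from nonreal elements
  have hrel11 : CaseBSearch.rel11 a b e = 0 := by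
    obtain ⟨x, hx, -⟩ := C.e11
    have h := ColTools.sum_eq_zero_of_nonreal ht ht ⟨f 9, hx.nonreal⟩
    rw [sum_irr f, sum12, C.f0, ha, hb, h3, hc, h5', hd, he, h8, h9, h10, h11', hx.c0, hx.c1,
      hx.c2, hx.c3, hx.c4, hx.c5, hx.c6, hx.c7, hx.c8, hx.c11] at h
    simp only [map_one, map_neg, map_zero, apply_one C.deg] at h
    have hs := congrArg conj hx.sum
    simp only [map_add, map_neg, map_one] at hs
    have h' : ((CaseBSearch.rel11 a b e : ℤ) : ℂ) = 0 := by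
      unfold CaseBSearch.rel11
      push_cast
      simp [D] at h
      linear_combination 2520 * h - 9 * (1 - a + 2 * b + e) ^ 2 * hs
    exact_mod_cast h'
  have hrel7 : 495 - 9 * c ^ 2 + 5 * (b + c - 1) ^ 2 - 11 * b ^ 2 = 0 := by
    obtain ⟨x, hx, -⟩ := C.e7
    have h := ColTools.sum_eq_zero_of_nonreal ht ht ⟨f 2, hx.nonreal⟩
    rw [sum_irr f, sum12, C.f0, ha, hb, h3, hc, h5', hd, he, h8, h9, h10, h11', hx.c0, hx.c1,
      hx.c4, hx.c5, hx.c6, hx.c7, hx.c8, hx.c9, hx.c10, hx.c11] at h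
    simp only [map_one, map_neg, map_zero, apply_one C.deg] at h
    have hs := congrArg conj hx.sum
    simp only [map_add, map_neg, map_one] at hs
    have h' : ((495 - 9 * c ^ 2 + 5 * (b + c - 1) ^ 2 - 11 * b ^ 2 : ℤ) : ℂ) = 0 := by
      push_cast
      simp [D] at h
      linear_combination 495 * h - 11 * b ^ 2 * hs
    exact_mod_cast h'
  have hdvd := C.card_centralizer_dvd ht1 h5 h7 h11
  have hD1 : (D 1 : ℤ) = 21 := rfl
  have hD2 : (D 2 : ℤ) = 45 := rfl
  have hD4 : (D 4 : ℤ) = 55 := rfl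
  have hD6 : (D 6 : ℤ) = 154 := rfl
  have hD7 : (D 7 : ℤ) = 210 := rfl
  rw [hD1] at ha' ha4
  rw [hD2] at hb4
  rw [hD4] at hc4
  rw [hD6] at hd4
  rw [hD7] at he4
  have ha2 : a ^ 2 ≤ 400 := by
    have := abs_lt.1 ha'
    nlinarith
  obtain ⟨e1, e2, e3, e4, e5, e6⟩ := CaseBSearch.inv_column a b c d e _ hnorm hdvd (by omega)
    (by omega) (by omega) (by omega) (by omega) ha2 hrel11 hrel7
  rw [ha, hb, h3, hc, h5', hd, he, h8, h9, h10, h11', e1, e2, e3, e4, e5]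
  refine ⟨?_, ?_, ?_, ?_, ?_, ?_, ?_, ?_, ?_, ?_, ?_, e6⟩ <;> push_cast <;> norm_num

end

end Cfsg.Agent.M22.CaseBInvol
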