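import Mathlib

/-!
# Integer searches for the character table of a simple group of order 443520 (case B)

`a, b, c, e, d, f, g, k, h` are the values of the characters of degree
`21, 45, 55, 99, 154, 210, 231, 280, 385`.
-/

set_option autoImplicit false

namespace Cfsg.Agent.M22.CaseBSearch

/-- The relation for an element of order eleven which is not a product of two involutions. -/
def rel11 (a b f : ℤ) : ℤ :=
  2520 - 120 * a ^ 2 + 112 * b ^ 2 + 12 * f ^ 2 - 9 * (1 - a + 2 * b + f) ^ 2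

/-- The norm of a column of a `{2,3}`-element. -/
def norm (a b c d f : ℤ) : ℤ :=
  1 + a ^ 2 + 2 * b ^ 2 + c ^ 2 + (b + c - 1) ^ 2 + d ^ 2 + f ^ 2 + (d + b + c - 2 - a) ^ 2 +
    2 * (1 - a + 2 * b + f) ^ 2 + (2 * a - 4 * b - c - d - 2 * f) ^ 2

/-- The norm of a column of an element of order four. -/
def norm4 (a b c d : ℤ) : ℤ := norm a b c d (a - 2 * b + c + d - 2)

/-- A part of the norm. -/
def pnorm (a b f : ℤ) : ℤ := 1 + a ^ 2 + 2 * b ^ 2 + f ^ 2 + 2 * (1 - a + 2 * b + f) ^ 2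

def ck11 (i j k : ℕ) : Bool :=
  !(decide (pnorm (4 * (i : ℤ) - 19) (4 * (j : ℤ) - 23) (4 * (k : ℤ) - 34) ≤ 1152)) ||
  rel11 (4 * (i : ℤ) - 19) (4 * (j : ℤ) - 23) (4 * (k : ℤ) - 34) != 0 ||
    (i == 6 && j == 5 && k == 9) || (i == 7 && j == 8 && k == 10)

theorem search11 : ∀ i < (11 : ℕ), ∀ j < (12 : ℕ), ∀ k < (17 : ℕ), ck11 i j k = true := by
  decide +kernel

theorem bound {x n : ℤ} (hn : 0 ≤ n) (h : x ^ 2 < n ^ 2) : -n < x ∧ x < n := by
  have := abs_lt_of_sq_lt_sq h hn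
  exact abs_lt.1 this

theorem inv_triple (a b f : ℤ) (ha : a ^ 2 ≤ 400) (hb : b ^ 2 ≤ 576) (hf : f ^ 2 ≤ 1152)
    (hp : pnorm a b f ≤ 1152) (ha4 : a % 4 = 1) (hb4 : b % 4 = 1) (hf4 : f % 4 = 2) (h : rel11 a b f = 0) :
    (a = 5 ∧ b = -3 ∧ f = 2) ∨ (a = 9 ∧ b = 9 ∧ f = 6) := by
  have ha' : -21 < a ∧ a < 21 := bound (by norm_num) (by linarith)
  have hb' : -25 < b ∧ b < 25 := bound (by norm_num) (by linarith)
  have hf' : -34 < f ∧ f < 34 := bound (by norm_num) (by linarith)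
  obtain ⟨i, hi⟩ : ∃ i : ℕ, a = 4 * (i : ℤ) - 19 := ⟨((a + 19) / 4).toNat, by omega⟩
  obtain ⟨j, hj⟩ : ∃ j : ℕ, b = 4 * (j : ℤ) - 23 := ⟨((b + 23) / 4).toNat, by omega⟩
  obtain ⟨k, hk⟩ : ∃ k : ℕ, f = 4 * (k : ℤ) - 34 := ⟨((f + 34) / 4).toNat, by omega⟩
  have h1 := search11 i (by omega) j (by omega) k (by omega)
  unfold ck11 at h1
  rw [← hi, ← hj, ← hk, h] at h1
  simp only [hp, decide_true, Bool.not_true, bne_self_eq_false, Bool.false_or, Bool.or_eq_true, Bool.and_eq_true,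
    beq_iff_eq] at h1
  omega

def ckD (i : ℕ) : Bool :=
  !(decide ((364 + 3 * (4 * (i : ℤ) - 22) ^ 2 - 28 * (4 * (i : ℤ) - 22)).toNat ∣ 1152)) || i == 8

theorem searchD : ∀ i < (14 : ℕ), ckD i = true := by
  decide +kernel

/-- The column of an involution. -/
theorem inv_column (a b c d f : ℤ) (N : ℕ) (hN : norm a b c d f = N) (hdvd : N ∣ 1152)
    (ha4 : a % 4 = 1) (hb4 : b % 4 = 1) (hc4 : c % 4 = 3) (hd4 : d % 4 = 2) (hf4 : f % 4 = 2)
    (ha : a ^ 2 ≤ 400)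
    (h11 : rel11 a b f = 0)
    (h7 : 495 - 9 * c ^ 2 + 5 * (b + c - 1) ^ 2 - 11 * b ^ 2 = 0) :
    a = 5 ∧ b = -3 ∧ c = 7 ∧ d = 10 ∧ f = 2 ∧ N = 384 := by
  have hle : (N : ℤ) ≤ 1152 := by exact_mod_cast Nat.le_of_dvd (by norm_num) hdvd
  have hb : b ^ 2 ≤ 576 := by
    have hN' := hN
    unfold norm at hN'
    have h1 := sq_nonneg a
    have h2 := sq_nonneg c
    have h3 := sq_nonneg (b + c - 1)
    have h4 := sq_nonneg d
    have h5 := sq_nonneg f
    have h6 := sq_nonneg (d + b + c - 2 - a)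
    have h7 := sq_nonneg (1 - a + 2 * b + f)
    have h8 := sq_nonneg (2 * a - 4 * b - c - d - 2 * f)
    omega
  have hf : f ^ 2 ≤ 1152 := by
    have hN' := hN
    unfold norm at hN'
    have h1 := sq_nonneg a
    have h2 := sq_nonneg c
    have h3 := sq_nonneg (b + c - 1)
    have h4 := sq_nonneg d
    have h5 := sq_nonneg b
    have h6 := sq_nonneg (d + b + c - 2 - a)
    have h7 := sq_nonneg (1 - a + 2 * b + f)
    have h8 := sq_nonneg (2 * a - 4 * b - c - d - 2 * f)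
    omega
  have hp : pnorm a b f ≤ 1152 := by
    have hN' := hN
    unfold norm at hN'
    unfold pnorm
    have h2 := sq_nonneg c
    have h3 := sq_nonneg (b + c - 1)
    have h4 := sq_nonneg d
    have h6 := sq_nonneg (d + b + c - 2 - a)
    have h8 := sq_nonneg (2 * a - 4 * b - c - d - 2 * f)
    omega
  rcases inv_triple a b f ha hb hf hp ha4 hb4 hf4 h11 with ⟨rfl, rfl, rfl⟩ | ⟨rfl, rfl, rfl⟩
  · have h1 : (c - 7) * (c + 17) = 0 := by linarith
    rcases mul_eq_zero.1 h1 with h2 | h2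
    · have hc : c = 7 := by linarith
      subst hc
      have h3 : (364 + 3 * d ^ 2 - 28 * d : ℤ) = N := by
        rw [← hN]
        unfold norm
        ring
      have h4 : -51 < 3 * d - 14 ∧ 3 * d - 14 < 51 := bound (by norm_num) (by linarith)
      obtain ⟨i, hi⟩ : ∃ i : ℕ, d = 4 * (i : ℤ) - 22 := ⟨((d + 22) / 4).toNat, by omega⟩
      have h5 := searchD i (by omega)
      unfold ckD at h5
      rw [← hi, h3] at h5
      simp only [Int.toNat_natCast, hdvd, decide_true, Bool.not_true, Bool.false_or,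
        beq_iff_eq] at h5
      subst h5
      norm_num at hi
      subst hi
      refine ⟨rfl, rfl, rfl, rfl, rfl, ?_⟩
      norm_num at h3
      exact_mod_cast h3.symm
    · exfalso
      have hc : c = -17 := by linarith
      subst hc
      unfold norm at hN
      have h3 := sq_nonneg (3 * d - 62)
      linarith
  · exfalso
    have h1 : (c - 1) * (c - 19) = 0 := by linarith
    rcases mul_eq_zero.1 h1 with h2 | h2
    · have hc : c = 1 := by linarith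
      subst hc
      norm_num at hc4
    · have hc : c = 19 := by linarith
      subst hc
      unfold norm at hN
      have h3 := sq_nonneg d
      have h4 := sq_nonneg (d + 9 + 19 - 2 - 9)
      have h5 := sq_nonneg (2 * 9 - 4 * 9 - 19 - d - 2 * 6)
      omega

def ck4 (a b d c : ℤ) : Bool :=
  !(decide (c % 4 = 3)) || !(decide ((norm4 a b c d).toNat ∣ 384)) || (a == 1 && b == 1 && d == 6)

theorem search4 : ∀ i < (10 : ℕ), ∀ j < (7 : ℕ), ∀ k < (10 : ℕ),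
    ck4 (4 * (i : ℤ) - 19) (4 * (j : ℤ) - 11) (4 * (k : ℤ) - 18)
      (((4 * (i : ℤ) - 19) ^ 2 - 2 * (4 * (i : ℤ) - 19) - 3 - 6 * (4 * (j : ℤ) - 11)) / 2)
      = true := by
  decide +kernel

theorem bounds4 (a b c d : ℤ) (N : ℕ) (hN : norm4 a b c d = N) (hdvd : N ∣ 384) :
    (-20 < a ∧ a < 20) ∧ (-14 < b ∧ b < 14) ∧ (-20 < d ∧ d < 20) := by
  have hle : (N : ℤ) ≤ 384 := by exact_mod_cast Nat.le_of_dvd (by norm_num) hdvd
  unfold norm4 norm at hN
  have h1 := sq_nonneg a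
  have h2 := sq_nonneg c
  have h3 := sq_nonneg (b + c - 1)
  have h4 := sq_nonneg d
  have h5 := sq_nonneg b
  have h6 := sq_nonneg (d + b + c - 2 - a)
  have h7 := sq_nonneg (1 - a + 2 * b + (a - 2 * b + c + d - 2))
  have h8 := sq_nonneg (2 * a - 4 * b - c - d - 2 * (a - 2 * b + c + d - 2))
  have h9 := sq_nonneg (a - 2 * b + c + d - 2)
  exact ⟨bound (by norm_num) (by omega), bound (by norm_num) (by omega),
    bound (by norm_num) (by omega)⟩

theorem col4_bad (a b c d : ℤ) (N : ℕ) (hN : norm4 a b c d = N) (hdvd : N ∣ 384)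
    (ha4 : a % 4 = 1) (hb4 : b % 4 = 1) (hc4 : c % 4 = 3) (hd4 : d % 4 = 2)
    (hbad : a ^ 2 - 5 = 2 * (a + 2 * b + (b + c - 1))) :
    a = 1 ∧ b = 1 ∧ c = -5 ∧ d = 6 ∧ N = 96 := by
  obtain ⟨ha, hb, hd⟩ := bounds4 a b c d N hN hdvd
  have hc : c = (a ^ 2 - 2 * a - 3 - 6 * b) / 2 := by
    have : a ^ 2 - 2 * a - 3 - 6 * b = 2 * c := by linarith
    rw [this]
    simp
  obtain ⟨i, hi⟩ : ∃ i : ℕ, a = 4 * (i : ℤ) - 19 := ⟨((a + 19) / 4).toNat, by omega⟩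
  obtain ⟨j, hj⟩ : ∃ j : ℕ, b = 4 * (j : ℤ) - 11 := ⟨((b + 11) / 4).toNat, by omega⟩
  obtain ⟨k, hk⟩ : ∃ k : ℕ, d = 4 * (k : ℤ) - 18 := ⟨((d + 18) / 4).toNat, by omega⟩
  have h1 := search4 i (by omega) j (by omega) k (by omega)
  rw [← hi, ← hj, ← hk, ← hc] at h1
  unfold ck4 at h1
  rw [hN] at h1
  simp only [hc4, Int.toNat_natCast, hdvd, decide_true, Bool.not_true, Bool.false_or,
    Bool.and_eq_true, beq_iff_eq] at h1
  obtain ⟨⟨rfl, rfl⟩, rfl⟩ := h1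
  norm_num at hc
  subst hc
  refine ⟨rfl, rfl, rfl, rfl, ?_⟩
  have : (norm4 1 1 (-5) 6) = 96 := by decide
  rw [this] at hN
  exact_mod_cast hN.symm

def ck4' (a b d c : ℤ) : Bool :=
  !(decide ((norm4 a b c d).toNat ∣ 384)) || (a == 1)

theorem search4' : ∀ i < (6 : ℕ), ∀ j < (7 : ℕ), ∀ k < (10 : ℕ),
    ck4' (4 * (i : ℤ) + 1) (4 * (j : ℤ) - 11) (4 * (k : ℤ) - 18)
      (((4 * (i : ℤ) + 1) ^ 2 - 5) / 2 - (4 * (i : ℤ) + 1) + 2 * (4 * (j : ℤ) - 11)
        - (4 * (k : ℤ) - 18) + 2) = true := by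
  decide +kernel

theorem col4_good (a b c d : ℤ) (N : ℕ) (hN : norm4 a b c d = N) (hdvd : N ∣ 384)
    (ha4 : a % 4 = 1) (hb4 : b % 4 = 1) (hd4 : d % 4 = 2) (ha0 : -1 ≤ a)
    (hgood : a ^ 2 - 5 = 2 * (a - 2 * b + c + d - 2)) :
    a = 1 := by
  obtain ⟨ha, hb, hd⟩ := bounds4 a b c d N hN hdvd
  have hc : c = (a ^ 2 - 5) / 2 - a + 2 * b - d + 2 := by
    have h2 : (a ^ 2 - 5) / 2 = a - 2 * b + c + d - 2 := by
      rw [hgood]
      simp
    rw [h2]
    ring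
  obtain ⟨i, hi⟩ : ∃ i : ℕ, a = 4 * (i : ℤ) + 1 := ⟨((a - 1) / 4).toNat, by omega⟩
  obtain ⟨j, hj⟩ : ∃ j : ℕ, b = 4 * (j : ℤ) - 11 := ⟨((b + 11) / 4).toNat, by omega⟩
  obtain ⟨k, hk⟩ : ∃ k : ℕ, d = 4 * (k : ℤ) - 18 := ⟨((d + 18) / 4).toNat, by omega⟩
  have h1 := search4' i (by omega) j (by omega) k (by omega)
  rw [← hi, ← hj, ← hk, ← hc] at h1
  unfold ck4' at h1
  rw [hN] at h1
  simpa only [Int.toNat_natCast, hdvd, decide_true, Bool.not_true, Bool.false_or,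
    beq_iff_eq] using h1

end Cfsg.Agent.M22.CaseBSearch
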