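import Cfsg.Agent.M22.CaseBInvol
import Cfsg.Agent.PermChar.SymAlt
import Cfsg.Agent.S0158
import Cfsg.Agent.S0895

/-!
# Case B of the group of order 443520: elements of order four, the square of the character of
degree 21
-/

set_option autoImplicit false
set_option linter.unusedSectionVars false

open Cfsg Subgroup
open scoped ComplexConjugate

namespace Cfsg.Agent.M22.CaseBSquare

open Cfsg.Agent.Characters.Core
open Cfsg.Agent.Blocks.Basic (irr_one_eq_charDegree)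
open Cfsg.Agent.SporadicA
open Cfsg.Agent.M22.CaseBTable
open Cfsg.Agent.M22.CaseBInvol

universe u

theorem num1 (m1 b m4 m5 m6 m7 m8 : ℕ)
    (e1 : 21 * m1 + 90 * b + 55 * m4 + 99 * m5 + 154 * m6 + 210 * m7 + 231 * m8 = 210)
    (e2 : m1 + 1 = 2 * b + m7) (e3 : m5 = b + m4) (e4 : m1 + m8 = m5 + m6) :
    m7 = 1 ∧ m1 = 0 ∧ b = 0 ∧ m4 = 0 ∧ m5 = 0 ∧ m6 = 0 ∧ m8 = 0 ∨
      m7 = 0 ∧ m1 = 1 ∧ b = 1 ∧ m4 = 0 ∧ m5 = 1 ∧ m6 = 0 ∧ m8 = 0 := by
  have h8 : m8 = 0 := by omega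
  have h7 : m7 ≤ 1 := by omega
  have hb : b ≤ 2 := by omega
  subst h8
  interval_cases m7 <;> interval_cases b <;> omega

theorem num2 (m1 b m4 m5 m6 m7 m8 : ℕ)
    (e1 : 1 + 21 * m1 + 90 * b + 55 * m4 + 99 * m5 + 154 * m6 + 210 * m7 + 231 * m8 = 231)
    (e2 : m1 = 1 + 2 * b + m7) (e3 : m5 + 1 = b + m4) (e4 : m1 + m8 = m5 + m6) :
    m1 = 1 := by
  have h8 : m8 = 0 := by omega
  have h7 : m7 ≤ 1 := by omega
  have hb : b ≤ 2 := by omega
  subst h8
  interval_cases m7 <;> interval_cases b <;> omega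

variable {G : Type u} [Group G] [Finite G] {f : Fin 12 ≃ IrrCharacter G} (C : Ctx f)

include C

theorem conj_eq (i : Fin 12) : ∃ j : Fin 12, D j = D i ∧
    ∀ g, conj ((f i : G → ℂ) g) = (f j : G → ℂ) g := by
  obtain ⟨j, hj⟩ := f.surjective ⟨_, isIrr_conj (f i).2⟩
  have h1 : ∀ g, (f j : G → ℂ) g = conj ((f i : G → ℂ) g) := fun g => by rw [hj]
  refine ⟨j, ?_, fun g => (h1 g).symm⟩
  have h2 := h1 1
  rw [apply_one C.deg, apply_one C.deg, Complex.conj_natCast] at h2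
  exact_mod_cast h2

theorem real_of_unique {i : Fin 12} (hi : ∀ j, D j = D i → j = i) (g : G) :
    conj ((f i : G → ℂ) g) = (f i : G → ℂ) g := by
  obtain ⟨j, hj, h⟩ := conj_eq C i
  rw [h, hi j hj]

theorem real1 (g : G) : conj ((f 1 : G → ℂ) g) = (f 1 : G → ℂ) g :=
  real_of_unique C (by decide) g

theorem real4 (g : G) : conj ((f 4 : G → ℂ) g) = (f 4 : G → ℂ) g :=
  real_of_unique C (by decide) g

theorem real5 (g : G) : conj ((f 5 : G → ℂ) g) = (f 5 : G → ℂ) g :=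
  real_of_unique C (by decide) g

theorem real6 (g : G) : conj ((f 6 : G → ℂ) g) = (f 6 : G → ℂ) g :=
  real_of_unique C (by decide) g

theorem real7 (g : G) : conj ((f 7 : G → ℂ) g) = (f 7 : G → ℂ) g :=
  real_of_unique C (by decide) g

theorem real8 (g : G) : conj ((f 8 : G → ℂ) g) = (f 8 : G → ℂ) g :=
  real_of_unique C (by decide) g

theorem real11 (g : G) : conj ((f 11 : G → ℂ) g) = (f 11 : G → ℂ) g :=
  real_of_unique C (by decide) g

theorem im_of_conj {z : ℂ} (h : conj z = z) : z.im = 0 := Complex.conj_eq_iff_im.1 h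

/-! ### Frobenius–Schur numbers -/

theorem fs_zero [Fintype G] {i : Fin 12} (h : ∃ s : G, ((f i : G → ℂ) s).im ≠ 0) :
    ∑ s : G, (f i : G → ℂ) (s * s) = 0 := by
  obtain ⟨n, ρ, hρ, hρi⟩ := (f i).2
  have : ρ.IsIrreducible := hρ
  rw [← hρi] at h ⊢
  have h1 := (S0158.result ρ).2.2 h
  exact (mul_eq_zero.1 h1).resolve_left (inv_ne_zero card_ne_zero_complex)

theorem fs_pm [Fintype G] {i : Fin 12} (h : ∀ s : G, ((f i : G → ℂ) s).im = 0) :
    ∑ s : G, (f i : G → ℂ) (s * s) = Nat.card G ∨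
      ∑ s : G, (f i : G → ℂ) (s * s) = -Nat.card G := by
  obtain ⟨n, ρ, hρ, hρi⟩ := (f i).2
  have : ρ.IsIrreducible := hρ
  rw [← hρi] at h ⊢
  obtain ⟨h1, h2⟩ := S0158.result ρ
  have hG : (Nat.card G : ℂ) ≠ 0 := card_ne_zero_complex
  rcases h1 with h3 | h3 | h3
  · exfalso
    obtain ⟨s, hs⟩ := h2.1 h3
    exact hs (h s)
  · left
    rw [inv_mul_eq_iff_eq_mul₀ hG, mul_one] at h3
    exact h3
  · right
    rw [inv_mul_eq_iff_eq_mul₀ hG] at h3
    rw [h3]; ring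

theorem fs_one [Fintype G] {i : Fin 12} (h : ∀ s : G, conj ((f i : G → ℂ) s) = (f i : G → ℂ) s)
    (hodd : Odd (D i)) : ∑ s : G, (f i : G → ℂ) (s * s) = Nat.card G := by
  have h1 := S0895.result (f i : G → ℂ) (f i).2 (fun g => im_of_conj C (h g)) (D i)
    (apply_one C.deg i) hodd
  have hG : (Nat.card G : ℂ) ≠ 0 := card_ne_zero_complex
  rw [inv_mul_eq_iff_eq_mul₀ hG, mul_one] at h1
  exact h1

/-- Involutions are squares. -/
theorem exists_root {t : G} (ht : t * t = 1) (ht1 : t ≠ 1) : ∃ u : G, u * u = t := by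
  have := Fintype.ofFinite G
  obtain ⟨v1, v2, v3, v4, v5, v6, v7, v8, v9, v10, v11, -⟩ := C.invol ht ht1
  apply ColTools.exists_sqrt
  obtain ⟨x, hx, -⟩ := C.e11
  obtain ⟨y, hy, -⟩ := C.e7
  have hx10 : ((f 10 : G → ℂ) x).im ≠ 0 := by
    have : (f 10 : G → ℂ) x = -1 - (f 9 : G → ℂ) x := by linear_combination hx.sum
    rw [this]
    simpa using hx.nonreal
  have hy3 : ((f 3 : G → ℂ) y).im ≠ 0 := by
    have : (f 3 : G → ℂ) y = -1 - (f 2 : G → ℂ) y := by linear_combination hy.sum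
    rw [this]
    simpa using hy.nonreal
  rw [sum_irr f, sum12, C.f0, v1, v2, v3, v4, v5, v6, v7, v8, v9, v10, v11,
    fs_zero C ⟨y, hy.nonreal⟩, fs_zero C ⟨y, hy3⟩, fs_zero C ⟨x, hx.nonreal⟩,
    fs_zero C ⟨x, hx10⟩, fs_one C (real1 C) (by decide), fs_one C (real4 C) (by decide),
    fs_one C (real5 C) (by decide), fs_one C (real8 C) (by decide),
    fs_one C (real11 C) (by decide)]
  have h0 : ∑ s : G, (f 0 : G → ℂ) (s * s) = Nat.card G := by
    rw [Finset.sum_congr rfl fun s _ => C.f0 (s * s)]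
    simp
  rw [h0, C.card]
  simp only [map_one, map_neg, map_ofNat]
  rcases fs_pm C (i := 6) (fun s => im_of_conj C (real6 C s)) with h6 | h6 <;>
  rcases fs_pm C (i := 7) (fun s => im_of_conj C (real7 C s)) with h7 | h7 <;>
  rw [h6, h7, C.card] <;> push_cast <;> norm_num

/-! ### Elements of order four -/

theorem four {u : G} (hu : (u * u) * (u * u) = 1) (hu1 : u * u ≠ 1) :
    ∃ a b c d : ℤ, (f 1 : G → ℂ) u = a ∧ (f 2 : G → ℂ) u = b ∧ (f 3 : G → ℂ) u = b ∧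
      (f 4 : G → ℂ) u = c ∧ (f 5 : G → ℂ) u = b + c - 1 ∧ (f 6 : G → ℂ) u = d ∧
      (f 7 : G → ℂ) u = a - 2 * b + c + d - 2 ∧
      a % 4 = 1 ∧ b % 4 = 1 ∧ c % 4 = 3 ∧ d % 4 = 2 ∧
      CaseBSearch.norm4 a b c d = Nat.card (centralizer ({u} : Set G)) ∧
      Nat.card (centralizer ({u} : Set G)) ∣ 384 := by
  obtain ⟨v1, v2, v3, v4, v5, v6, v7, v8, v9, v10, v11, vC⟩ := C.invol hu hu1
  have hu4 : u ^ 4 = 1 := by
    rw [← hu]; simp [pow_succ, mul_assoc]
  have hord : orderOf u = 4 := by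
    have h1 : orderOf u ∣ 2 ^ 2 := orderOf_dvd_of_pow_eq_one (by norm_num; exact hu4)
    obtain ⟨k, hk, hk'⟩ := (Nat.dvd_prime_pow Nat.prime_two).1 h1
    have hk2 : k = 2 := by
      by_contra hne
      apply hu1
      have hk1 : k ≤ 1 := by omega
      have : orderOf u ∣ 2 := by
        rw [hk']
        calc 2 ^ k ∣ 2 ^ 1 := pow_dvd_pow 2 hk1
          _ = 2 := by norm_num
      rw [← pow_two]
      exact orderOf_dvd_iff_pow_eq_one.1 this
    rw [hk', hk2]; norm_num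
  have h5 : ¬ 5 ∣ orderOf u := by rw [hord]; norm_num
  have h7 : ¬ 7 ∣ orderOf u := by rw [hord]; norm_num
  have h11 : ¬ 11 ∣ orderOf u := by rw [hord]; norm_num
  have hu0 : u ≠ 1 := by
    rintro rfl
    exact hu1 (mul_one 1)
  obtain ⟨r7a, r7b⟩ := C.r7 u h7
  obtain ⟨r11a, r11b⟩ := C.r11 u h11
  have r5 := C.col5 h5
  have hreal2 : ((f 2 : G → ℂ) u).im = 0 := by
    rw [r7a]
    have h8 := im_of_conj C (real4 C u)
    have h9 := im_of_conj C (real5 C u)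
    simp [h8, h9]
  have hval : ∀ i : Fin 12, ((f i : G → ℂ) u).im = 0 → ∃ (n : ℤ) (k : ℕ), (f i : G → ℂ) u = n ∧
      (f i : G → ℂ) 1 + (f i : G → ℂ) (u * u) = 2 * n + 8 * k := fun i hi =>
    ColTools.order_four_value C.commutator (isIrr_isCharacter (f i).2) hu4 hi
  obtain ⟨a, ka, ha, ha4⟩ := hval 1 (im_of_conj C (real1 C u))
  obtain ⟨b, kb, hb, hb4⟩ := hval 2 hreal2
  obtain ⟨c, kc, hc, hc4⟩ := hval 4 (im_of_conj C (real4 C u))
  obtain ⟨d, kd, hd, hd4⟩ := hval 6 (im_of_conj C (real6 C u))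
  obtain ⟨e, ke, he, he4⟩ := hval 7 (im_of_conj C (real7 C u))
  rw [apply_one C.deg, v1] at ha4
  rw [apply_one C.deg, v2] at hb4
  rw [apply_one C.deg, v4] at hc4
  rw [apply_one C.deg, v6] at hd4
  have ha4' : (21 : ℤ) + 5 = 2 * a + 8 * ka := by
    have h : ((D 1 : ℕ) : ℂ) = 21 := by simp [D]
    rw [h] at ha4
    exact_mod_cast ha4
  have hb4' : (45 : ℤ) + (-3) = 2 * b + 8 * kb := by
    have h : ((D 2 : ℕ) : ℂ) = 45 := by simp [D]
    rw [h] at hb4
    exact_mod_cast hb4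
  have hc4' : (55 : ℤ) + 7 = 2 * c + 8 * kc := by
    have h : ((D 4 : ℕ) : ℂ) = 55 := by simp [D]
    rw [h] at hc4
    exact_mod_cast hc4
  have hd4' : (154 : ℤ) + 10 = 2 * d + 8 * kd := by
    have h : ((D 6 : ℕ) : ℂ) = 154 := by simp [D]
    rw [h] at hd4
    exact_mod_cast hd4
  have h3 : (f 3 : G → ℂ) u = b := by rw [r7b, hb]
  have h5' : (f 5 : G → ℂ) u = b + c - 1 := by
    rw [hb, hc] at r7a
    linear_combination -r7a
  have h8 : (f 8 : G → ℂ) u = d + b + c - 2 - a := by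
    rw [ha, h5', hd] at r5
    linear_combination r5
  have h9 : (f 9 : G → ℂ) u = 1 - a + 2 * b + e := by
    rw [r11a, ha, hb, h3, he]
    ring
  have h10 : (f 10 : G → ℂ) u = 1 - a + 2 * b + e := by rw [r11b, h9]
  have h11' : (f 11 : G → ℂ) u = 2 * a - 4 * b - c - d - 2 * e := by
    have h := col_one C.deg hu0
    rw [sum12, C.f0, ha, hb, h3, hc, h5', hd, he, h8, h9, h10] at h
    simp [D] at h
    linear_combination h / 385
  have hconj : ¬ IsConj u (u * u) := by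
    intro hc
    obtain ⟨c, hc⟩ := isConj_iff.1 hc
    apply hu1
    have h12 : orderOf (u * u) = 4 := by
      rw [← hc, ← MulAut.conj_apply, MulEquiv.orderOf_eq, hord]
    have h13 : orderOf (u * u) ∣ 2 := orderOf_dvd_of_pow_eq_one (by rw [pow_two]; exact hu)
    rw [h12] at h13
    norm_num at h13
  have he' : (e : ℂ) = a - 2 * b + c + d - 2 := by
    have h := (S0145.result u (u * u)).2 hconj
    rw [sum_irr f, sum12, C.f0, C.f0, ha, hb, h3, hc, h5', hd, he, h8, h9, h10, h11', v1, v2, v3,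
      v4, v5, v6, v7, v8, v9, v10, v11] at h
    simp only [map_one, map_neg, map_ofNat] at h
    linear_combination -h / 16
  have heZ : e = a - 2 * b + c + d - 2 := by exact_mod_cast he'
  refine ⟨a, b, c, d, ha, hb, h3, hc, h5', hd, by rw [he, he'], by omega, by omega, by omega,
    by omega, ?_, ?_⟩
  · have h := (S0145.result u u).1 (IsConj.refl u)
    rw [sum_irr f, sum12, C.f0, ha, hb, h3, hc, h5', hd, he, h8, h9, h10, h11'] at h
    simp only [map_one, map_add, map_sub, map_mul, conj_ofInt, map_ofNat] at h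
    have h' : ((CaseBSearch.norm4 a b c d : ℤ) : ℂ) =
        (Nat.card (centralizer ({u} : Set G)) : ℂ) := by
      rw [← h, he']
      unfold CaseBSearch.norm4 CaseBSearch.norm
      push_cast
      ring
    exact_mod_cast h'
  · rw [← vC]
    apply Subgroup.card_dvd_of_le
    intro y hy
    rw [mem_centralizer_singleton_iff] at hy ⊢
    calc y * (u * u) = (y * u) * u := by group
      _ = (u * y) * u := by rw [hy]
      _ = u * (y * u) := by group
      _ = u * u * y := by rw [hy]; group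

/-! ### Decompositions of small characters -/

theorem decomp [Fintype G] {Λ : G → ℂ} (hΛ : IsCharacter G Λ) :
    ∃ m : Fin 12 → ℕ, (∀ g, Λ g = ∑ i, (m i : ℂ) * (f i : G → ℂ) g) ∧
      ∀ i, (Nat.card G : ℂ)⁻¹ * ∑ g, Λ g * conj ((f i : G → ℂ) g) = m i := by
  have := finite_irr (G := G)
  have := Fintype.ofFinite (IrrCharacter G)
  obtain ⟨m, hm⟩ := exists_nat_comb hΛ
  refine ⟨fun i => m (f i), fun g => ?_, fun i => ?_⟩
  · rw [hm]
    rw [Finset.sum_apply]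
    rw [← Equiv.sum_comp f]
    refine Finset.sum_congr rfl fun i _ => ?_
    simp
  · have h := classInner_sum_nsmul_irr m (f i)
    rw [← hm] at h
    exact h

theorem decomp_small [Fintype G] {Λ : G → ℂ} (hΛ : IsCharacter G Λ) {N : ℕ} (h1 : Λ 1 = N)
    (hN : N < 280) {p q r : ℤ} (h11 : ∀ x, Eleven f x → Eleven f (x * x) → Λ x = p)
    (h7 : ∀ x, Seven f x → Seven f (x * x) → Λ x = q)
    (h5 : ∀ x, Five f x → Five f (x * x) → Λ x = r) :
    ∃ m : Fin 12 → ℕ, (∀ g, Λ g = ∑ i, (m i : ℂ) * (f i : G → ℂ) g) ∧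
      (∀ i, (Nat.card G : ℂ)⁻¹ * ∑ g, Λ g * conj ((f i : G → ℂ) g) = m i) ∧
      m 9 = 0 ∧ m 10 = 0 ∧ m 11 = 0 ∧ m 2 = m 3 ∧
      m 0 + 21 * m 1 + 45 * m 2 + 45 * m 3 + 55 * m 4 + 99 * m 5 + 154 * m 6 + 210 * m 7 +
        231 * m 8 = N ∧
      (m 0 : ℤ) - m 1 + m 2 + m 3 + m 7 = p ∧ (m 0 : ℤ) - m 3 - m 4 + m 5 = q ∧
      (m 0 : ℤ) + m 1 - m 5 - m 6 + m 8 = r := by
  obtain ⟨m, hm, hm'⟩ := decomp C hΛ
  have e1 : m 0 + 21 * m 1 + 45 * m 2 + 45 * m 3 + 55 * m 4 + 99 * m 5 + 154 * m 6 + 210 * m 7 +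
        231 * m 8 + 280 * m 9 + 280 * m 10 + 385 * m 11 = N := by
    have h := hm 1
    rw [h1, sum12] at h
    simp only [apply_one C.deg] at h
    simp [D] at h
    have h' : ((m 0 + 21 * m 1 + 45 * m 2 + 45 * m 3 + 55 * m 4 + 99 * m 5 + 154 * m 6 +
        210 * m 7 + 231 * m 8 + 280 * m 9 + 280 * m 10 + 385 * m 11 : ℕ) : ℂ) = N := by
      rw [h]; push_cast; ring
    exact_mod_cast h'
  have m9 : m 9 = 0 := by omega
  have m10 : m 10 = 0 := by omega
  have m11 : m 11 = 0 := by omega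
  obtain ⟨x, hx, hxx⟩ := C.e11
  obtain ⟨y, hy, hyy⟩ := C.e7
  obtain ⟨z, -, hz, hzz⟩ := C.e5
  have e2 : (m 0 : ℤ) - m 1 + m 2 + m 3 + m 7 = p := by
    have h := hm x
    rw [h11 x hx hxx, sum12, hx.c0, hx.c1, hx.c2, hx.c3, hx.c4, hx.c5, hx.c6, hx.c7, hx.c8,
      hx.c11, m9, m10] at h
    simp at h
    have h' : (((m 0 : ℤ) - m 1 + m 2 + m 3 + m 7 : ℤ) : ℂ) = p := by
      rw [h]; push_cast; ring
    exact_mod_cast h'
  have e4 : (m 0 : ℤ) + m 1 - m 5 - m 6 + m 8 = r := by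
    have h := hm z
    rw [h5 z hz hzz, sum12, hz.c0, hz.c1, hz.c2, hz.c3, hz.c4, hz.c5, hz.c6, hz.c7, hz.c8,
      hz.c9, hz.c10, hz.c11] at h
    simp at h
    have h' : (((m 0 : ℤ) + m 1 - m 5 - m 6 + m 8 : ℤ) : ℂ) = r := by
      rw [h]; push_cast; ring
    exact_mod_cast h'
  have h3 : (f 3 : G → ℂ) y = -1 - (f 2 : G → ℂ) y := by linear_combination hy.sum
  have hy' := hm y
  rw [h7 y hy hyy, sum12, hy.c0, hy.c1, hy.c4, hy.c5, hy.c6, hy.c7, hy.c8, hy.c9, hy.c10,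
      hy.c11, h3] at hy'
  have e5 : m 2 = m 3 := by
    have h := congrArg Complex.im hy'
    simp at h
    have h' : ((m 2 : ℝ) - m 3) * ((f 2 : G → ℂ) y).im = 0 := by linarith
    rcases mul_eq_zero.1 h' with h'' | h''
    · have : (m 2 : ℝ) = m 3 := by linarith
      exact_mod_cast this
    · exact absurd h'' hy.nonreal
  have e3 : (m 0 : ℤ) - m 3 - m 4 + m 5 = q := by
    rw [e5] at hy'
    have h' : (((m 0 : ℤ) - m 3 - m 4 + m 5 : ℤ) : ℂ) = q := by
      rw [hy']; push_cast; ring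
    exact_mod_cast h'
  exact ⟨m, hm, hm', m9, m10, m11, e5, by omega, e2, e3, e4⟩

/-! ### The square of the character of degree 21 -/

theorem sum_sq [Fintype G] : ∑ g, (f 1 : G → ℂ) g ^ 2 = Nat.card G := by
  have h := classInner_irr_self (f 1).2
  rw [classInner_def] at h
  have hG : (Nat.card G : ℂ) ≠ 0 := card_ne_zero_complex
  rw [inv_mul_eq_iff_eq_mul₀ hG, mul_one] at h
  rw [← h]
  refine Finset.sum_congr rfl fun g _ => ?_
  rw [real1 C, pow_two]

theorem altSq [Fintype G] : ∀ g, ((f 1 : G → ℂ) g ^ 2 - (f 1 : G → ℂ) (g * g)) / 2 =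
    (f 7 : G → ℂ) g := by
  have hG : (Nat.card G : ℂ) ≠ 0 := card_ne_zero_complex
  obtain ⟨m, hm, hm', m9, m10, m11, e5, e1, e2, e3, e4⟩ :=
    decomp_small C (PermChar.SymAlt.isCharacter_altSq (isIrr_isCharacter (f 1).2)) (N := 210)
      (p := 1) (q := 0) (r := 0)
      (by rw [mul_one, apply_one C.deg]; simp [D]; norm_num) (by norm_num)
      (fun x hx hxx => by rw [hx.c1, hxx.c1]; norm_num)
      (fun x hx hxx => by rw [hx.c1, hxx.c1]; norm_num)
      (fun x hx hxx => by rw [hx.c1, hxx.c1]; norm_num)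
  have m0 : m 0 = 0 := by
    have h := hm' 0
    have h2 : ∑ g, ((f 1 : G → ℂ) g ^ 2 - (f 1 : G → ℂ) (g * g)) / 2 * conj ((f 0 : G → ℂ) g) =
        (∑ g, (f 1 : G → ℂ) g ^ 2 - ∑ g, (f 1 : G → ℂ) (g * g)) / 2 := by
      rw [← Finset.sum_sub_distrib, Finset.sum_div]
      refine Finset.sum_congr rfl fun g _ => ?_
      rw [C.f0, (starRingEnd ℂ).map_one, mul_one]
    rw [h2, sum_sq C, fs_one C (real1 C) (by decide), sub_self, zero_div, mul_zero] at h
    exact_mod_cast h.symm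
  have hcases : m 7 = 1 ∧ m 1 = 0 ∧ m 2 = 0 ∧ m 4 = 0 ∧ m 5 = 0 ∧ m 6 = 0 ∧ m 8 = 0 ∨
      m 7 = 0 ∧ m 1 = 1 ∧ m 2 = 1 ∧ m 4 = 0 ∧ m 5 = 1 ∧ m 6 = 0 ∧ m 8 = 0 :=
    num1 (m 1) (m 2) (m 4) (m 5) (m 6) (m 7) (m 8) (by omega) (by omega) (by omega) (by omega)
  rcases hcases with ⟨c7, c1, c2, c4, c5, c6, c8⟩ | ⟨c7, c1, c2, c4, c5, c6, c8⟩
  · intro g
    rw [hm g, sum12, m0, c7, c1, ← e5, c2, c4, c5, c6, c8, m9, m10, m11]
    simp
  · exfalso
    -- an element of order four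
    obtain ⟨t, ht⟩ : ∃ t : G, orderOf t = 2 := by
      have : Fact (Nat.Prime 2) := ⟨Nat.prime_two⟩
      exact exists_prime_orderOf_dvd_card' 2 (by rw [C.card]; norm_num)
    have ht2 : t * t = 1 := by rw [← pow_two, ← ht, pow_orderOf_eq_one]
    have ht1 : t ≠ 1 := by
      rintro rfl
      rw [orderOf_one] at ht
      norm_num at ht
    obtain ⟨u, hu⟩ := exists_root C ht2 ht1
    obtain ⟨a, b, c, d, ha, hb, hb3, hc, h5, hd, h7, ha4, hb4, hc4, hd4, hn, hdvd⟩ :=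
      four C (u := u) (by rw [hu]; exact ht2) (by rw [hu]; exact ht1)
    have hv := (C.invol ht2 ht1).1
    have h := hm u
    rw [sum12, m0, c7, c1, ← e5, c2, c4, c5, c6, c8, m9, m10, m11, ha, hb, hb3, h5, hu, hv] at h
    simp at h
    have hbad : a ^ 2 - 5 = 2 * (a + 2 * b + (b + c - 1)) := by
      have h' : ((a ^ 2 - 5 : ℤ) : ℂ) = ((2 * (a + 2 * b + (b + c - 1)) : ℤ) : ℂ) := by
        push_cast
        linear_combination 2 * h
      exact_mod_cast h'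
    obtain ⟨r1, r2, r3, r4, r5⟩ := CaseBSearch.col4_bad a b c d _ hn hdvd ha4 hb4 hc4 hd4 hbad
    have hdiv := SmallSimple.InvolColumn.dvd_index_mul (f 2).2 hb
    rw [C.deg, r2] at hdiv
    have hidx := Subgroup.card_mul_index (centralizer ({u} : Set G))
    rw [r5, C.card] at hidx
    have hidx' : (centralizer ({u} : Set G)).index = 4620 := by omega
    rw [hidx'] at hdiv
    revert hdiv
    decide

theorem symSq_coeff [Fintype G] :
    (Nat.card G : ℂ)⁻¹ * ∑ g, ((f 1 : G → ℂ) g ^ 2 + (f 1 : G → ℂ) (g * g)) / 2 *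
      (f 1 : G → ℂ) g = 1 := by
  have hG : (Nat.card G : ℂ) ≠ 0 := card_ne_zero_complex
  obtain ⟨m, hm, hm', m9, m10, m11, e5, e1, e2, e3, e4⟩ :=
    decomp_small C (PermChar.SymAlt.isCharacter_symSq (isIrr_isCharacter (f 1).2)) (N := 231)
      (p := 0) (q := 0) (r := 1)
      (by rw [mul_one, apply_one C.deg]; simp [D]; norm_num) (by norm_num)
      (fun x hx hxx => by rw [hx.c1, hxx.c1]; norm_num)
      (fun x hx hxx => by rw [hx.c1, hxx.c1]; norm_num)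
      (fun x hx hxx => by rw [hx.c1, hxx.c1]; norm_num)
  have m0 : m 0 = 1 := by
    have h := hm' 0
    have h2 : ∑ g, ((f 1 : G → ℂ) g ^ 2 + (f 1 : G → ℂ) (g * g)) / 2 * conj ((f 0 : G → ℂ) g) =
        (∑ g, (f 1 : G → ℂ) g ^ 2 + ∑ g, (f 1 : G → ℂ) (g * g)) / 2 := by
      rw [← Finset.sum_add_distrib, Finset.sum_div]
      refine Finset.sum_congr rfl fun g _ => ?_
      rw [C.f0, (starRingEnd ℂ).map_one, mul_one]
    rw [h2, sum_sq C, fs_one C (real1 C) (by decide), add_self_div_two,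
      inv_mul_cancel₀ hG] at h
    exact_mod_cast h.symm
  have hm1 : m 1 = 1 :=
    num2 (m 1) (m 2) (m 4) (m 5) (m 6) (m 7) (m 8) (by omega) (by omega) (by omega) (by omega)
  have h := hm' 1
  rw [hm1] at h
  simp only [real1 C] at h
  rw [h]
  norm_num

end Cfsg.Agent.M22.CaseBSquare
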