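import Cfsg.Agent.M22.DegreesEnd
import Cfsg.Agent.M22.BDataOfBlocks
import Cfsg.Agent.CharDeep.PowerDegrees
import Cfsg.Agent.Blocks.Knorr
import Cfsg.Agent.SmallSimple.TheoremBCor

/-!
# Degrees of the irreducible characters of a simple group of order 443520
-/

set_option autoImplicit false

namespace Cfsg.Agent.M22.Degrees

open Cfsg Cfsg.Agent.Characters.Core Cfsg.Agent.M22.DegreesComb Cfsg.Agent.M22.DegreesEnd
open Cfsg.Agent.Blocks.Basic (irr_one_eq_charDegree)

universe u

/-- A multiset whose image under `deg` is a list can be listed accordingly. -/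
theorem exists_list_of_map_eq {ι : Type*} [DecidableEq ι] (deg : ι → ℕ) (L : List ℕ) :
    ∀ s : Multiset ι, s.map deg = (L : Multiset ℕ) →
      ∃ l : List ι, (l : Multiset ι) = s ∧ l.map deg = L := by
  induction L with
  | nil =>
    intro s hs
    rw [Multiset.coe_nil, Multiset.map_eq_zero] at hs
    exact ⟨[], hs.symm, rfl⟩
  | cons a L ih =>
    intro s hs
    rw [← Multiset.cons_coe, ← Multiset.map_eq_cons] at hs
    obtain ⟨x, hx, rfl, hL⟩ := hs
    obtain ⟨l, hl, hlL⟩ := ih _ hL
    refine ⟨x :: l, ?_, by rw [List.map_cons, hlL]⟩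
    rw [← Multiset.cons_coe, hl, Multiset.cons_erase hx]

/-- An enumeration of a finite type with prescribed values. -/
theorem exists_equiv_of_map_eq {ι : Type*} [Fintype ι] (deg : ι → ℕ) (L : List ℕ)
    (h : (Finset.univ.val.map deg : Multiset ℕ) = L) :
    ∃ f : Fin L.length ≃ ι, ∀ i, deg (f i) = L.get i := by
  classical
  obtain ⟨l, hl, hlL⟩ := exists_list_of_map_eq deg L _ h
  have hnd : l.Nodup := by
    rw [← Multiset.coe_nodup, hl]
    exact Finset.univ.nodup
  have hall : ∀ x, x ∈ l := by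
    intro x
    rw [← Multiset.mem_coe, hl]
    exact Finset.mem_univ x
  subst hlL
  refine ⟨(finCongr (List.length_map _)).trans (hnd.getEquivOfForallMemList l hall), fun i => ?_⟩
  simp

/-- A homomorphism from a finite simple group of composite order to a commutative group is
trivial. -/
theorem hom_eq_one {G : Type*} [Group G] [Finite G] [IsSimpleGroup G] (hG : ¬ (Nat.card G).Prime)
    {A : Type*} [CommGroup A] (f : G →* A) : f = 1 := by
  rcases IsSimpleGroup.eq_bot_or_eq_top_of_normal f.ker inferInstance with h | h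
  · exfalso
    have hinj : Function.Injective f := (MonoidHom.ker_eq_bot_iff f).1 h
    have hcomm : ∀ a b : G, a * b = b * a := by
      intro a b
      apply hinj
      rw [map_mul, map_mul, mul_comm]
    let inst : CommGroup G := { (inferInstance : Group G) with mul_comm := hcomm }
    have : @IsSimpleGroup G inst.toGroup := by assumption
    exact hG (@IsSimpleGroup.prime_card G inst this)
  · exact MonoidHom.ext fun x => by
      have : x ∈ f.ker := h ▸ Subgroup.mem_top x
      exact this

variable {G : Type u} [Group G] [Finite G]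

theorem eq_one_of_charDegree [IsSimpleGroup G] (hG : ¬ (Nat.card G).Prime) (χ : IrrCharacter G)
    (h : charDegree (χ : G → ℂ) = 1) : χ = ⟨1, isIrr_one⟩ := by
  have h1 : (χ : G → ℂ) 1 = 1 := by rw [irr_one_eq_charDegree χ.2, h, Nat.cast_one]
  obtain ⟨f, hf⟩ := Cfsg.Agent.Characters.Linear.exists_hom_of_isIrrCharacter χ.2 h1
  apply Subtype.ext
  funext g
  have h2 := hom_eq_one hG f
  rw [hf]
  simp [h2]

/-- The degrees of the irreducible characters of a simple group of order 443520, given Brauer's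
theorem at the primes 11, 7 and 5. -/
theorem exists_enum [IsSimpleGroup G] (hcard : Nat.card G = 443520)
    (b11 : BData (fun χ : IrrCharacter G => charDegree (χ : G → ℂ)) ⟨1, isIrr_one⟩ 11 5 2)
    (b7 : BData (fun χ : IrrCharacter G => charDegree (χ : G → ℂ)) ⟨1, isIrr_one⟩ 7 3 2)
    (b5 : BData (fun χ : IrrCharacter G => charDegree (χ : G → ℂ)) ⟨1, isIrr_one⟩ 5 4 1) :
    ∃ L ∈ [LA, LB, LC, LD], ∃ f : Fin 12 ≃ IrrCharacter G,
      ∀ i : Fin 12, charDegree (f i : G → ℂ) = L.getD i 0 := by
  classical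
  have hfin : Finite (IrrCharacter G) := finite_irr
  have := Fintype.ofFinite (IrrCharacter G)
  have hG : ¬ (Nat.card G).Prime := by rw [hcard]; norm_num
  have hsq : ∑ χ : IrrCharacter G, charDegree (χ : G → ℂ) ^ 2 = 443520 := by
    have h := Cfsg.Agent.CharDeep.PowerDegrees.sum_sq (G := G)
    rw [hcard] at h
    have h2 : ∑ χ : IrrCharacter G, (χ : G → ℂ) 1 ^ 2 =
        ((∑ χ : IrrCharacter G, charDegree (χ : G → ℂ) ^ 2 : ℕ) : ℂ) := by
      push_cast
      refine Finset.sum_congr rfl fun χ _ => ?_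
      rw [irr_one_eq_charDegree χ.2]
    rw [h2] at h
    exact_mod_cast h
  have h0 : charDegree (((⟨1, isIrr_one⟩ : IrrCharacter G)) : G → ℂ) = 1 := by
    apply Cfsg.Agent.Blocks.Basic.charDegree_of_eq
    simp
  obtain ⟨L, hL, hM⟩ := degrees (ι := IrrCharacter G)
    (deg := fun χ : IrrCharacter G => charDegree (χ : G → ℂ)) (i0 := ⟨1, isIrr_one⟩) h0
    (fun χ h => eq_one_of_charDegree hG χ h)
    (fun χ => hcard ▸ Cfsg.Agent.Blocks.Knorr.charDegree_dvd χ.2) hsq b11 b7 b5
  obtain ⟨f, hf⟩ := exists_equiv_of_map_eq _ L hM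
  have hlen : L.length = 12 := by
    simp only [List.mem_cons, List.not_mem_nil, or_false] at hL
    rcases hL with rfl | rfl | rfl | rfl <;> rfl
  refine ⟨L, hL, (finCongr hlen.symm).trans f, fun i => ?_⟩
  rw [Equiv.trans_apply, hf]
  rw [List.getD_eq_getElem _ _ (by rw [hlen]; exact i.2)]
  rfl

/-- The degree data of a self-centralising Sylow subgroup of prime order. -/
theorem bdata_sylow (p : ℕ) [Fact p.Prime] (hp2 : p ≠ 2) (P : Sylow p G) (hP : Nat.card P = p)
    (hC : Subgroup.centralizer (P : Set G) = (P : Subgroup G)) (e t : ℕ)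
    (he : (Subgroup.centralizer (P : Set G)).relIndex (Subgroup.normalizer (P : Set G)) = e)
    (ht : e * t = p - 1) :
    BData (fun χ : IrrCharacter G => charDegree (χ : G → ℂ)) ⟨1, isIrr_one⟩ p e t := by
  obtain ⟨NE, X, ε, d, S, hdis, hNE, hX, hε, hd, htriv, hval, hexc, -, hrel, hrest⟩ :=
    Cfsg.Agent.SmallSimple.TheoremBCor.theoremB_selfCent p hp2 P hP hC e t he ht
  have hp1 : ¬ p ∣ orderOf (1 : G) := by
    rw [orderOf_one]
    exact (Fact.out : p.Prime).one_lt.ne' ∘ Nat.dvd_one.1
  exact Cfsg.Agent.M22.BDataOfBlocks.bdata (P : Subgroup G) hP e t NE X ε d S hdis hNE hX hε hd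
    htriv hval hexc (fun Θ hΘ => hrel Θ hΘ 1 hp1) (fun χ h1 h2 => (hrest χ h1 h2).2)

theorem card_sylow_eq {p m : ℕ} [hp : Fact p.Prime] (h : Nat.card G = p * m) (hm : ¬ p ∣ m)
    (P : Sylow p G) : Nat.card P = p := by
  have hm0 : m ≠ 0 := by
    rintro rfl
    exact hm (dvd_zero p)
  rw [P.card_eq_multiplicity, h, Nat.factorization_mul hp.out.ne_zero hm0, Finsupp.add_apply,
    hp.out.factorization_self, Nat.factorization_eq_zero_of_not_dvd hm, pow_one]

/-- The degrees of the irreducible characters of a simple group of order 443520 whose Sylow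
11-, 7- and 5-subgroups are self-centralising with automisers of order 5, 3 and 4. -/
theorem degree_list [IsSimpleGroup G] (hcard : Nat.card G = 443520)
    [Fact (Nat.Prime 11)] [Fact (Nat.Prime 7)] [Fact (Nat.Prime 5)]
    (P11 : Sylow 11 G) (P7 : Sylow 7 G) (P5 : Sylow 5 G)
    (c11 : Subgroup.centralizer (P11 : Set G) = (P11 : Subgroup G))
    (c7 : Subgroup.centralizer (P7 : Set G) = (P7 : Subgroup G))
    (c5 : Subgroup.centralizer (P5 : Set G) = (P5 : Subgroup G))
    (e11 : (Subgroup.centralizer (P11 : Set G)).relIndex (Subgroup.normalizer (P11 : Set G)) = 5)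
    (e7 : (Subgroup.centralizer (P7 : Set G)).relIndex (Subgroup.normalizer (P7 : Set G)) = 3)
    (e5 : (Subgroup.centralizer (P5 : Set G)).relIndex (Subgroup.normalizer (P5 : Set G)) = 4) :
    ∃ L ∈ [LA, LB, LC, LD], ∃ f : Fin 12 ≃ IrrCharacter G,
      ∀ i : Fin 12, charDegree (f i : G → ℂ) = L.getD i 0 := by
  have h11 : Nat.card P11 = 11 := card_sylow_eq (m := 40320) (by rw [hcard]) (by norm_num) P11
  have h7 : Nat.card P7 = 7 := card_sylow_eq (m := 63360) (by rw [hcard]) (by norm_num) P7
  have h5 : Nat.card P5 = 5 := card_sylow_eq (m := 88704) (by rw [hcard]) (by norm_num) P5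
  exact exists_enum hcard (bdata_sylow 11 (by norm_num) P11 h11 c11 5 2 e11 (by norm_num))
    (bdata_sylow 7 (by norm_num) P7 h7 c7 3 2 e7 (by norm_num))
    (bdata_sylow 5 (by norm_num) P5 h5 c5 4 1 e5 (by norm_num))

end Cfsg.Agent.M22.Degrees
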