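import Cfsg.Agent.SporadicA.ColTools
import Cfsg.Agent.SmallSimple.TheoremBCor
import Cfsg.Agent.SmallSimple.InvolColumn
import Cfsg.Agent.M22.Degrees
import Cfsg.Agent.M22.CaseBSearch

/-!
# The columns of elements of order 11, 7, 5 in case B of the group of order 443520

`f 0, ..., f 11` are the irreducible characters of degrees
`1, 21, 45, 45, 55, 99, 154, 210, 231, 280, 280, 385`.
-/

set_option autoImplicit false
set_option linter.unusedSectionVars false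

open Cfsg Subgroup
open scoped ComplexConjugate

namespace Cfsg.Agent.M22.CaseBTable

open Cfsg.Agent.Characters.Core
open Cfsg.Agent.Blocks.Basic (irr_one_eq_charDegree)
open Cfsg.Agent.SporadicA

universe u

variable {G : Type u} [Group G] [Finite G]

/-- Sums over a set of irreducible characters in terms of an enumeration. -/
theorem sum_enum {n : ℕ} (f : Fin n ≃ IrrCharacter G) (NE : Finset (IrrCharacter G))
    (F : IrrCharacter G → ℂ) [DecidablePred fun i => f i ∈ NE] :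
    ∑ χ ∈ NE, F χ = ∑ i, if f i ∈ NE then F (f i) else 0 := by
  classical
  have := Fintype.ofEquiv _ f
  rw [← Finset.sum_filter]
  refine (Finset.sum_bij' (fun χ _ => f.symm χ) (fun i _ => f i) ?_ ?_ ?_ ?_ ?_)
  · intro χ hχ
    simpa using hχ
  · intro i hi
    simpa using hi
  · intro χ _
    simp
  · intro i _
    simp
  · intro χ _
    simp

theorem sum_irr {n : ℕ} (f : Fin n ≃ IrrCharacter G) (F : IrrCharacter G → ℂ) :
    ∑ᶠ χ, F χ = ∑ i, F (f i) := ColTools.finsum_irr f f.bijective F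

theorem sum12 (F : Fin 12 → ℂ) : ∑ i, F i =
    F 0 + F 1 + F 2 + F 3 + F 4 + F 5 + F 6 + F 7 + F 8 + F 9 + F 10 + F 11 := by
  rw [Fin.sum_univ_castSucc, Fin.sum_univ_castSucc, Fin.sum_univ_castSucc,
    Fin.sum_univ_castSucc, Fin.sum_univ_eight]
  rfl

/-- The membership information from Brauer's theorem. -/
theorem cls {p e : ℕ} {D : ℕ} {inNE inX : Prop} {ε d : ℤ} {v : Prop}
    (hp : (p = 11 ∧ e = 5) ∨ (p = 7 ∧ e = 3))
    (key : (inNE ∧ ((p : ℤ) ∣ D - ε) ∧ (ε = 1 ∨ ε = -1)) ∨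
      (inX ∧ ¬ inNE ∧ (p : ℤ) ∣ D - d * e) ∨ (¬ inNE ∧ ¬ inX ∧ (p : ℤ) ∣ D ∧ v))
    (hd : d = 1 ∨ d = -1) :
    (D % p = 1 → inNE ∧ ε = 1) ∧ (D % p = p - 1 → inNE ∧ ε = -1) ∧
      (D % p = e → inX ∧ ¬ inNE ∧ d = 1) ∧ (D % p = 0 → ¬ inNE ∧ ¬ inX ∧ v) := by
  rcases hp with ⟨rfl, rfl⟩ | ⟨rfl, rfl⟩
  · push_cast at key
    refine ⟨fun h => ?_, fun h => ?_, fun h => ?_, fun h => ?_⟩
    · rcases key with ⟨h1, h2, h3⟩ | ⟨-, -, h2⟩ | ⟨-, -, h2, -⟩
      · exact ⟨h1, by omega⟩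
      · exfalso; rcases hd with rfl | rfl <;> omega
      · exfalso; omega
    · rcases key with ⟨h1, h2, h3⟩ | ⟨-, -, h2⟩ | ⟨-, -, h2, -⟩
      · exact ⟨h1, by omega⟩
      · exfalso; rcases hd with rfl | rfl <;> omega
      · exfalso; omega
    · rcases key with ⟨h1, h2, h3⟩ | ⟨h1, h1', h2⟩ | ⟨-, -, h2, -⟩
      · exfalso; omega
      · refine ⟨h1, h1', ?_⟩
        rcases hd with rfl | rfl
        · rfl
        · exfalso; omega
      · exfalso; omega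
    · rcases key with ⟨h1, h2, h3⟩ | ⟨-, -, h2⟩ | ⟨h1, h2, -, h3⟩
      · exfalso; omega
      · exfalso; rcases hd with rfl | rfl <;> omega
      · exact ⟨h1, h2, h3⟩
  · push_cast at key
    refine ⟨fun h => ?_, fun h => ?_, fun h => ?_, fun h => ?_⟩
    · rcases key with ⟨h1, h2, h3⟩ | ⟨-, -, h2⟩ | ⟨-, -, h2, -⟩
      · exact ⟨h1, by omega⟩
      · exfalso; rcases hd with rfl | rfl <;> omega
      · exfalso; omega
    · rcases key with ⟨h1, h2, h3⟩ | ⟨-, -, h2⟩ | ⟨-, -, h2, -⟩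
      · exact ⟨h1, by omega⟩
      · exfalso; rcases hd with rfl | rfl <;> omega
      · exfalso; omega
    · rcases key with ⟨h1, h2, h3⟩ | ⟨h1, h1', h2⟩ | ⟨-, -, h2, -⟩
      · exfalso; omega
      · refine ⟨h1, h1', ?_⟩
        rcases hd with rfl | rfl
        · rfl
        · exfalso; omega
      · exfalso; omega
    · rcases key with ⟨h1, h2, h3⟩ | ⟨-, -, h2⟩ | ⟨h1, h2, -, h3⟩
      · exfalso; omega
      · exfalso; rcases hd with rfl | rfl <;> omega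
      · exact ⟨h1, h2, h3⟩

/-- The degrees. -/
def D : Fin 12 → ℕ := ![1, 21, 45, 45, 55, 99, 154, 210, 231, 280, 280, 385]

theorem D_ne_zero : ∀ j, D j ≠ 0 := by decide

/-- Brauer's theorem in terms of an enumeration. -/
theorem brauer {n : ℕ} (f : Fin n ≃ IrrCharacter G) (deg : Fin n → ℕ)
    (hdeg : ∀ i, charDegree (f i : G → ℂ) = deg i)
    (p : ℕ) [Fact p.Prime] (hp2 : p ≠ 2) (P : Sylow p G) (hP : Nat.card P = p)
    (hC : centralizer (P : Set G) = (P : Subgroup G)) (e t : ℕ)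
    (he : (centralizer (P : Set G)).relIndex (normalizer (P : Set G)) = e) (ht : e * t = p - 1) :
    ∃ (NE X : Finset (IrrCharacter G)) (ε : Fin n → ℤ) (d : ℤ), (d = 1 ∨ d = -1) ∧
      (X.card = t ∧ ∀ χ ∈ NE, χ ∉ X) ∧
      (∀ i, ∀ x ∈ P, x ≠ 1 → (f i ∈ NE ∧ ((p : ℤ) ∣ deg i - ε i) ∧ (ε i = 1 ∨ ε i = -1)) ∨
        (f i ∈ X ∧ ¬ f i ∈ NE ∧ (p : ℤ) ∣ deg i - d * e) ∨
        (¬ f i ∈ NE ∧ ¬ f i ∈ X ∧ (p : ℤ) ∣ deg i ∧ (f i : G → ℂ) x = 0)) ∧
      (∀ i, f i ∈ NE → ∀ x ∈ P, x ≠ 1 → (f i : G → ℂ) x = ε i) ∧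
      (∀ j, f j ∈ X → ∀ g : G, ¬ p ∣ orderOf g →
        ∑ χ ∈ NE, (ε (f.symm χ) : ℂ) * (χ : G → ℂ) g = d * (f j : G → ℂ) g) := by
  obtain ⟨NE, X, ε, d, S, hdis, hNE, hX, hε, hd, htriv, hval, hexc, -, hrel, hrest⟩ :=
    Cfsg.Agent.SmallSimple.TheoremBCor.theoremB_selfCent p hp2 P hP hC e t he ht
  refine ⟨NE, X, fun i => ε (f i), d, hd, ⟨hX, fun χ h h' =>
    (Finset.disjoint_left.1 hdis h) h'⟩, fun i x hx hx1 => ?_, fun i hi => hval (f i) hi,
    fun j hj g hg => ?_⟩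
  · by_cases h1 : f i ∈ NE
    · left
      refine ⟨h1, ?_, hε _ h1⟩
      have := BDataOfBlocks.dvd_of_const (P : Subgroup G) hP (f i) (ε (f i)) (hval _ h1)
      rwa [hdeg] at this
    · right
      by_cases h2 : f i ∈ X
      · left
        refine ⟨h2, h1, ?_⟩
        obtain ⟨h5, h6, h7⟩ := hexc _ h2
        have := BDataOfBlocks.dvd_of_exceptional (P : Subgroup G) hP (f i) d (S (f i)) h5 h6 h7
        rwa [hdeg] at this
      · right
        obtain ⟨h3, h4⟩ := hrest _ h1 h2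
        rw [hdeg] at h4
        exact ⟨h1, h2, by exact_mod_cast h4, h3 x hx hx1⟩
  · rw [← hrel (f j) hj g hg]
    refine Finset.sum_congr rfl fun χ _ => ?_
    simp

theorem conj_ofInt (z : ℤ) : conj (z : ℂ) = z := by
  rw [← Complex.ofReal_intCast, Complex.conj_ofReal]

variable (f : Fin 12 ≃ IrrCharacter G)

/-- The column of elements of order eleven. -/
structure Eleven (x : G) : Prop where
  c0 : (f 0 : G → ℂ) x = 1
  c1 : (f 1 : G → ℂ) x = -1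
  c2 : (f 2 : G → ℂ) x = 1
  c3 : (f 3 : G → ℂ) x = 1
  c4 : (f 4 : G → ℂ) x = 0
  c5 : (f 5 : G → ℂ) x = 0
  c6 : (f 6 : G → ℂ) x = 0
  c7 : (f 7 : G → ℂ) x = 1
  c8 : (f 8 : G → ℂ) x = 0
  c11 : (f 11 : G → ℂ) x = 0
  sum : (f 9 : G → ℂ) x + (f 10 : G → ℂ) x = -1
  nonreal : ((f 9 : G → ℂ) x).im ≠ 0

/-- The column of elements of order seven. -/
structure Seven (x : G) : Prop where
  c0 : (f 0 : G → ℂ) x = 1
  c1 : (f 1 : G → ℂ) x = 0
  c4 : (f 4 : G → ℂ) x = -1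
  c5 : (f 5 : G → ℂ) x = 1
  c6 : (f 6 : G → ℂ) x = 0
  c7 : (f 7 : G → ℂ) x = 0
  c8 : (f 8 : G → ℂ) x = 0
  c9 : (f 9 : G → ℂ) x = 0
  c10 : (f 10 : G → ℂ) x = 0
  c11 : (f 11 : G → ℂ) x = 0
  sum : (f 2 : G → ℂ) x + (f 3 : G → ℂ) x = -1
  nonreal : ((f 2 : G → ℂ) x).im ≠ 0

/-- The column of elements of order five. -/
structure Five (x : G) : Prop where
  c0 : (f 0 : G → ℂ) x = 1
  c1 : (f 1 : G → ℂ) x = 1
  c2 : (f 2 : G → ℂ) x = 0
  c3 : (f 3 : G → ℂ) x = 0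
  c4 : (f 4 : G → ℂ) x = 0
  c5 : (f 5 : G → ℂ) x = -1
  c6 : (f 6 : G → ℂ) x = -1
  c7 : (f 7 : G → ℂ) x = 0
  c8 : (f 8 : G → ℂ) x = 1
  c9 : (f 9 : G → ℂ) x = 0
  c10 : (f 10 : G → ℂ) x = 0
  c11 : (f 11 : G → ℂ) x = 0

variable {f}

theorem apply_one (hf : ∀ i, charDegree (f i : G → ℂ) = D i) (i : Fin 12) :
    (f i : G → ℂ) 1 = D i := by
  rw [irr_one_eq_charDegree (f i).2, hf]

/-- Column orthogonality with the column of degrees. -/
theorem col_one (hf : ∀ i, charDegree (f i : G → ℂ) = D i) {g : G} (hg : g ≠ 1) :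
    ∑ i, (f i : G → ℂ) g * D i = 0 := by
  have h := (S0145.result g 1).2 (fun h => hg (isConj_one_right.1 h.symm))
  rw [sum_irr f] at h
  rw [← h]
  refine Finset.sum_congr rfl fun i _ => ?_
  rw [apply_one hf, Complex.conj_natCast]

/-- Two conjugate algebraic integers. -/
theorem nonreal_of_sum {z w : ℂ} (hz : IsIntegral ℤ z) (hs : z + w = -1) {m : ℕ} (hm : Odd m)
    (hn : z * conj z + w * conj w = m + 1) : z.im ≠ 0 := by
  intro him
  have hzr : conj z = z := Complex.conj_eq_iff_im.2 him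
  have hw : w = -1 - z := by rw [← hs]; ring
  have hwr : conj w = w := by
    rw [hw, map_sub, map_neg, map_one, hzr]
  rw [hzr, hwr, hw] at hn
  have h1 : z ^ 2 + z = (m : ℂ) / 2 := by linear_combination hn / 2
  have h2 : IsIntegral ℤ ((m : ℂ) / 2) := by
    rw [← h1]
    exact (hz.pow 2).add hz
  have h3 : ∃ q : ℚ, (m : ℂ) / 2 = q := ⟨(m : ℚ) / 2, by push_cast; rfl⟩
  obtain ⟨k, hk⟩ := Characters.GaloisBasic.exists_int_of_isIntegral h2 h3
  have h4 : (m : ℤ) = 2 * k := by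
    have : (m : ℂ) = 2 * k := by rw [← hk]; ring
    exact_mod_cast this
  obtain ⟨r, hr⟩ := hm
  omega

/-- The square norm of a column at an element generating a self-centralising subgroup. -/
theorem col_norm {p : ℕ} [Fact p.Prime] (P : Sylow p G) (hP : Nat.card P = p)
    (hC : centralizer (P : Set G) = (P : Subgroup G)) {x : G} (hx : x ∈ P) (hx1 : x ≠ 1)
    (f : Fin 12 ≃ IrrCharacter G) :
    ∑ i, (f i : G → ℂ) x * conj ((f i : G → ℂ) x) = p := by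
  have hord : orderOf x = p := by
    have h1 : orderOf x ∣ Nat.card P := by
      have := orderOf_dvd_natCard (⟨x, hx⟩ : P)
      rwa [Subgroup.orderOf_mk] at this
    rw [hP] at h1
    rcases (Nat.dvd_prime Fact.out).1 h1 with h2 | h2
    · exact absurd (orderOf_eq_one_iff.1 h2) hx1
    · exact h2
  have h := (S0145.result x x).1 (IsConj.refl x)
  rw [sum_irr f, ColTools.centralizer_eq_of_orderOf P hP hC hord, Nat.card_zpowers, hord] at h
  exact h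

theorem isIntegral_irr (χ : IrrCharacter G) (g : G) : IsIntegral ℤ ((χ : G → ℂ) g) :=
  Characters.GaloisBasic.isIntegral_apply (isIrr_isCharacter χ.2) g

theorem f0_apply [IsSimpleGroup G] (hG : ¬ (Nat.card G).Prime)
    (hf : ∀ i, charDegree (f i : G → ℂ) = D i) (g : G) : (f 0 : G → ℂ) g = 1 := by
  have h := Degrees.eq_one_of_charDegree hG (f 0) (hf 0)
  rw [h]
  rfl

theorem eleven [IsSimpleGroup G] (hG : ¬ (Nat.card G).Prime)
    (hf : ∀ i, charDegree (f i : G → ℂ) = D i)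
    [Fact (Nat.Prime 11)] (P : Sylow 11 G) (hP : Nat.card P = 11)
    (hC : centralizer (P : Set G) = (P : Subgroup G))
    (he : (centralizer (P : Set G)).relIndex (normalizer (P : Set G)) = 5) :
    (∀ x ∈ P, x ≠ 1 → Eleven f x) ∧ ∀ g : G, ¬ 11 ∣ orderOf g →
      (f 9 : G → ℂ) g = 1 - (f 1 : G → ℂ) g + (f 2 : G → ℂ) g + (f 3 : G → ℂ) g + (f 7 : G → ℂ) g ∧
      (f 10 : G → ℂ) g = (f 9 : G → ℂ) g := by
  classical
  obtain ⟨NE, X, ε, d, hd, -, hmem, hval, hrel⟩ :=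
    brauer f D hf 11 (by norm_num) P hP hC 5 2 he (by norm_num)
  obtain ⟨x₀, hx₀, hox₀⟩ := SmallSimple.DetKernel.exists_generator P hP
  have hx₀1 : x₀ ≠ 1 := by
    rintro rfl
    rw [orderOf_one] at hox₀
    norm_num at hox₀
  have hcls : ∀ i, ∀ x ∈ P, x ≠ 1 → _ := fun i x hx hx1 =>
    cls (p := 11) (e := 5) (Or.inl ⟨rfl, rfl⟩) (hmem i x hx hx1) hd
  obtain ⟨m0, e0⟩ := (hcls 0 x₀ hx₀ hx₀1).1 (by decide)
  obtain ⟨m1, e1⟩ := (hcls 1 x₀ hx₀ hx₀1).2.1 (by decide)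
  obtain ⟨m2, e2⟩ := (hcls 2 x₀ hx₀ hx₀1).1 (by decide)
  obtain ⟨m3, e3⟩ := (hcls 3 x₀ hx₀ hx₀1).1 (by decide)
  obtain ⟨m4, -, -⟩ := (hcls 4 x₀ hx₀ hx₀1).2.2.2 (by decide)
  obtain ⟨m5, -, -⟩ := (hcls 5 x₀ hx₀ hx₀1).2.2.2 (by decide)
  obtain ⟨m6, -, -⟩ := (hcls 6 x₀ hx₀ hx₀1).2.2.2 (by decide)
  obtain ⟨m7, e7⟩ := (hcls 7 x₀ hx₀ hx₀1).1 (by decide)
  obtain ⟨m8, -, -⟩ := (hcls 8 x₀ hx₀ hx₀1).2.2.2 (by decide)
  obtain ⟨m9, m9', ed⟩ := (hcls 9 x₀ hx₀ hx₀1).2.2.1 (by decide)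
  obtain ⟨m10, m10', -⟩ := (hcls 10 x₀ hx₀ hx₀1).2.2.1 (by decide)
  obtain ⟨m11, -, -⟩ := (hcls 11 x₀ hx₀ hx₀1).2.2.2 (by decide)
  have hR : ∀ j, f j ∈ X → ∀ g : G, ¬ 11 ∣ orderOf g → (f j : G → ℂ) g =
      1 - (f 1 : G → ℂ) g + (f 2 : G → ℂ) g + (f 3 : G → ℂ) g + (f 7 : G → ℂ) g := by
    intro j hj g hg
    have h := hrel j hj g hg
    rw [sum_enum f NE, ed, sum12] at h
    simp only [m0, m1, m2, m3, m4, m5, m6, m7, m8, m9', m10', m11, if_true, if_false,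
      Equiv.symm_apply_apply, e0, e1, e2, e3, e7, f0_apply hG hf] at h
    push_cast at h
    linear_combination -h
  have hRR : ∀ g : G, ¬ 11 ∣ orderOf g →
      (f 9 : G → ℂ) g = 1 - (f 1 : G → ℂ) g + (f 2 : G → ℂ) g + (f 3 : G → ℂ) g + (f 7 : G → ℂ) g ∧
      (f 10 : G → ℂ) g = (f 9 : G → ℂ) g :=
    fun g hg => ⟨hR 9 m9 g hg, by rw [hR 9 m9 g hg, hR 10 m10 g hg]⟩
  refine ⟨fun x hx hx1 => ?_, hRR⟩
  have c0 : (f 0 : G → ℂ) x = 1 := f0_apply hG hf x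
  have c1 : (f 1 : G → ℂ) x = -1 := by rw [hval 1 m1 x hx hx1, e1]; norm_num
  have c2 : (f 2 : G → ℂ) x = 1 := by rw [hval 2 m2 x hx hx1, e2]; norm_num
  have c3 : (f 3 : G → ℂ) x = 1 := by rw [hval 3 m3 x hx hx1, e3]; norm_num
  have c7 : (f 7 : G → ℂ) x = 1 := by rw [hval 7 m7 x hx hx1, e7]; norm_num
  have c4 : (f 4 : G → ℂ) x = 0 := ((hcls 4 x hx hx1).2.2.2 (by decide)).2.2
  have c5 : (f 5 : G → ℂ) x = 0 := ((hcls 5 x hx hx1).2.2.2 (by decide)).2.2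
  have c6 : (f 6 : G → ℂ) x = 0 := ((hcls 6 x hx hx1).2.2.2 (by decide)).2.2
  have c8 : (f 8 : G → ℂ) x = 0 := ((hcls 8 x hx hx1).2.2.2 (by decide)).2.2
  have c11 : (f 11 : G → ℂ) x = 0 := ((hcls 11 x hx hx1).2.2.2 (by decide)).2.2
  have hsum : (f 9 : G → ℂ) x + (f 10 : G → ℂ) x = -1 := by
    have h := col_one hf hx1
    rw [sum12, c0, c1, c2, c3, c4, c5, c6, c7, c8, c11] at h
    simp [D] at h
    linear_combination h / 280
  refine ⟨c0, c1, c2, c3, c4, c5, c6, c7, c8, c11, hsum, ?_⟩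
  have hn := col_norm P hP hC hx hx1 f
  rw [sum12, c0, c1, c2, c3, c4, c5, c6, c7, c8, c11] at hn
  simp only [map_one, map_neg, map_zero] at hn
  refine nonreal_of_sum (isIntegral_irr (f 9) x) hsum (m := 5) (by decide) ?_
  push_cast at hn ⊢
  linear_combination hn

theorem seven [IsSimpleGroup G] (hG : ¬ (Nat.card G).Prime)
    (hf : ∀ i, charDegree (f i : G → ℂ) = D i)
    [Fact (Nat.Prime 7)] (P : Sylow 7 G) (hP : Nat.card P = 7)
    (hC : centralizer (P : Set G) = (P : Subgroup G))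
    (he : (centralizer (P : Set G)).relIndex (normalizer (P : Set G)) = 3) :
    (∀ x ∈ P, x ≠ 1 → Seven f x) ∧ ∀ g : G, ¬ 7 ∣ orderOf g →
      (f 2 : G → ℂ) g = 1 - (f 4 : G → ℂ) g + (f 5 : G → ℂ) g ∧
      (f 3 : G → ℂ) g = (f 2 : G → ℂ) g := by
  classical
  obtain ⟨NE, X, ε, d, hd, -, hmem, hval, hrel⟩ :=
    brauer f D hf 7 (by norm_num) P hP hC 3 2 he (by norm_num)
  obtain ⟨x₀, hx₀, hox₀⟩ := SmallSimple.DetKernel.exists_generator P hP
  have hx₀1 : x₀ ≠ 1 := by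
    rintro rfl
    rw [orderOf_one] at hox₀
    norm_num at hox₀
  have hcls : ∀ i, ∀ x ∈ P, x ≠ 1 → _ := fun i x hx hx1 =>
    cls (p := 7) (e := 3) (Or.inr ⟨rfl, rfl⟩) (hmem i x hx hx1) hd
  obtain ⟨m0, e0⟩ := (hcls 0 x₀ hx₀ hx₀1).1 (by decide)
  obtain ⟨m1, -, -⟩ := (hcls 1 x₀ hx₀ hx₀1).2.2.2 (by decide)
  obtain ⟨m2, m2', ed⟩ := (hcls 2 x₀ hx₀ hx₀1).2.2.1 (by decide)
  obtain ⟨m3, m3', -⟩ := (hcls 3 x₀ hx₀ hx₀1).2.2.1 (by decide)
  obtain ⟨m4, e4⟩ := (hcls 4 x₀ hx₀ hx₀1).2.1 (by decide)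
  obtain ⟨m5, e5⟩ := (hcls 5 x₀ hx₀ hx₀1).1 (by decide)
  obtain ⟨m6, -, -⟩ := (hcls 6 x₀ hx₀ hx₀1).2.2.2 (by decide)
  obtain ⟨m7, -, -⟩ := (hcls 7 x₀ hx₀ hx₀1).2.2.2 (by decide)
  obtain ⟨m8, -, -⟩ := (hcls 8 x₀ hx₀ hx₀1).2.2.2 (by decide)
  obtain ⟨m9, -, -⟩ := (hcls 9 x₀ hx₀ hx₀1).2.2.2 (by decide)
  obtain ⟨m10, -, -⟩ := (hcls 10 x₀ hx₀ hx₀1).2.2.2 (by decide)
  obtain ⟨m11, -, -⟩ := (hcls 11 x₀ hx₀ hx₀1).2.2.2 (by decide)
  have hR : ∀ j, f j ∈ X → ∀ g : G, ¬ 7 ∣ orderOf g → (f j : G → ℂ) g =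
      1 - (f 4 : G → ℂ) g + (f 5 : G → ℂ) g := by
    intro j hj g hg
    have h := hrel j hj g hg
    rw [sum_enum f NE, ed, sum12] at h
    simp only [m0, m1, m2', m3', m4, m5, m6, m7, m8, m9, m10, m11, if_true, if_false,
      Equiv.symm_apply_apply, e0, e4, e5, f0_apply hG hf] at h
    push_cast at h
    linear_combination -h
  have hRR : ∀ g : G, ¬ 7 ∣ orderOf g →
      (f 2 : G → ℂ) g = 1 - (f 4 : G → ℂ) g + (f 5 : G → ℂ) g ∧
      (f 3 : G → ℂ) g = (f 2 : G → ℂ) g :=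
    fun g hg => ⟨hR 2 m2 g hg, by rw [hR 2 m2 g hg, hR 3 m3 g hg]⟩
  refine ⟨fun x hx hx1 => ?_, hRR⟩
  have c0 : (f 0 : G → ℂ) x = 1 := f0_apply hG hf x
  have c4 : (f 4 : G → ℂ) x = -1 := by rw [hval 4 m4 x hx hx1, e4]; norm_num
  have c5 : (f 5 : G → ℂ) x = 1 := by rw [hval 5 m5 x hx hx1, e5]; norm_num
  have c1 : (f 1 : G → ℂ) x = 0 := ((hcls 1 x hx hx1).2.2.2 (by decide)).2.2
  have c6 : (f 6 : G → ℂ) x = 0 := ((hcls 6 x hx hx1).2.2.2 (by decide)).2.2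
  have c7 : (f 7 : G → ℂ) x = 0 := ((hcls 7 x hx hx1).2.2.2 (by decide)).2.2
  have c8 : (f 8 : G → ℂ) x = 0 := ((hcls 8 x hx hx1).2.2.2 (by decide)).2.2
  have c9 : (f 9 : G → ℂ) x = 0 := ((hcls 9 x hx hx1).2.2.2 (by decide)).2.2
  have c10 : (f 10 : G → ℂ) x = 0 := ((hcls 10 x hx hx1).2.2.2 (by decide)).2.2
  have c11 : (f 11 : G → ℂ) x = 0 := ((hcls 11 x hx hx1).2.2.2 (by decide)).2.2
  have hsum : (f 2 : G → ℂ) x + (f 3 : G → ℂ) x = -1 := by
    have h := col_one hf hx1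
    rw [sum12, c0, c1, c4, c5, c6, c7, c8, c9, c10, c11] at h
    simp [D] at h
    linear_combination h / 45
  refine ⟨c0, c1, c4, c5, c6, c7, c8, c9, c10, c11, hsum, ?_⟩
  have hn := col_norm P hP hC hx hx1 f
  rw [sum12, c0, c1, c4, c5, c6, c7, c8, c9, c10, c11] at hn
  simp only [map_one, map_neg, map_zero] at hn
  refine nonreal_of_sum (isIntegral_irr (f 2) x) hsum (m := 3) (by decide) ?_
  push_cast at hn ⊢
  linear_combination hn

theorem five [IsSimpleGroup G] (hG : ¬ (Nat.card G).Prime)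
    (hf : ∀ i, charDegree (f i : G → ℂ) = D i)
    [Fact (Nat.Prime 5)] (P : Sylow 5 G) (hP : Nat.card P = 5)
    (hC : centralizer (P : Set G) = (P : Subgroup G))
    (he : (centralizer (P : Set G)).relIndex (normalizer (P : Set G)) = 4) :
    ∀ x ∈ P, x ≠ 1 → Five f x := by
  classical
  obtain ⟨NE, X, ε, d, hd, ⟨hX, hdis⟩, hmem, hval, hrel⟩ :=
    brauer f D hf 5 (by norm_num) P hP hC 4 1 he (by norm_num)
  intro x hx hx1
  obtain ⟨Θ, hΘ⟩ := Finset.card_eq_one.1 hX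
  obtain ⟨j, rfl⟩ := f.surjective Θ
  have hXj : ∀ i, f i ∈ X ↔ i = j := fun i => by
    rw [hΘ, Finset.mem_singleton, f.injective.eq_iff]
  have hexc : (f j : G → ℂ) x = -d := by
    have h1 := col_one hf hx1
    have h2 := hrel j ((hXj j).2 rfl) 1 (by rw [orderOf_one]; norm_num)
    rw [sum_enum f NE] at h2
    have h3 : ∀ i, (f i : G → ℂ) x * D i = (if f i ∈ NE then
        ((ε (f.symm (f i)) : ℤ) : ℂ) * (f i : G → ℂ) 1 else 0) +
        if i = j then (f j : G → ℂ) x * D j else 0 := by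
      intro i
      rw [Equiv.symm_apply_apply, apply_one hf]
      rcases hmem i x hx hx1 with ⟨h4, -, -⟩ | ⟨h4, h5, -⟩ | ⟨h4, h5, -, h6⟩
      · have hij : i ≠ j := by
          rintro rfl
          exact hdis _ h4 ((hXj i).2 rfl)
        rw [if_pos h4, if_neg hij, hval i h4 x hx hx1, add_zero]
      · have hij := (hXj i).1 h4
        subst hij
        rw [if_neg h5, if_pos rfl, zero_add]
      · have hij : i ≠ j := fun h => h5 ((hXj i).2 h)
        rw [if_neg h4, if_neg hij, h6]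
        simp
    rw [Finset.sum_congr rfl fun i _ => h3 i, Finset.sum_add_distrib, h2,
      Finset.sum_ite_eq' Finset.univ j, if_pos (Finset.mem_univ j), apply_one hf] at h1
    have h4 : (D j : ℂ) ≠ 0 := by
      exact_mod_cast D_ne_zero j
    have h5 : ((f j : G → ℂ) x + d) * D j = 0 := by linear_combination h1
    have h6 := (mul_eq_zero.1 h5).resolve_right h4
    linear_combination h6
  have key : ∀ i, ∃ z : ℤ, (f i : G → ℂ) x = z ∧ (z = 1 ∨ z = -1 ∨ z = 0) ∧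
      (5 : ℤ) ∣ (D i : ℤ) - z := by
    intro i
    rcases hmem i x hx hx1 with ⟨h4, h5, h6⟩ | ⟨h4, h5, h6⟩ | ⟨h4, h5, h6, h7⟩
    · refine ⟨ε i, hval i h4 x hx hx1, ?_, by exact_mod_cast h5⟩
      rcases h6 with h | h
      · exact Or.inl h
      · exact Or.inr (Or.inl h)
    · have hij := (hXj i).1 h4
      subst hij
      refine ⟨-d, by rw [hexc]; push_cast; rfl, ?_, ?_⟩
      · rcases hd with rfl | rfl
        · right; left; rfl
        · left; rfl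
      · push_cast at h6
        omega
    · exact ⟨0, by rw [h7]; simp, Or.inr (Or.inr rfl), by push_cast at h6 ⊢; omega⟩
  have fin : ∀ (i : Fin 12) (c : ℤ), (5 : ℤ) ∣ (D i : ℤ) - c → (c = 1 ∨ c = -1 ∨ c = 0) →
      (f i : G → ℂ) x = c := by
    intro i c h1 h2
    obtain ⟨z, hz, hz', h3⟩ := key i
    have : z = c := by omega
    rw [hz, this]
  exact
    { c0 := by simpa using fin 0 1 (by decide) (by decide)
      c1 := by simpa using fin 1 1 (by decide) (by decide)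
      c2 := by simpa using fin 2 0 (by decide) (by decide)
      c3 := by simpa using fin 3 0 (by decide) (by decide)
      c4 := by simpa using fin 4 0 (by decide) (by decide)
      c5 := by simpa using fin 5 (-1) (by decide) (by decide)
      c6 := by simpa using fin 6 (-1) (by decide) (by decide)
      c7 := by simpa using fin 7 0 (by decide) (by decide)
      c8 := by simpa using fin 8 1 (by decide) (by decide)
      c9 := by simpa using fin 9 0 (by decide) (by decide)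
      c10 := by simpa using fin 10 0 (by decide) (by decide)
      c11 := by simpa using fin 11 0 (by decide) (by decide) }

end Cfsg.Agent.M22.CaseBTable
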