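import Cfsg.Agent.M22.SevenTools

/-!
# A simplicity criterion for groups of order 168
-/

set_option autoImplicit false

namespace Cfsg.Agent.M22.Crit168

open Cfsg Subgroup
open Cfsg.Agent.SmallSimple

universe u

variable {X : Type u} [Group X] [Finite X]

/-- An element commuting with an element of order 7 of a self-centralising Sylow 7-subgroup has
order 1 or 7. -/
theorem orderOf_dvd_of_commute (h : Nat.card X = 168) [Fact (Nat.Prime 7)]
    (hC : ∀ Q : Sylow 7 X, centralizer (Q : Set X) = (Q : Subgroup X)) {f t : X}
    (hf : orderOf f = 7) (hft : f * t = t * f) : orderOf t ∣ 7 := by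
  have hp : IsPGroup 7 (zpowers f) :=
    IsPGroup.of_card (n := 1) (by rw [Nat.card_zpowers, hf, pow_one])
  obtain ⟨Q, hQ⟩ := hp.exists_le_sylow
  have hQ7 : Nat.card Q = 7 := Simple168.card_of_sylow_seven h Q
  have hQeq : zpowers f = (Q : Subgroup X) := by
    apply Subgroup.eq_of_le_of_card_ge hQ
    rw [Nat.card_zpowers, hf]
    exact hQ7.le
  have ht : t ∈ centralizer (Q : Set X) := by
    rw [mem_centralizer_iff]
    intro y hy
    have hy' : y ∈ zpowers f := by rw [hQeq]; exact hy
    obtain ⟨k, rfl⟩ := Subgroup.mem_zpowers_iff.1 hy'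
    exact (Commute.zpow_left (show Commute f t from hft) k).eq
  rw [hC Q] at ht
  have h4 : orderOf (⟨t, ht⟩ : (Q : Subgroup X)) ∣ Nat.card (Q : Subgroup X) :=
    orderOf_dvd_natCard _
  rw [Subgroup.orderOf_mk] at h4
  rwa [show Nat.card (Q : Subgroup X) = 7 from hQ7] at h4

theorem isSimple_of_card (h : Nat.card X = 168) [Fact (Nat.Prime 7)]
    (hC : ∀ Q : Sylow 7 X, centralizer (Q : Set X) = (Q : Subgroup X))
    (h7 : Nat.card (Sylow 7 X) ≠ 1)
    (h2 : ∀ T : Subgroup X, Nat.card T = 8 → ¬ T.Normal) : IsSimpleGroup X := by
  classical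
  have : Fact (Nat.Prime 2) := ⟨Nat.prime_two⟩
  have : Fact (Nat.Prime 3) := ⟨Nat.prime_three⟩
  have hnt : Nontrivial X := Finite.one_lt_card_iff_nontrivial.1 (by rw [h]; norm_num)
  refine ⟨fun Y hY => ?_⟩
  -- an element of order 7
  obtain ⟨f, hf⟩ := exists_prime_orderOf_dvd_card' (G := X) 7 (by rw [h]; norm_num)
  by_cases h7Y : 7 ∣ Nat.card Y
  · right
    -- all Sylow 7-subgroups are in `Y`
    obtain ⟨z, hz⟩ := exists_prime_orderOf_dvd_card' (G := Y) 7 h7Y
    have hz' : orderOf (z : X) = 7 := by rw [Subgroup.orderOf_coe, hz]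
    have hQ7 : ∀ Q : Sylow 7 X, Nat.card (Q : Subgroup X) = 7 := fun Q =>
      Simple168.card_of_sylow_seven h Q
    have hp : IsPGroup 7 (zpowers (z : X)) :=
      IsPGroup.of_card (n := 1) (by rw [Nat.card_zpowers, hz', pow_one])
    obtain ⟨Q₀, hQ₀⟩ := hp.exists_le_sylow
    have hQ₀eq : zpowers (z : X) = (Q₀ : Subgroup X) := by
      apply Subgroup.eq_of_le_of_card_ge hQ₀
      rw [Nat.card_zpowers, hz']
      exact (hQ7 Q₀).le
    have hall : ∀ Q : Sylow 7 X, (Q : Subgroup X) ≤ Y := by
      intro Q
      obtain ⟨g, hg⟩ := MulAction.exists_smul_eq X Q₀ Q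
      rw [← hg, Sylow.coe_subgroup_smul, ← hQ₀eq]
      rintro _ ⟨y, hy, rfl⟩
      apply hY.conj_mem
      exact (zpowers_le.2 z.2) hy
    obtain ⟨n, hn1, hn2⟩ := SevenTools.exists_count Q₀ Y (hall Q₀)
    have hN : Nat.card (normalizer (Q₀ : Set X)) * Nat.card (Sylow 7 X) = 168 := by
      have h1 : Nat.card (Sylow 7 X) = (normalizer ((Q₀ : Subgroup X) : Set X)).index :=
        Q₀.card_eq_index_normalizer
      rw [h1, ← h]
      exact (normalizer ((Q₀ : Subgroup X) : Set X)).card_mul_index
    have hm := card_sylow_modEq_one 7 X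
    have hNle : (Q₀ : Subgroup X) ≤ Y ⊓ normalizer (Q₀ : Set X) :=
      le_inf (hall Q₀) le_normalizer
    have hd1 : 7 ∣ Nat.card (Y ⊓ normalizer (Q₀ : Set X) : Subgroup X) := by
      have := card_dvd_of_le hNle
      rwa [hQ7 Q₀] at this
    have hd2 : Nat.card (Y ⊓ normalizer (Q₀ : Set X) : Subgroup X) ∣
        Nat.card (normalizer (Q₀ : Set X)) := card_dvd_of_le inf_le_right
    have hYd : Nat.card Y ∣ 168 := h ▸ Y.card_subgroup_dvd_card
    -- number of Sylow subgroups is 8
    have hs8 : Nat.card (Sylow 7 X) = 8 := by
      have h3 : Nat.card (Sylow 7 X) ∣ 24 := by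
        have h4 : 7 ∣ Nat.card (normalizer (Q₀ : Set X)) := hd1.trans hd2
        obtain ⟨c, hc⟩ := h4
        rw [hc] at hN
        exact ⟨c, by
          have : 7 * (c * Nat.card (Sylow 7 X)) = 7 * 24 := by rw [← mul_assoc, hN]
          have := Nat.eq_of_mul_eq_mul_left (by norm_num) this
          rw [← this, mul_comm]⟩
      have h5 := Nat.le_of_dvd (by norm_num) h3
      have h6 : Nat.card (Sylow 7 X) % 7 = 1 := hm
      generalize Nat.card (Sylow 7 X) = s at *
      interval_cases s <;> omega
    rw [hs8] at hN
    have hN21 : Nat.card (normalizer (Q₀ : Set X)) = 21 := by omega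
    rw [hN21] at hd2
    have hi : Nat.card (Y ⊓ normalizer (Q₀ : Set X) : Subgroup X) = 7 ∨
        Nat.card (Y ⊓ normalizer (Q₀ : Set X) : Subgroup X) = 21 := by
      have := Nat.le_of_dvd (by norm_num) hd2
      generalize Nat.card (Y ⊓ normalizer (Q₀ : Set X) : Subgroup X) = i at *
      interval_cases i <;> omega
    have hn0 : n ≠ 1 := by
      intro hn
      rw [hn, one_mul] at hn2
      have h3 : Y ≤ normalizer (Q₀ : Set X) := by
        have h4 : Y ⊓ normalizer (Q₀ : Set X) = Y :=
          Subgroup.eq_of_le_of_card_ge inf_le_left hn2.ge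
        exact inf_eq_left.1 h4
      apply h7
      rw [Nat.card_eq_one_iff_unique]
      refine ⟨⟨fun Q R => ?_⟩, ⟨Q₀⟩⟩
      have key : ∀ Q : Sylow 7 X, Q = Q₀ := by
        intro Q
        apply Sylow.ext
        have h5 : (Q : Subgroup X) ≤ normalizer (Q₀ : Set X) := (hall Q).trans h3
        have h6 : ∀ g ∈ (Q : Subgroup X), g ∈ (Q₀ : Subgroup X) := by
          intro g hg
          have h7 : (Q : Subgroup X) ⊔ (Q₀ : Subgroup X) = (Q₀ : Subgroup X) := by
            have hpg : IsPGroup 7 ((Q : Subgroup X) ⊔ (Q₀ : Subgroup X) : Subgroup X) :=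
              Q.isPGroup'.to_sup_of_normal_right' Q₀.isPGroup' h5
            exact Q₀.3 hpg le_sup_right
          rw [← h7]
          exact (le_sup_left : (Q : Subgroup X) ≤ _) hg
        exact Subgroup.eq_of_le_of_card_ge h6 (by rw [hQ7, hQ7])
      rw [key Q, key R]
    rcases hi with hi | hi
    · -- order 56
      have hY56 : Nat.card Y = 56 := by
        rw [hi] at hn2
        rw [← hn2] at hYd ⊢
        have := Nat.le_of_dvd (by norm_num) hYd
        have hn24 : n ≤ 24 := by omega
        have h9 : n ∣ 24 := by
          obtain ⟨c, hc⟩ := hYd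
          exact ⟨c, by
            have : 7 * 24 = 7 * (n * c) := by rw [show 7 * (n * c) = n * 7 * c by ring, ← hc]
            exact Nat.eq_of_mul_eq_mul_left (by norm_num) this⟩
        interval_cases n <;> omega
      exfalso
      let T : Sylow 2 Y := default
      have hT8 : Nat.card (T : Subgroup Y) = 8 := by
        rw [T.card_eq_multiplicity, hY56]
        have : (56 : ℕ).factorization 2 = 3 := by
          rw [show (56 : ℕ) = 2 ^ 3 * 7 by norm_num, Nat.factorization_mul (by norm_num)
            (by norm_num), Nat.Prime.factorization_pow Nat.prime_two]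
          simp [Nat.factorization_eq_zero_of_not_dvd (show ¬ 2 ∣ 7 by norm_num)]
        rw [this]; norm_num
      -- elements of order 7
      have h48 : Nat.card {x : X // orderOf x = 7} = 48 := by
        rw [Simple168.card_orderOf_eq_prime 7 (fun Q => hQ7 Q), hs8]
      let S : Finset X := (Set.toFinite {x : X | x ∈ Y ∧ orderOf x ≠ 7}).toFinset
      have hfinY : Finite Y := inferInstance
      have := Fintype.ofFinite X
      have hcS : S.card + 48 = 56 := by
        have h10 : S.card + (Finset.univ.filter fun x : X => orderOf x = 7).card =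
            (Finset.univ.filter fun x : X => x ∈ Y).card := by
          rw [← Finset.card_union_of_disjoint]
          · congr 1
            ext x
            simp only [S, Set.Finite.mem_toFinset, Set.mem_ofPred_eq, Finset.mem_union,
              Finset.mem_filter, Finset.mem_univ, true_and]
            constructor
            · rintro (⟨h11, -⟩ | h11)
              · exact h11
              · have hpx : IsPGroup 7 (zpowers x) :=
                  IsPGroup.of_card (n := 1) (by rw [Nat.card_zpowers, h11, pow_one])
                obtain ⟨Q, hQ⟩ := hpx.exists_le_sylow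
                exact hall Q (hQ (mem_zpowers x))
            · intro h11
              by_cases h12 : orderOf x = 7
              · exact Or.inr h12
              · exact Or.inl ⟨h11, h12⟩
          · rw [Finset.disjoint_left]
            intro x hx hx'
            simp only [S, Set.Finite.mem_toFinset, Set.mem_ofPred_eq] at hx
            exact hx.2 (Finset.mem_filter.1 hx').2
        have h13 : (Finset.univ.filter fun x : X => orderOf x = 7).card = 48 := by
          rw [← h48, Nat.card_eq_fintype_card, Fintype.card_subtype]
        have h14 : (Finset.univ.filter fun x : X => x ∈ Y).card = 56 := by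
          rw [← hY56, Nat.card_eq_fintype_card, Fintype.card_subtype]
        rw [h13, h14] at h10
        exact h10
      have hTS : ∀ x : X, x ∈ (T : Subgroup Y).map Y.subtype ↔ x ∈ Y ∧ orderOf x ≠ 7 := by
        have hsub : ∀ x : X, x ∈ (T : Subgroup Y).map Y.subtype → x ∈ Y ∧ orderOf x ≠ 7 := by
          rintro _ ⟨y, hy, rfl⟩
          refine ⟨y.2, fun h15 => ?_⟩
          have h16 : orderOf (⟨y, hy⟩ : (T : Subgroup Y)) ∣ 8 := by
            rw [← hT8]; exact orderOf_dvd_natCard _
          rw [Subgroup.orderOf_mk] at h16
          have h17 : orderOf (y : X) = orderOf y := Subgroup.orderOf_coe y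
          have h18 : orderOf (Y.subtype y) = orderOf y := h17
          rw [h18] at h15
          rw [h15] at h16
          revert h16
          decide
        let T' : Finset X := (Set.toFinite ((T : Subgroup Y).map Y.subtype : Set X)).toFinset
        have hT'c : T'.card = 8 := by
          have h19 : Nat.card ((T : Subgroup Y).map Y.subtype : Subgroup X) = 8 := by
            rw [← hT8]
            exact (Nat.card_congr ((T : Subgroup Y).equivMapOfInjective _
              Y.subtype_injective).toEquiv).symm
          rw [← h19]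
          exact (Set.ncard_eq_toFinset_card _ _).symm
        have hT'S : T' ⊆ S := by
          intro x hx
          simp only [T', Set.Finite.mem_toFinset] at hx
          simp only [S, Set.Finite.mem_toFinset, Set.mem_ofPred_eq]
          exact hsub x hx
        have hT'eq : T' = S := Finset.eq_of_subset_of_card_le hT'S (by omega)
        intro x
        refine ⟨hsub x, fun hx => ?_⟩
        have h20 : x ∈ S := by
          simp only [S, Set.Finite.mem_toFinset, Set.mem_ofPred_eq]; exact hx
        rw [← hT'eq] at h20
        exact (Set.Finite.mem_toFinset _).1 h20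
      apply h2 ((T : Subgroup Y).map Y.subtype)
      · rw [← hT8]
        exact (Nat.card_congr ((T : Subgroup Y).equivMapOfInjective _
          Y.subtype_injective).toEquiv).symm
      · refine ⟨fun x hx g => ?_⟩
        rw [hTS] at hx ⊢
        refine ⟨hY.conj_mem x hx.1 g, ?_⟩
        have h21 : orderOf (g * x * g⁻¹) = orderOf x := by
          have := (MulAut.conj g).orderOf_eq x
          rwa [MulAut.conj_apply] at this
        rw [h21]
        exact hx.2
    · have hY168 : Nat.card Y = 168 := by
        rw [hi] at hn2
        have := Nat.le_of_dvd (by norm_num) hYd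
        rw [← hn2] at this ⊢
        have hn8 : n ≤ 8 := by omega
        interval_cases n <;> omega
      exact Subgroup.eq_top_of_card_eq Y (by rw [hY168, h])
  · left
    have hYd : Nat.card Y ∣ 168 := h ▸ Y.card_subgroup_dvd_card
    have hYd24 : Nat.card Y ∣ 24 := by
      have h1 : Nat.Coprime (Nat.card Y) 7 :=
        ((Nat.Prime.coprime_iff_not_dvd (by norm_num)).2 h7Y).symm
      exact h1.dvd_of_dvd_mul_left (by simpa using hYd : Nat.card Y ∣ 7 * 24)
    have hfN : f ∈ normalizer (Y : Set X) := by
      have := Subgroup.normalizer_eq_top_iff.2 hY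
      rw [this]; exact mem_top f
    have h3Y : ¬ 3 ∣ Nat.card Y := by
      intro h3
      obtain ⟨t, -, ht, hft⟩ := NonSelfCent.exists_commuting (q := 7) (r := 3) Y hfN hf h7Y h3
        (by
          intro j hj hjY
          have h4 : 3 ^ j ∣ 24 := hjY.trans hYd24
          have hj1 : j < 2 := by
            by_contra hcon
            have h5 : 3 ^ 2 ∣ 24 := (pow_dvd_pow 3 (by omega)).trans h4
            revert h5; decide
          interval_cases j
          decide)
      have := orderOf_dvd_of_commute h hC hf hft
      rw [ht] at this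
      revert this
      decide
    have hYd8 : Nat.card Y ∣ 8 := by
      have h1 : Nat.Coprime (Nat.card Y) 3 :=
        ((Nat.Prime.coprime_iff_not_dvd (by norm_num)).2 h3Y).symm
      exact h1.dvd_of_dvd_mul_left (by simpa using hYd24 : Nat.card Y ∣ 3 * 8)
    have hY8 : Nat.card Y ≠ 8 := fun h8 => h2 Y h8 hY
    have hY1 : Nat.card Y = 1 := by
      by_contra hne
      have h2Y : 2 ∣ Nat.card Y := by
        have := Nat.le_of_dvd (by norm_num) hYd8
        have hpos : 0 < Nat.card Y := Nat.card_pos
        generalize Nat.card Y = c at *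
        interval_cases c <;> omega
      obtain ⟨t, -, ht, hft⟩ := NonSelfCent.exists_commuting (q := 7) (r := 2) Y hfN hf h7Y h2Y
        (by
          intro j hj hjY
          have hj1 : j < 3 := by
            by_contra hcon
            have h5 : 2 ^ 3 ∣ Nat.card Y := (pow_dvd_pow 2 (by omega)).trans hjY
            have h6 := Nat.le_of_dvd Nat.card_pos h5
            have h7 := Nat.le_of_dvd (by norm_num) hYd8
            omega
          interval_cases j <;> decide)
      have := orderOf_dvd_of_commute h hC hf hft
      rw [ht] at this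
      revert this
      decide
    exact Subgroup.card_eq_one.1 hY1

end Cfsg.Agent.M22.Crit168
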