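import Cfsg.Agent.M22.DegreesComb

/-!
# Degrees of the irreducible characters of a simple group of order 443520: the four candidates
-/

set_option autoImplicit false

namespace Cfsg.Agent.M22.DegreesEnd

open Cfsg.Agent.M22.DegreesComb

/-- Candidate A for the degrees. -/
def LA : List ℕ := [1, 21, 21, 56, 99, 105, 105, 120, 220, 220, 385, 385]
/-- Candidate B for the degrees, the true one. -/
def LB : List ℕ := [1, 21, 45, 45, 55, 99, 154, 210, 231, 280, 280, 385]
/-- Candidate C for the degrees. -/
def LC : List ℕ := [1, 21, 55, 66, 66, 120, 154, 210, 210, 280, 280, 385]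
/-- Candidate D for the degrees. -/
def LD : List ℕ := [1, 21, 99, 120, 154, 210, 210, 220, 220, 231, 280, 280]

/-- Sum of squares. -/
def sq (l : List ℕ) : ℕ := (l.map fun a => a * a).sum

/-- The check of a compatible triple. -/
def chkM (m : List ℕ) : Bool :=
  (fun s => !(Nat.ble s 443520) || !(Nat.beq ((443520 - s) % 148225) 0) ||
    (fun r => [LA, LB, LC, LD].any fun L => L.isPerm (m ++ r))
      (List.replicate ((443520 - s) / 148225) 385)) (sq m)

/-- The check of all triples. -/
def chkFinal : Bool :=
  L11.all fun a => L7.all fun b =>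
    !((a.filter fun d => !(Nat.beq (d % 7) 0)).isPerm (b.filter fun d => !(Nat.beq (d % 11) 0))) ||
    L5.all fun c =>
      !((a.filter fun d => !(Nat.beq (d % 5) 0)).isPerm (c.filter fun d => !(Nat.beq (d % 11) 0))) ||
      !((b.filter fun d => !(Nat.beq (d % 5) 0)).isPerm (c.filter fun d => !(Nat.beq (d % 7) 0))) ||
      chkM (a ++ (b.filter fun d => Nat.beq (d % 11) 0) ++ (c.filter fun d => Nat.beq (d % 77) 0))

theorem chkFinal_true : chkFinal = true := by decide +kernel

variable {ι : Type*} [Fintype ι] {deg : ι → ℕ} {i0 : ι}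

theorem filt_eq (q : ℕ) (l : List ℕ) :
    ((l.filter fun d => !(Nat.beq (d % q) 0) : List ℕ) : Multiset ℕ) =
      (l : Multiset ℕ).filter fun d => ¬ q ∣ d := by
  rw [Multiset.filter_coe, Multiset.coe_eq_coe]
  apply List.Perm.of_eq
  apply List.filter_congr
  intro d _
  rw [Bool.eq_iff_iff, Bool.not_eq_true', decide_eq_true_iff, Nat.dvd_iff_mod_eq_zero]
  constructor
  · intro h h'
    rw [h'] at h
    exact absurd h (by decide)
  · intro h
    rw [Bool.eq_false_iff]
    intro h'
    exact h (Nat.eq_of_beq_eq_true h')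

theorem filt_eq' (q : ℕ) (l : List ℕ) :
    ((l.filter fun d => Nat.beq (d % q) 0 : List ℕ) : Multiset ℕ) =
      (l : Multiset ℕ).filter fun d => q ∣ d := by
  rw [Multiset.filter_coe, Multiset.coe_eq_coe]
  apply List.Perm.of_eq
  apply List.filter_congr
  intro d _
  rw [Bool.eq_iff_iff, decide_eq_true_iff, Nat.dvd_iff_mod_eq_zero]
  exact ⟨Nat.eq_of_beq_eq_true, fun h => by rw [h]; rfl⟩

theorem degrees [DecidableEq ι] (h0 : deg i0 = 1) (h1 : ∀ i, deg i = 1 → i = i0)
    (hdvd : ∀ i, deg i ∣ 443520) (hsq : ∑ i, deg i ^ 2 = 443520) (b11 : BData deg i0 11 5 2)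
    (b7 : BData deg i0 7 3 2) (b5 : BData deg i0 5 4 1) :
    ∃ L ∈ [LA, LB, LC, LD], (Finset.univ.val.map deg : Multiset ℕ) = L := by
  obtain ⟨a, ha, hae⟩ := block_list h0 h1 hdvd hsq 11 5 2 C11 E11 L11 (by decide) (by decide)
    (by decide +kernel) (by decide +kernel) (by norm_num) chk11 b11
  obtain ⟨b, hb, hbe⟩ := block_list h0 h1 hdvd hsq 7 3 2 C7 E7 L7 (by decide) (by decide)
    (by decide +kernel) (by decide +kernel) (by norm_num) chk7 b7
  obtain ⟨c, hc, hce⟩ := block_list h0 h1 hdvd hsq 5 4 1 C5 E5 L5 (by decide) (by decide)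
    (by decide +kernel) (by decide +kernel) (by norm_num) chk5 b5
  set M : Multiset ℕ := Finset.univ.val.map deg with hM
  have hall := List.all_eq_true.1 (List.all_eq_true.1 chkFinal_true a ha) b hb
  rw [Bool.or_eq_true, Bool.not_eq_true'] at hall
  have hab : ((a.filter fun d => !(Nat.beq (d % 7) 0)).isPerm
      (b.filter fun d => !(Nat.beq (d % 11) 0))) = true := by
    rw [List.isPerm_iff, ← Multiset.coe_eq_coe, filt_eq 7, filt_eq 11,
      hae, hbe, Multiset.filter_comm]
  rcases hall with hall | hall
  · rw [hab] at hall; exact absurd hall (by decide)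
  have hall := List.all_eq_true.1 hall c hc
  rw [Bool.or_eq_true, Bool.or_eq_true, Bool.not_eq_true', Bool.not_eq_true'] at hall
  have hac : ((a.filter fun d => !(Nat.beq (d % 5) 0)).isPerm
      (c.filter fun d => !(Nat.beq (d % 11) 0))) = true := by
    rw [List.isPerm_iff, ← Multiset.coe_eq_coe, filt_eq 5, filt_eq 11,
      hae, hce, Multiset.filter_comm]
  have hbc : ((b.filter fun d => !(Nat.beq (d % 5) 0)).isPerm
      (c.filter fun d => !(Nat.beq (d % 7) 0))) = true := by
    rw [List.isPerm_iff, ← Multiset.coe_eq_coe, filt_eq 5, filt_eq 7,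
      hbe, hce, Multiset.filter_comm]
  rw [hac, hbc] at hall
  rcases hall with (hall | hall) | hall
  · exact absurd hall (by decide)
  · exact absurd hall (by decide)
  -- the decomposition of the multiset of degrees
  set m : List ℕ := a ++ (b.filter fun d => Nat.beq (d % 11) 0) ++
    (c.filter fun d => Nat.beq (d % 77) 0) with hm
  have hdec : M = (m : Multiset ℕ) + M.filter fun d => 385 ∣ d := by
    rw [hm, ← Multiset.coe_add, ← Multiset.coe_add, filt_eq', filt_eq', hae, hbe, hce,
      Multiset.filter_filter, Multiset.filter_filter]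
    have e1 : M = M.filter (fun d => ¬ 11 ∣ d) + M.filter (fun d => 11 ∣ d) := by
      rw [add_comm]
      exact (Multiset.filter_add_not (fun d => 11 ∣ d) M).symm
    have e2 : M.filter (fun d => 11 ∣ d) = M.filter (fun d => 11 ∣ d ∧ ¬ 7 ∣ d) +
        M.filter (fun d => 77 ∣ d) := by
      conv_lhs => rw [← Multiset.filter_add_not (fun d => 7 ∣ d) (M.filter (fun d => 11 ∣ d))]
      rw [Multiset.filter_filter, Multiset.filter_filter, add_comm]
      congr 1
      · exact Multiset.filter_congr fun d _ => by tauto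
      · exact Multiset.filter_congr fun d _ => by omega
    have e3 : M.filter (fun d => 77 ∣ d) = M.filter (fun d => 77 ∣ d ∧ ¬ 5 ∣ d) +
        M.filter (fun d => 385 ∣ d) := by
      conv_lhs => rw [← Multiset.filter_add_not (fun d => 5 ∣ d) (M.filter (fun d => 77 ∣ d))]
      rw [Multiset.filter_filter, Multiset.filter_filter, add_comm]
      congr 1
      · exact Multiset.filter_congr fun d _ => by tauto
      · exact Multiset.filter_congr fun d _ => by omega
    rw [add_assoc, add_assoc, ← e3, ← e2]
    exact e1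
  have hrep : M.filter (fun d => 385 ∣ d) =
      Multiset.replicate (Multiset.card (M.filter fun d => 385 ∣ d)) 385 := by
    rw [Multiset.eq_replicate]
    refine ⟨rfl, fun d hd => ?_⟩
    rw [Multiset.mem_filter] at hd
    obtain ⟨i, -, rfl⟩ := Multiset.mem_map.1 hd.1
    have hlt := deg_lt hsq i
    obtain ⟨k, hk⟩ := hd.2
    have hpos : 0 < deg i := Nat.pos_of_dvd_of_pos (hdvd i) (by norm_num)
    have : k = 1 := by omega
    rw [hk, this]
  set k := Multiset.card (M.filter fun d => 385 ∣ d) with hk
  have hsum : sq m + k * 148225 = 443520 := by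
    have h2 : (M.map fun d => d * d).sum = 443520 := by
      rw [hM, Multiset.map_map, ← hsq, Finset.sum_eq_multiset_sum]
      congr 1
      exact Multiset.map_congr rfl fun i _ => (pow_two _).symm
    rw [hdec, hrep, Multiset.map_add, Multiset.sum_add, Multiset.map_replicate,
      Multiset.sum_replicate, Multiset.map_coe, Multiset.sum_coe] at h2
    exact h2
  have hsle : Nat.ble (sq m) 443520 = true := Nat.ble_eq.mpr (by omega)
  have hmod : Nat.beq ((443520 - sq m) % 148225) 0 = true := by
    rw [show 443520 - sq m = k * 148225 by omega, Nat.mul_mod_left]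
    rfl
  have hdiv : (443520 - sq m) / 148225 = k := by
    rw [show 443520 - sq m = k * 148225 by omega]
    exact Nat.mul_div_cancel _ (by norm_num)
  unfold chkM at hall
  simp only [hsle, hmod, hdiv, Bool.not_true, Bool.false_or] at hall
  obtain ⟨L, hL, hperm⟩ := List.any_eq_true.1 hall
  refine ⟨L, hL, ?_⟩
  rw [hdec, hrep, ← Multiset.coe_replicate, Multiset.coe_add]
  exact (Multiset.coe_eq_coe.2 (List.isPerm_iff.1 hperm)).symm

end Cfsg.Agent.M22.DegreesEnd
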