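import Cfsg.Agent.M22.FiveB

/-!
# The Sylow 5-subgroups of a simple group of order 443520: mode A

If the degrees in the principal 7-block are `1, 45, 45, 55, 99` then no involution commutes with
an element of order 5.
-/

set_option autoImplicit false

namespace Cfsg.Agent.M22.FiveA

open Cfsg Subgroup Cfsg.Agent.Characters.Core Cfsg.Agent.SmallSimple.InvolColumn
open Cfsg.Agent.M22.Residue Cfsg.Agent.M22.ResiduePartial Cfsg.Agent.M22.NonSelfCent
open Cfsg.Agent.SmallSimple.PrimeLocal Cfsg.Agent.M22.FiveB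
open scoped ComplexConjugate

universe u
variable {G : Type u} [Group G] [Finite G]

/-- Values on the principal 7-block at an involution centralised by an element of order 5. -/
theorem numA {e b u rest : ℤ} {c h : ℕ} (hch : c * h = 5760) (h5e : (5 : ℤ) ∣ e)
    (h5u : (5 : ℤ) ∣ u) (h9b : (9 : ℤ) ∣ h * b) (me : (4 : ℤ) ∣ 55 - e) (mu : (4 : ℤ) ∣ 45 - u)
    (le : |e| < 55) (lu : |u| < 45) (hb : 1 - e + b = u)
    (q : 495 - 9 * (e * e) + 5 * (b * b) = 11 * (u * u)) (hr : 0 ≤ rest)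
    (hn : 1 + e * e + b * b + 2 * (u * u) + rest ≤ c) :
    (u = 5 ∧ rest ≤ 563) ∨ (u = -15 ∧ rest ≤ 1003) := by
  rw [abs_lt] at le lu
  have hbe : b = u + e - 1 := by linarith
  have he : e = -45 ∨ e = -25 ∨ e = -5 ∨ e = 15 ∨ e = 35 := by omega
  have hu : u = -35 ∨ u = -15 ∨ u = 5 ∨ u = 25 := by omega
  have hh : h ≠ 0 := by rintro rfl; omega
  have hc : c ≤ 5760 := Nat.le_of_dvd (by norm_num) ⟨h, hch.symm⟩
  have hc9 : 9 ≤ h → c ≤ 640 := by
    intro h9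
    by_contra hcon
    push Not at hcon
    have : 641 * 9 ≤ c * h := Nat.mul_le_mul hcon h9
    omega
  have hc3 : 3 ≤ h → c ≤ 1920 := by
    intro h9
    by_contra hcon
    push Not at hcon
    have : 1921 * 3 ≤ c * h := Nat.mul_le_mul hcon h9
    omega
  rcases he with rfl | rfl | rfl | rfl | rfl <;> rcases hu with rfl | rfl | rfl | rfl <;>
    subst hbe <;> first
      | (exfalso; omega)
      | (left; refine ⟨rfl, ?_⟩; have := hc9 (by omega); omega)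
      | (right; refine ⟨rfl, ?_⟩; have := hc3 (by omega); omega)

/-- The arithmetic of the first two options. -/
def bad (q1 q2 u cap a g : ℤ) : Bool :=
  (fun x : ℤ => decide (a * a + g * g + 2 * (x * x) ≤ cap) &&
    decide (2520 - 120 * (a * a) + 112 * (u * u) + q1 * (g * g) = q2 * (x * x)))
    (1 - a + 2 * u + g)

/-- The arithmetic of the third option. -/
def bad3 (u cap c v : ℤ) : Bool :=
  (fun w : ℤ => decide (c * c + v * v + 2 * (w * w) ≤ cap) &&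
    decide (2520 + 112 * (u * u) + 45 * (c * c) - 10 * (v * v) = -24 * (w * w)))
    (v - c - 1 - 2 * u)

theorem chk1 : ∀ i < 10, ∀ k < 17,
    bad 45 20 5 563 (4 * (i : ℕ) - 19 : ℤ) (4 * (k : ℕ) - 32 : ℤ) = false ∧
    bad 45 20 (-15) 1003 (4 * (i : ℕ) - 19 : ℤ) (4 * (k : ℕ) - 32 : ℤ) = false := by
  decide +kernel

theorem chk2 : ∀ i < 10, ∀ k < 17,
    bad 12 9 5 563 (4 * (i : ℕ) - 19 : ℤ) (4 * (k : ℕ) - 34 : ℤ) = false ∧
    bad 12 9 (-15) 1003 (4 * (i : ℕ) - 19 : ℤ) (4 * (k : ℕ) - 34 : ℤ) = false := by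
  decide +kernel

theorem chk3 : ∀ i < 17, ∀ k < 17,
    bad3 5 563 (4 * (i : ℕ) - 32 : ℤ) (4 * (k : ℕ) - 32 : ℤ) = false ∧
    bad3 (-15) 1003 (4 * (i : ℕ) - 32 : ℤ) (4 * (k : ℕ) - 32 : ℤ) = false := by
  decide +kernel

theorem bnd {x : ℤ} (h : x * x ≤ 1003) : -32 < x ∧ x < 32 := by
  constructor <;> nlinarith

theorem end12 {q1 q2 s a g u x rest : ℤ}
    (hchk : ∀ i < 10, ∀ k < 17,
      bad q1 q2 5 563 (4 * (i : ℕ) - 19 : ℤ) (4 * (k : ℕ) - s : ℤ) = false ∧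
      bad q1 q2 (-15) 1003 (4 * (i : ℕ) - 19 : ℤ) (4 * (k : ℕ) - s : ℤ) = false)
    (hs : s = 32 ∨ s = 34) (hg : (4 : ℤ) ∣ s - g) (ha : (4 : ℤ) ∣ 21 - a) (la : |a| < 21)
    (hx : 1 - a + 2 * u + g = x)
    (hq : 2520 - 120 * (a * a) + 112 * (u * u) + q1 * (g * g) = q2 * (x * x))
    (hrest : rest = a * a + g * g + 2 * (x * x))
    (h : (u = 5 ∧ rest ≤ 563) ∨ (u = -15 ∧ rest ≤ 1003)) : False := by
  rw [abs_lt] at la
  have pa := mul_self_nonneg a
  have pg := mul_self_nonneg g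
  have px := mul_self_nonneg x
  obtain ⟨g1, g2⟩ := bnd (x := g) (by rcases h with ⟨-, h⟩ | ⟨-, h⟩ <;> linarith)
  obtain ⟨i, hi⟩ : ∃ i : ℕ, a = 4 * (i : ℤ) - 19 := ⟨((a + 19) / 4).toNat, by omega⟩
  obtain ⟨k, hk⟩ : ∃ k : ℕ, g = 4 * (k : ℤ) - s := ⟨((g + s) / 4).toNat, by omega⟩
  have hc := hchk i (by omega) k (by omega)
  rw [← hi, ← hk] at hc
  rcases h with ⟨rfl, h⟩ | ⟨rfl, h⟩
  · have h1 := hc.1
    unfold bad at h1
    simp only [Bool.and_eq_false_iff, decide_eq_false_iff_not] at h1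
    rcases h1 with h1 | h1
    · apply h1; rw [hx, ← hrest]; exact h
    · apply h1; rw [hx]; exact hq
  · have h1 := hc.2
    unfold bad at h1
    simp only [Bool.and_eq_false_iff, decide_eq_false_iff_not] at h1
    rcases h1 with h1 | h1
    · apply h1; rw [hx, ← hrest]; exact h
    · apply h1; rw [hx]; exact hq

theorem end3 {c v u w rest : ℤ} (hc : (4 : ℤ) ∣ 56 - c) (hv : (4 : ℤ) ∣ 252 - v)
    (hw : v - c - 1 - 2 * u = w)
    (hq : 2520 + 112 * (u * u) + 45 * (c * c) - 10 * (v * v) = -24 * (w * w))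
    (hrest : rest = c * c + v * v + 2 * (w * w))
    (h : (u = 5 ∧ rest ≤ 563) ∨ (u = -15 ∧ rest ≤ 1003)) : False := by
  have pc := mul_self_nonneg c
  have pv := mul_self_nonneg v
  have pw := mul_self_nonneg w
  obtain ⟨c1, c2⟩ := bnd (x := c) (by rcases h with ⟨-, h⟩ | ⟨-, h⟩ <;> linarith)
  obtain ⟨v1, v2⟩ := bnd (x := v) (by rcases h with ⟨-, h⟩ | ⟨-, h⟩ <;> linarith)
  obtain ⟨i, hi⟩ : ∃ i : ℕ, c = 4 * (i : ℤ) - 32 := ⟨((c + 32) / 4).toNat, by omega⟩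
  obtain ⟨k, hk⟩ : ∃ k : ℕ, v = 4 * (k : ℤ) - 32 := ⟨((v + 32) / 4).toNat, by omega⟩
  have hh := chk3 i (by omega) k (by omega)
  rw [← hi, ← hk] at hh
  rcases h with ⟨rfl, h⟩ | ⟨rfl, h⟩
  · have h1 := hh.1
    unfold bad3 at h1
    simp only [Bool.and_eq_false_iff, decide_eq_false_iff_not] at h1
    rcases h1 with h1 | h1
    · apply h1; rw [hw, ← hrest]; exact h
    · apply h1; rw [hw]; exact hq
  · have h1 := hh.2
    unfold bad3 at h1
    simp only [Bool.and_eq_false_iff, decide_eq_false_iff_not] at h1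
    rcases h1 with h1 | h1
    · apply h1; rw [hw, ← hrest]; exact h
    · apply h1; rw [hw]; exact hq

/-- A sum over nine indices. -/
theorem sum9 {M : Type*} [AddCommMonoid M] (F : Fin 9 → M) :
    ∑ i, F i = F 0 + F 1 + F 2 + F 3 + F 4 + F 5 + F 6 + F 7 + F 8 := by
  simp only [Fin.sum_univ_succ, Fin.sum_univ_zero, add_zero]
  simp only [add_assoc]
  rfl

/-- values at an involution, for a family -/
theorem exists_values' [IsSimpleGroup G] (hG : _root_.commutator G = ⊤) {n : ℕ}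
    (f : Fin n → IrrCharacter G) (D : Fin n → ℕ) (hD : ∀ i, charDegree (f i : G → ℂ) = D i)
    {t : G} (ht : t ^ 2 = 1) (ht1 : t ≠ 1) :
    ∃ z : Fin n → ℤ, (∀ i, (f i : G → ℂ) t = z i) ∧
      ∀ i, (4 : ℤ) ∣ D i - z i ∧ (D i ≠ 1 → |z i| < D i) := by
  have h : ∀ i, ∃ z : ℤ, (f i : G → ℂ) t = z ∧ (4 : ℤ) ∣ D i - z ∧ (D i ≠ 1 → |z| < D i) := by
    intro i
    by_cases h1 : (f i : G → ℂ) = 1
    · have h2 : charDegree (f i : G → ℂ) = 1 := by
        apply Cfsg.Agent.Blocks.Basic.charDegree_of_eq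
        rw [h1]; simp
      refine ⟨1, ?_, ?_, fun h => absurd ((hD i).symm.trans h2) h⟩
      · rw [h1]; simp
      · rw [← hD i, h2]; norm_num
    · obtain ⟨z, hz, hlt, h4⟩ := exists_int hG (f i).2 h1 ht ht1
      rw [hD i] at hlt h4
      exact ⟨z, hz, h4, fun _ => hlt⟩
  choose z hz using h
  exact ⟨z, fun i => (hz i).1, fun i => (hz i).2⟩

theorem sum_sq_le' {n : ℕ} (f : Fin n → IrrCharacter G) (hf : Function.Injective f) (g : G)
    (z : Fin n → ℤ) (hz : ∀ i, (f i : G → ℂ) g = z i) :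
    ∑ i, z i * z i ≤ (Nat.card (centralizer ({g} : Set G)) : ℤ) := by
  classical
  have h1 := sum_norm_sq_le (Finset.univ.image f) g
  rw [Finset.sum_image (fun i _ j _ hij => hf hij)] at h1
  have h2 : ∑ i, ‖(f i : G → ℂ) g‖ ^ 2 = ((∑ i, z i * z i : ℤ) : ℝ) := by
    push_cast
    refine Finset.sum_congr rfl fun i _ => ?_
    rw [hz i, Complex.norm_intCast, sq_abs, sq]
  rw [h2] at h1
  exact_mod_cast h1

/-- The common part. -/
theorem prelim [IsSimpleGroup G] (hcard : Nat.card G = 443520)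
    [Fact (Nat.Prime 11)] [Fact (Nat.Prime 7)]
    (P11 : Sylow 11 G) (P7 : Sylow 7 G)
    (c11 : centralizer (P11 : Set G) = (P11 : Subgroup G))
    (c7 : centralizer (P7 : Set G) = (P7 : Subgroup G))
    (F : Fin 9 → IrrCharacter G) (hF : Function.Injective F) (D : Fin 9 → ℕ)
    (hD : ∀ i, charDegree (F i : G → ℂ) = D i)
    {t : G} (ht2 : orderOf t = 2) (h5t : 5 ∣ Nat.card (centralizer ({t} : Set G))) :
    ∃ (z : Fin 9 → ℤ) (c h : ℕ), (∀ i, (F i : G → ℂ) t = z i) ∧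
      (∀ i, (4 : ℤ) ∣ D i - z i ∧ (D i ≠ 1 → |z i| < D i)) ∧ (∑ i, z i * z i ≤ (c : ℤ)) ∧
      c * h = 5760 ∧ (∀ i, 5 ∣ D i → (5 : ℤ) ∣ z i) ∧ (∀ i, 99 ∣ D i → (9 : ℤ) ∣ h * z i) ∧
      (D 0 = 1 → z 0 = 1) := by
  have hnp : ¬ (Nat.card G).Prime := by rw [hcard]; norm_num
  have hG : _root_.commutator G = ⊤ := KillACD.commutator_eq_top hnp
  have h11 : Nat.card P11 = 11 :=
    Degrees.card_sylow_eq (m := 40320) (by rw [hcard]) (by norm_num) P11
  have h7 : Nat.card P7 = 7 :=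
    Degrees.card_sylow_eq (m := 63360) (by rw [hcard]) (by norm_num) P7
  have ht : t ^ 2 = 1 := by rw [← ht2]; exact pow_orderOf_eq_one t
  have ht1 : t ≠ 1 := by
    rintro rfl
    rw [orderOf_one] at ht2
    norm_num at ht2
  obtain ⟨z, hz, hz'⟩ := exists_values' hG F D hD ht ht1
  have hreg : ∀ p : ℕ, 2 < p → ¬ p ∣ orderOf t := fun p hp h => by
    rw [ht2] at h
    have := Nat.le_of_dvd (by norm_num) h
    omega
  have nrm := sum_sq_le' F hF t z hz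
  have n11 := KillC.not_dvd_card_centralizer P11 h11 c11 (hreg 11 (by norm_num)) ht1
  have n7 := KillC.not_dvd_card_centralizer P7 h7 c7 (hreg 7 (by norm_num)) ht1
  have hidx := (centralizer ({t} : Set G)).card_mul_index
  rw [hcard] at hidx
  have hdvd : ∀ i, (D i : ℤ) ∣ ((centralizer ({t} : Set G)).index : ℤ) * z i := fun i => by
    rw [← hD i]; exact dvd_index_mul (F i).2 (hz i)
  set c := Nat.card (centralizer ({t} : Set G)) with hc
  set m := (centralizer ({t} : Set G)).index with hm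
  obtain ⟨h, hh⟩ : ∃ h, m = 77 * h := by
    have k11 : Nat.Coprime 11 c := (Nat.Prime.coprime_iff_not_dvd Fact.out).2 n11
    have k7 : Nat.Coprime 7 c := (Nat.Prime.coprime_iff_not_dvd Fact.out).2 n7
    have k77 : Nat.Coprime 77 c := by
      rw [show 77 = 11 * 7 by norm_num]; exact Nat.Coprime.mul_left k11 k7
    exact k77.dvd_of_dvd_mul_left (by rw [hidx]; norm_num)
  have hch : c * h = 5760 := by
    rw [hh] at hidx
    have : 77 * (c * h) = 443520 := by rw [← hidx]; ring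
    omega
  have h5h : ¬ 5 ∣ h := by
    rintro ⟨h', rfl⟩
    obtain ⟨c', hc'⟩ := h5t
    rw [hc'] at hch
    have : 25 * (c' * h') = 5760 := by rw [← hch]; ring
    omega
  refine ⟨z, c, h, hz, hz', nrm, hch, ?_, ?_, ?_⟩
  · intro i hi
    have h0 : (5 : ℤ) ∣ (D i : ℤ) := by exact_mod_cast hi
    have hx := h0.trans (hdvd i)
    have hx' : (5 : ℤ) ∣ 77 * ((h : ℤ) * z i) := by
      rw [hh] at hx; push_cast at hx; rwa [mul_assoc] at hx
    have h1 : (5 : ℤ) ∣ (h : ℤ) * z i := by omega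
    rcases (Int.prime_iff_natAbs_prime.2 (by norm_num : Nat.Prime (5 : ℤ).natAbs)).dvd_or_dvd h1
      with h2 | h2
    · exact absurd (Int.natCast_dvd_natCast.1 h2) h5h
    · exact h2
  · intro i hi
    have h0 : (99 : ℤ) ∣ (D i : ℤ) := by exact_mod_cast hi
    have hx := h0.trans (hdvd i)
    have hx' : (99 : ℤ) ∣ 77 * ((h : ℤ) * z i) := by
      rw [hh] at hx; push_cast at hx; rwa [mul_assoc] at hx
    omega
  · intro h0
    have h1 := Degrees.eq_one_of_charDegree hnp (F 0) (by rw [hD, h0])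
    have h2 := hz 0
    rw [h1] at h2
    have h3 : ((1 : ℤ) : ℂ) = ((z 0 : ℤ) : ℂ) := by
      rw [← h2]; simp
    exact_mod_cast h3.symm

set_option linter.unusedSimpArgs false in
set_option maxHeartbeats 1000000 in
theorem contra1 [IsSimpleGroup G] (hcard : Nat.card G = 443520)
    [Fact (Nat.Prime 11)] [Fact (Nat.Prime 7)]
    (P11 : Sylow 11 G) (P7 : Sylow 7 G)
    (c11 : centralizer (P11 : Set G) = (P11 : Subgroup G))
    (c7 : centralizer (P7 : Set G) = (P7 : Subgroup G))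
    (e11 : (centralizer (P11 : Set G)).relIndex (normalizer (P11 : Set G)) = 5)
    (e7 : (centralizer (P7 : Set G)).relIndex (normalizer (P7 : Set G)) = 3)
    (F : Fin 9 → IrrCharacter G) (hF : Function.Injective F) (D : Fin 9 → ℕ)
    (hD : ∀ i, charDegree (F i : G → ℂ) = D i)
    (hcov7 : ∀ χ : IrrCharacter G, ¬ 7 ∣ charDegree (χ : G → ℂ) → ∃ i, F i = χ)
    (hcov11 : ∀ χ : IrrCharacter G, ¬ 11 ∣ charDegree (χ : G → ℂ) → ∃ i, F i = χ)
    (d0 : D 0 = 1)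
    (d1 : D 1 = 21)
    (d2 : D 2 = 45)
    (d3 : D 3 = 45)
    (d4 : D 4 = 56)
    (d5 : D 5 = 126)
    (d6 : D 6 = 126)
    (d7 : D 7 = 55)
    (d8 : D 8 = 99)
    {t : G} (ht2 : orderOf t = 2) (h5t : 5 ∣ Nat.card (centralizer ({t} : Set G))) : False := by
  have h11 : Nat.card P11 = 11 :=
    Degrees.card_sylow_eq (m := 40320) (by rw [hcard]) (by norm_num) P11
  have h7 : Nat.card P7 = 7 :=
    Degrees.card_sylow_eq (m := 63360) (by rw [hcard]) (by norm_num) P7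
  have ht : t ^ 2 = 1 := by rw [← ht2]; exact pow_orderOf_eq_one t
  obtain ⟨z, c, h, hz, hz', nrm, hch, key5, key9, hz0⟩ :=
    prelim hcard P11 P7 c11 c7 F hF D hD ht2 h5t
  have hreg : ∀ p : ℕ, 2 < p → ¬ p ∣ orderOf t := fun p hp h => by
    rw [ht2] at h
    have := Nat.le_of_dvd (by norm_num) h
    omega
  have g7 : sg 7 1 = 1 ∧ sg 7 21 = 0 ∧ sg 7 45 = 0 ∧ sg 7 56 = 0 ∧ sg 7 126 = 0 ∧
      sg 7 55 = -1 ∧ sg 7 99 = 1 ∧ sg 7 210 = 0 ∧ sg 7 280 = 0 ∧ sg 7 105 = 0 ∧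
      sg 7 252 = 0 ∧ sx 7 3 45 = 1 := by decide
  have g11 : sg 11 1 = 1 ∧ sg 11 21 = -1 ∧ sg 11 45 = 1 ∧ sg 11 56 = 1 ∧ sg 11 126 = 0 ∧
      sg 11 55 = 0 ∧ sg 11 99 = 0 ∧ sg 11 210 = 1 ∧ sg 11 280 = 0 ∧ sg 11 105 = 0 ∧
      sg 11 252 = -1 ∧ sx 11 5 126 = 1 ∧ sx 11 5 280 = 1 ∧ sx 11 5 105 = -1 := by decide
  obtain ⟨b0, b1, b2, b3, b4, b5, b6, b7, b8, b9, b10, b11⟩ := g7
  obtain ⟨a0, a1, a2, a3, a4, a5, a6, a7, a8, a9, a10, a11, a12, a13⟩ := g11
  have z0 : z 0 = 1 := hz0 d0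
  have hj7 : sx 7 3 (D 2) ≠ 0 := by rw [d2, b11]; norm_num
  have hj7' : sx 7 3 (D 3) ≠ 0 := by rw [d3, b11]; norm_num
  have hx : sx 11 5 126 = 1 := by assumption
  have hj11 : sx 11 5 (D 5) ≠ 0 := by rw [d5, hx]; norm_num
  have hj11' : sx 11 5 (D 6) ≠ 0 := by rw [d6, hx]; norm_num
  have r7 := r1 F hF D hD 7 (by norm_num) P7 h7 c7 3 2 e7 (by norm_num) (by norm_num)
    (by norm_num) hcov7 2 hj7 (hreg 7 (by norm_num)) z hz
  have q7 := r2 F hF D hD 7 (by norm_num) P7 h7 c7 3 2 e7 (by norm_num) (by norm_num)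
    (by norm_num) (by decide) hcov7 2 hj7 ht ht z z hz hz
  have s7 := eq_exc F hF D hD 7 (by norm_num) P7 h7 c7 3 2 e7 (by norm_num) (by norm_num)
    (by norm_num) 2 3 hj7 hj7' (hreg 7 (by norm_num))
  have r11 := r1 F hF D hD 11 (by norm_num) P11 h11 c11 5 2 e11 (by norm_num) (by norm_num)
    (by norm_num) hcov11 5 hj11 (hreg 11 (by norm_num)) z hz
  have q11 := r2 F hF D hD 11 (by norm_num) P11 h11 c11 5 2 e11 (by norm_num) (by norm_num)
    (by norm_num) (by decide) hcov11 5 hj11 ht ht z z hz hz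
  have s11 := eq_exc F hF D hD 11 (by norm_num) P11 h11 c11 5 2 e11 (by norm_num) (by norm_num)
    (by norm_num) 5 6 hj11 hj11' (hreg 11 (by norm_num))
  rw [hz 2, hz 3] at s7
  rw [hz 5, hz 6] at s11
  have s7' : z 2 = z 3 := by exact_mod_cast s7
  have s11' : z 5 = z 6 := by exact_mod_cast s11
  have p1 := hz' 1
  have p2 := hz' 2
  have p4 := hz' 4
  have p7 := hz' 7
  rw [d1] at p1
  rw [d2] at p2
  rw [d4] at p4
  rw [d7] at p7
  have h5e : (5 : ℤ) ∣ z 7 := key5 7 (by rw [d7]; norm_num)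
  have h5u : (5 : ℤ) ∣ z 2 := key5 2 (by rw [d2]; norm_num)
  have h9b : (9 : ℤ) ∣ h * z 8 := key9 8 (by rw [d8])
  rw [sum9, d0, d1, d2, d3, d4, d5, d6, d7, d8] at r7 q7 r11 q11
  rw [sum9] at nrm
  simp only [b0, b1, b2, b3, b4, b5, b6, b7, b8, b9, b10, b11] at r7 q7
  simp only [a0, a1, a2, a3, a4, a5, a6, a7, a8, a9, a10, a11, a12, a13] at r11 q11
  clear hcov7 hcov11 hD hF key5 key9 hz0 hz hz' hreg e7 e11 c7 c11 s7 s11
  clear b0 b1 b2 b3 b4 b5 b6 b7 b8 b9 b10 b11 a0 a1 a2 a3 a4 a5 a6 a7 a8 a9 a10 a11 a12 a13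
  rw [← s7', z0] at r7 q7 r11 q11
  rw [← s11'] at r11 q11
  rw [← s7', ← s11', z0] at nrm
  push_cast at q7 q11 p1 p2 p4 p7
  obtain ⟨p1a, p1b⟩ := p1
  obtain ⟨p2a, p2b⟩ := p2
  obtain ⟨p4a, -⟩ := p4
  obtain ⟨p7a, p7b⟩ := p7
  replace p1b := p1b (by norm_num)
  replace p2b := p2b (by norm_num)
  replace p7b := p7b (by norm_num)
  generalize z 1 = a at *
  generalize z 2 = u at *
  generalize z 4 = g at *
  generalize z 5 = x at *
  generalize z 7 = e at *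
  generalize z 8 = b at *
  have R7 : 1 - e + b = u := by linarith
  have R11 : 1 - a + 2 * u + g = x := by linarith
  have Q7 : 495 - 9 * (e * e) + 5 * (b * b) = 11 * (u * u) := by
    have : ((495 - 9 * (e * e) + 5 * (b * b) : ℤ) : ℚ) = ((11 * (u * u) : ℤ) : ℚ) := by
      push_cast
      linear_combination 495 * q7
    exact_mod_cast this
  have Q11 : 2520 - 120 * (a * a) + 112 * (u * u) + 45 * (g * g) = 20 * (x * x) := by
    have : ((2520 - 120 * (a * a) + 112 * (u * u) + 45 * (g * g) : ℤ) : ℚ) =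
        ((20 * (x * x) : ℤ) : ℚ) := by
      push_cast
      linear_combination 2520 * q11
    exact_mod_cast this
  have pa := mul_self_nonneg a
  have pg := mul_self_nonneg g
  have px := mul_self_nonneg x
  have hfin := numA (rest := a * a + g * g + 2 * (x * x)) hch h5e h5u h9b
    p7a p2a p7b p2b R7 Q7 (by linarith) (by linarith)
  exact end12 (s := 32) chk1 (by norm_num) (by omega) p1a p1b R11 Q11 rfl hfin

set_option linter.unusedSimpArgs false in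
set_option maxHeartbeats 1000000 in
theorem contra2 [IsSimpleGroup G] (hcard : Nat.card G = 443520)
    [Fact (Nat.Prime 11)] [Fact (Nat.Prime 7)]
    (P11 : Sylow 11 G) (P7 : Sylow 7 G)
    (c11 : centralizer (P11 : Set G) = (P11 : Subgroup G))
    (c7 : centralizer (P7 : Set G) = (P7 : Subgroup G))
    (e11 : (centralizer (P11 : Set G)).relIndex (normalizer (P11 : Set G)) = 5)
    (e7 : (centralizer (P7 : Set G)).relIndex (normalizer (P7 : Set G)) = 3)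
    (F : Fin 9 → IrrCharacter G) (hF : Function.Injective F) (D : Fin 9 → ℕ)
    (hD : ∀ i, charDegree (F i : G → ℂ) = D i)
    (hcov7 : ∀ χ : IrrCharacter G, ¬ 7 ∣ charDegree (χ : G → ℂ) → ∃ i, F i = χ)
    (hcov11 : ∀ χ : IrrCharacter G, ¬ 11 ∣ charDegree (χ : G → ℂ) → ∃ i, F i = χ)
    (d0 : D 0 = 1)
    (d1 : D 1 = 21)
    (d2 : D 2 = 45)
    (d3 : D 3 = 45)
    (d4 : D 4 = 210)
    (d5 : D 5 = 280)
    (d6 : D 6 = 280)
    (d7 : D 7 = 55)
    (d8 : D 8 = 99)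
    {t : G} (ht2 : orderOf t = 2) (h5t : 5 ∣ Nat.card (centralizer ({t} : Set G))) : False := by
  have h11 : Nat.card P11 = 11 :=
    Degrees.card_sylow_eq (m := 40320) (by rw [hcard]) (by norm_num) P11
  have h7 : Nat.card P7 = 7 :=
    Degrees.card_sylow_eq (m := 63360) (by rw [hcard]) (by norm_num) P7
  have ht : t ^ 2 = 1 := by rw [← ht2]; exact pow_orderOf_eq_one t
  obtain ⟨z, c, h, hz, hz', nrm, hch, key5, key9, hz0⟩ :=
    prelim hcard P11 P7 c11 c7 F hF D hD ht2 h5t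
  have hreg : ∀ p : ℕ, 2 < p → ¬ p ∣ orderOf t := fun p hp h => by
    rw [ht2] at h
    have := Nat.le_of_dvd (by norm_num) h
    omega
  have g7 : sg 7 1 = 1 ∧ sg 7 21 = 0 ∧ sg 7 45 = 0 ∧ sg 7 56 = 0 ∧ sg 7 126 = 0 ∧
      sg 7 55 = -1 ∧ sg 7 99 = 1 ∧ sg 7 210 = 0 ∧ sg 7 280 = 0 ∧ sg 7 105 = 0 ∧
      sg 7 252 = 0 ∧ sx 7 3 45 = 1 := by decide
  have g11 : sg 11 1 = 1 ∧ sg 11 21 = -1 ∧ sg 11 45 = 1 ∧ sg 11 56 = 1 ∧ sg 11 126 = 0 ∧
      sg 11 55 = 0 ∧ sg 11 99 = 0 ∧ sg 11 210 = 1 ∧ sg 11 280 = 0 ∧ sg 11 105 = 0 ∧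
      sg 11 252 = -1 ∧ sx 11 5 126 = 1 ∧ sx 11 5 280 = 1 ∧ sx 11 5 105 = -1 := by decide
  obtain ⟨b0, b1, b2, b3, b4, b5, b6, b7, b8, b9, b10, b11⟩ := g7
  obtain ⟨a0, a1, a2, a3, a4, a5, a6, a7, a8, a9, a10, a11, a12, a13⟩ := g11
  have z0 : z 0 = 1 := hz0 d0
  have hj7 : sx 7 3 (D 2) ≠ 0 := by rw [d2, b11]; norm_num
  have hj7' : sx 7 3 (D 3) ≠ 0 := by rw [d3, b11]; norm_num
  have hx : sx 11 5 280 = 1 := by assumption
  have hj11 : sx 11 5 (D 5) ≠ 0 := by rw [d5, hx]; norm_num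
  have hj11' : sx 11 5 (D 6) ≠ 0 := by rw [d6, hx]; norm_num
  have r7 := r1 F hF D hD 7 (by norm_num) P7 h7 c7 3 2 e7 (by norm_num) (by norm_num)
    (by norm_num) hcov7 2 hj7 (hreg 7 (by norm_num)) z hz
  have q7 := r2 F hF D hD 7 (by norm_num) P7 h7 c7 3 2 e7 (by norm_num) (by norm_num)
    (by norm_num) (by decide) hcov7 2 hj7 ht ht z z hz hz
  have s7 := eq_exc F hF D hD 7 (by norm_num) P7 h7 c7 3 2 e7 (by norm_num) (by norm_num)
    (by norm_num) 2 3 hj7 hj7' (hreg 7 (by norm_num))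
  have r11 := r1 F hF D hD 11 (by norm_num) P11 h11 c11 5 2 e11 (by norm_num) (by norm_num)
    (by norm_num) hcov11 5 hj11 (hreg 11 (by norm_num)) z hz
  have q11 := r2 F hF D hD 11 (by norm_num) P11 h11 c11 5 2 e11 (by norm_num) (by norm_num)
    (by norm_num) (by decide) hcov11 5 hj11 ht ht z z hz hz
  have s11 := eq_exc F hF D hD 11 (by norm_num) P11 h11 c11 5 2 e11 (by norm_num) (by norm_num)
    (by norm_num) 5 6 hj11 hj11' (hreg 11 (by norm_num))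
  rw [hz 2, hz 3] at s7
  rw [hz 5, hz 6] at s11
  have s7' : z 2 = z 3 := by exact_mod_cast s7
  have s11' : z 5 = z 6 := by exact_mod_cast s11
  have p1 := hz' 1
  have p2 := hz' 2
  have p4 := hz' 4
  have p7 := hz' 7
  rw [d1] at p1
  rw [d2] at p2
  rw [d4] at p4
  rw [d7] at p7
  have h5e : (5 : ℤ) ∣ z 7 := key5 7 (by rw [d7]; norm_num)
  have h5u : (5 : ℤ) ∣ z 2 := key5 2 (by rw [d2]; norm_num)
  have h9b : (9 : ℤ) ∣ h * z 8 := key9 8 (by rw [d8])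
  rw [sum9, d0, d1, d2, d3, d4, d5, d6, d7, d8] at r7 q7 r11 q11
  rw [sum9] at nrm
  simp only [b0, b1, b2, b3, b4, b5, b6, b7, b8, b9, b10, b11] at r7 q7
  simp only [a0, a1, a2, a3, a4, a5, a6, a7, a8, a9, a10, a11, a12, a13] at r11 q11
  clear hcov7 hcov11 hD hF key5 key9 hz0 hz hz' hreg e7 e11 c7 c11 s7 s11
  clear b0 b1 b2 b3 b4 b5 b6 b7 b8 b9 b10 b11 a0 a1 a2 a3 a4 a5 a6 a7 a8 a9 a10 a11 a12 a13
  rw [← s7', z0] at r7 q7 r11 q11
  rw [← s11'] at r11 q11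
  rw [← s7', ← s11', z0] at nrm
  push_cast at q7 q11 p1 p2 p4 p7
  obtain ⟨p1a, p1b⟩ := p1
  obtain ⟨p2a, p2b⟩ := p2
  obtain ⟨p4a, -⟩ := p4
  obtain ⟨p7a, p7b⟩ := p7
  replace p1b := p1b (by norm_num)
  replace p2b := p2b (by norm_num)
  replace p7b := p7b (by norm_num)
  generalize z 1 = a at *
  generalize z 2 = u at *
  generalize z 4 = g at *
  generalize z 5 = x at *
  generalize z 7 = e at *
  generalize z 8 = b at *
  have R7 : 1 - e + b = u := by linarith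
  have R11 : 1 - a + 2 * u + g = x := by linarith
  have Q7 : 495 - 9 * (e * e) + 5 * (b * b) = 11 * (u * u) := by
    have : ((495 - 9 * (e * e) + 5 * (b * b) : ℤ) : ℚ) = ((11 * (u * u) : ℤ) : ℚ) := by
      push_cast
      linear_combination 495 * q7
    exact_mod_cast this
  have Q11 : 2520 - 120 * (a * a) + 112 * (u * u) + 12 * (g * g) = 9 * (x * x) := by
    have : ((2520 - 120 * (a * a) + 112 * (u * u) + 12 * (g * g) : ℤ) : ℚ) =
        ((9 * (x * x) : ℤ) : ℚ) := by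
      push_cast
      linear_combination 2520 * q11
    exact_mod_cast this
  have pa := mul_self_nonneg a
  have pg := mul_self_nonneg g
  have px := mul_self_nonneg x
  have hfin := numA (rest := a * a + g * g + 2 * (x * x)) hch h5e h5u h9b
    p7a p2a p7b p2b R7 Q7 (by linarith) (by linarith)
  exact end12 (s := 34) chk2 (by norm_num) (by omega) p1a p1b R11 Q11 rfl hfin

set_option linter.unusedSimpArgs false in
set_option maxHeartbeats 1000000 in
theorem contra3 [IsSimpleGroup G] (hcard : Nat.card G = 443520)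
    [Fact (Nat.Prime 11)] [Fact (Nat.Prime 7)]
    (P11 : Sylow 11 G) (P7 : Sylow 7 G)
    (c11 : centralizer (P11 : Set G) = (P11 : Subgroup G))
    (c7 : centralizer (P7 : Set G) = (P7 : Subgroup G))
    (e11 : (centralizer (P11 : Set G)).relIndex (normalizer (P11 : Set G)) = 5)
    (e7 : (centralizer (P7 : Set G)).relIndex (normalizer (P7 : Set G)) = 3)
    (F : Fin 9 → IrrCharacter G) (hF : Function.Injective F) (D : Fin 9 → ℕ)
    (hD : ∀ i, charDegree (F i : G → ℂ) = D i)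
    (hcov7 : ∀ χ : IrrCharacter G, ¬ 7 ∣ charDegree (χ : G → ℂ) → ∃ i, F i = χ)
    (hcov11 : ∀ χ : IrrCharacter G, ¬ 11 ∣ charDegree (χ : G → ℂ) → ∃ i, F i = χ)
    (d0 : D 0 = 1)
    (d1 : D 1 = 45)
    (d2 : D 2 = 45)
    (d3 : D 3 = 56)
    (d4 : D 4 = 105)
    (d5 : D 5 = 105)
    (d6 : D 6 = 252)
    (d7 : D 7 = 55)
    (d8 : D 8 = 99)
    {t : G} (ht2 : orderOf t = 2) (h5t : 5 ∣ Nat.card (centralizer ({t} : Set G))) : False := by
  have h11 : Nat.card P11 = 11 :=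
    Degrees.card_sylow_eq (m := 40320) (by rw [hcard]) (by norm_num) P11
  have h7 : Nat.card P7 = 7 :=
    Degrees.card_sylow_eq (m := 63360) (by rw [hcard]) (by norm_num) P7
  have ht : t ^ 2 = 1 := by rw [← ht2]; exact pow_orderOf_eq_one t
  obtain ⟨z, c, h, hz, hz', nrm, hch, key5, key9, hz0⟩ :=
    prelim hcard P11 P7 c11 c7 F hF D hD ht2 h5t
  have hreg : ∀ p : ℕ, 2 < p → ¬ p ∣ orderOf t := fun p hp h => by
    rw [ht2] at h
    have := Nat.le_of_dvd (by norm_num) h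
    omega
  have g7 : sg 7 1 = 1 ∧ sg 7 21 = 0 ∧ sg 7 45 = 0 ∧ sg 7 56 = 0 ∧ sg 7 126 = 0 ∧
      sg 7 55 = -1 ∧ sg 7 99 = 1 ∧ sg 7 210 = 0 ∧ sg 7 280 = 0 ∧ sg 7 105 = 0 ∧
      sg 7 252 = 0 ∧ sx 7 3 45 = 1 := by decide
  have g11 : sg 11 1 = 1 ∧ sg 11 21 = -1 ∧ sg 11 45 = 1 ∧ sg 11 56 = 1 ∧ sg 11 126 = 0 ∧
      sg 11 55 = 0 ∧ sg 11 99 = 0 ∧ sg 11 210 = 1 ∧ sg 11 280 = 0 ∧ sg 11 105 = 0 ∧
      sg 11 252 = -1 ∧ sx 11 5 126 = 1 ∧ sx 11 5 280 = 1 ∧ sx 11 5 105 = -1 := by decide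
  obtain ⟨b0, b1, b2, b3, b4, b5, b6, b7, b8, b9, b10, b11⟩ := g7
  obtain ⟨a0, a1, a2, a3, a4, a5, a6, a7, a8, a9, a10, a11, a12, a13⟩ := g11
  have z0 : z 0 = 1 := hz0 d0
  have hj7 : sx 7 3 (D 1) ≠ 0 := by rw [d1, b11]; norm_num
  have hj7' : sx 7 3 (D 2) ≠ 0 := by rw [d2, b11]; norm_num
  have hj11 : sx 11 5 (D 4) ≠ 0 := by rw [d4, a13]; norm_num
  have hj11' : sx 11 5 (D 5) ≠ 0 := by rw [d5, a13]; norm_num
  have r7 := r1 F hF D hD 7 (by norm_num) P7 h7 c7 3 2 e7 (by norm_num) (by norm_num)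
    (by norm_num) hcov7 1 hj7 (hreg 7 (by norm_num)) z hz
  have q7 := r2 F hF D hD 7 (by norm_num) P7 h7 c7 3 2 e7 (by norm_num) (by norm_num)
    (by norm_num) (by decide) hcov7 1 hj7 ht ht z z hz hz
  have s7 := eq_exc F hF D hD 7 (by norm_num) P7 h7 c7 3 2 e7 (by norm_num) (by norm_num)
    (by norm_num) 1 2 hj7 hj7' (hreg 7 (by norm_num))
  have r11 := r1 F hF D hD 11 (by norm_num) P11 h11 c11 5 2 e11 (by norm_num) (by norm_num)
    (by norm_num) hcov11 4 hj11 (hreg 11 (by norm_num)) z hz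
  have q11 := r2 F hF D hD 11 (by norm_num) P11 h11 c11 5 2 e11 (by norm_num) (by norm_num)
    (by norm_num) (by decide) hcov11 4 hj11 ht ht z z hz hz
  have s11 := eq_exc F hF D hD 11 (by norm_num) P11 h11 c11 5 2 e11 (by norm_num) (by norm_num)
    (by norm_num) 4 5 hj11 hj11' (hreg 11 (by norm_num))
  rw [hz 1, hz 2] at s7
  rw [hz 4, hz 5] at s11
  have s7' : z 1 = z 2 := by exact_mod_cast s7
  have s11' : z 4 = z 5 := by exact_mod_cast s11
  have p1 := hz' 1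
  have p3 := hz' 3
  have p6 := hz' 6
  have p7 := hz' 7
  rw [d1] at p1
  rw [d3] at p3
  rw [d6] at p6
  rw [d7] at p7
  have h5e : (5 : ℤ) ∣ z 7 := key5 7 (by rw [d7]; norm_num)
  have h5u : (5 : ℤ) ∣ z 1 := key5 1 (by rw [d1]; norm_num)
  have h9b : (9 : ℤ) ∣ h * z 8 := key9 8 (by rw [d8])
  rw [sum9, d0, d1, d2, d3, d4, d5, d6, d7, d8] at r7 q7 r11 q11
  rw [sum9] at nrm
  simp only [b0, b1, b2, b3, b4, b5, b6, b7, b8, b9, b10, b11] at r7 q7
  simp only [a0, a1, a2, a3, a4, a5, a6, a7, a8, a9, a10, a11, a12, a13] at r11 q11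
  clear hcov7 hcov11 hD hF key5 key9 hz0 hz hz' hreg e7 e11 c7 c11 s7 s11
  clear b0 b1 b2 b3 b4 b5 b6 b7 b8 b9 b10 b11 a0 a1 a2 a3 a4 a5 a6 a7 a8 a9 a10 a11 a12 a13
  rw [← s7', z0] at r7 q7 r11 q11
  rw [← s11'] at r11 q11
  rw [← s7', ← s11', z0] at nrm
  push_cast at q7 q11 p1 p3 p6 p7
  obtain ⟨p1a, p1b⟩ := p1
  obtain ⟨p3a, -⟩ := p3
  obtain ⟨p6a, -⟩ := p6
  obtain ⟨p7a, p7b⟩ := p7
  replace p1b := p1b (by norm_num)
  replace p7b := p7b (by norm_num)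
  generalize z 1 = u at *
  generalize z 3 = c' at *
  generalize z 4 = w at *
  generalize z 6 = v at *
  generalize z 7 = e at *
  generalize z 8 = b at *
  have R7 : 1 - e + b = u := by linarith
  have R11 : v - c' - 1 - 2 * u = w := by linarith
  have Q7 : 495 - 9 * (e * e) + 5 * (b * b) = 11 * (u * u) := by
    have : ((495 - 9 * (e * e) + 5 * (b * b) : ℤ) : ℚ) = ((11 * (u * u) : ℤ) : ℚ) := by
      push_cast
      linear_combination 495 * q7
    exact_mod_cast this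
  have Q11 : 2520 + 112 * (u * u) + 45 * (c' * c') - 10 * (v * v) = -24 * (w * w) := by
    have : ((2520 + 112 * (u * u) + 45 * (c' * c') - 10 * (v * v) : ℤ) : ℚ) =
        ((-24 * (w * w) : ℤ) : ℚ) := by
      push_cast
      linear_combination 2520 * q11
    exact_mod_cast this
  have pa := mul_self_nonneg c'
  have pg := mul_self_nonneg v
  have px := mul_self_nonneg w
  have hfin := numA (rest := c' * c' + v * v + 2 * (w * w)) hch h5e h5u h9b
    p7a p1a p7b p1b R7 Q7 (by linarith) (by linarith)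
  exact end3 p3a p6a R11 Q11 rfl hfin

end Cfsg.Agent.M22.FiveA
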