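import Cfsg.Agent.M22.FiveLists
import Cfsg.Agent.S0165

/-!
# The Sylow 5-subgroups of a simple group of order 443520: mode B

If the degrees in the principal 7-block are `1, 55, 66, 66, 120` then the class constant
`(y, y; x)` for `y` of order 5 and `x` of order 7 is `17472 / k^2` with `|C(y)| = 5 k`.
-/

set_option autoImplicit false

namespace Cfsg.Agent.M22.FiveB

open Cfsg Subgroup Cfsg.Agent.Characters.Core Cfsg.Agent.SmallSimple.InvolColumn
open Cfsg.Agent.M22.Residue Cfsg.Agent.M22.ResiduePartial Cfsg.Agent.M22.NonSelfCent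
open Cfsg.Agent.SmallSimple.PrimeLocal
open scoped ComplexConjugate

universe u
variable {G : Type u} [Group G] [Finite G]

/-- Characters of degree divisible by `p` vanish on `p`-singular elements if `p^2 ∤ |G|`. -/
theorem vanish {p : ℕ} (hp : p.Prime) (h1 : p ∣ Nat.card G) (h2 : ¬ p ^ 2 ∣ Nat.card G)
    (χ : IrrCharacter G) (hχ : p ∣ charDegree (χ : G → ℂ)) {g : G} (hg : p ∣ orderOf g) :
    (χ : G → ℂ) g = 0 := by
  have hdeg := Cfsg.Agent.Blocks.Basic.irr_one_eq_charDegree χ.2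
  obtain ⟨χ, n, ρ, hρ, rfl⟩ := χ
  simp only at hdeg hχ ⊢
  rw [ρ.char_one] at hdeg
  have h3 : Module.finrank ℂ (Fin n → ℂ) = charDegree ρ.character := by exact_mod_cast hdeg
  have := hρ
  exact Cfsg.Agent.S0165.result ρ p 1 hp (by rwa [pow_one]) h2 (by rw [pow_one, h3]; exact hχ) g hg

/-- Arithmetic of `e` and `k` for the prime 5. -/
theorem cases_ek {e k o : ℕ} (he : e ∣ 4) (he1 : 1 < e)
    (hn : 443520 = (1 + 5 * o) * (5 * e * k)) (hk : k = 1 ∨ k = 2 ∨ k = 4 ∨ k = 8) :
    (e = 4 ∧ k = 1) ∨ (e = 2 ∧ k = 2) := by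
  have he' : e = 2 ∨ e = 4 := by
    have h1 : e ≤ 4 := Nat.le_of_dvd (by norm_num) he
    interval_cases e <;> omega
  rcases he' with rfl | rfl <;> rcases hk with rfl | rfl | rfl | rfl <;> omega

theorem dvd_cases {k n : ℕ} (h : k * k * n = 17472) : k = 1 ∨ k = 2 ∨ k = 4 ∨ k = 8 := by
  have hk : k ≤ 132 := by
    by_contra hcon
    push Not at hcon
    have hn : 0 < n := by
      rcases Nat.eq_zero_or_pos n with h0 | h0
      · subst h0; omega
      · exact h0
    have : 133 * 133 ≤ k * k := Nat.mul_le_mul hcon hcon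
    nlinarith
  have h2 : 17472 % (k * k) = 0 := Nat.mod_eq_zero_of_dvd ⟨n, h.symm⟩
  have h3 : ∀ k ≤ 132, 17472 % (k * k) = 0 → k = 1 ∨ k = 2 ∨ k = 4 ∨ k = 8 := by decide +kernel
  exact h3 k hk h2

/-- A sum over five indices. -/
theorem sum5 {M : Type*} [AddCommMonoid M] (F : Fin 5 → M) :
    ∑ i, F i = F 0 + F 1 + F 2 + F 3 + F 4 := by
  simp only [Fin.sum_univ_succ, Fin.sum_univ_zero, add_zero]
  simp only [add_assoc]
  rfl

theorem mem_of_filter [Fintype (IrrCharacter G)] {q : ℕ} {m : List ℕ}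
    (h : (m : Multiset ℕ) = (Finset.univ.val.map
      (fun χ : IrrCharacter G => charDegree (χ : G → ℂ))).filter fun d => ¬ q ∣ d)
    (χ : IrrCharacter G) : q ∣ charDegree (χ : G → ℂ) ∨ charDegree (χ : G → ℂ) ∈ m := by
  by_cases hq : q ∣ charDegree (χ : G → ℂ)
  · exact Or.inl hq
  · right
    rw [← Multiset.mem_coe, h, Multiset.mem_filter, Multiset.mem_map]
    exact ⟨⟨χ, Finset.mem_univ _, rfl⟩, hq⟩

/-- Mode B: the order of `C(P5)`. -/
theorem card_compl [IsSimpleGroup G] [Fintype (IrrCharacter G)] (hcard : Nat.card G = 443520)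
    [Fact (Nat.Prime 7)] (P7 : Sylow 7 G) (c7 : centralizer (P7 : Set G) = (P7 : Subgroup G))
    (e7 : (centralizer (P7 : Set G)).relIndex (normalizer (P7 : Set G)) = 3)
    (hb : (([1, 55, 66, 66, 120] : List ℕ) : Multiset ℕ) = (Finset.univ.val.map
      (fun χ : IrrCharacter G => charDegree (χ : G → ℂ))).filter fun d => ¬ 7 ∣ d)
    {y : G} (hy : orderOf y = 5) {k : ℕ} (hk : Nat.card (centralizer ({y} : Set G)) = 5 * k) :
    k = 1 ∨ k = 2 ∨ k = 4 ∨ k = 8 := by
  have hnp : ¬ (Nat.card G).Prime := by rw [hcard]; norm_num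
  have h7 : Nat.card P7 = 7 :=
    Degrees.card_sylow_eq (m := 63360) (by rw [hcard]) (by norm_num) P7
  obtain ⟨F, hF, hFD, hcov⟩ : ∃ F : Fin 5 → IrrCharacter G, Function.Injective F ∧
      (∀ i : Fin 5, charDegree (F i : G → ℂ) = [1, 55, 66, 66, 120].get i) ∧
      ∀ χ : IrrCharacter G, ¬ 7 ∣ charDegree (χ : G → ℂ) → ∃ i, F i = χ :=
    exists_partial_enum 7 [1, 55, 66, 66, 120] hb
  set D : Fin 5 → ℕ := fun i => [1, 55, 66, 66, 120].get i with hDdef
  have hD : ∀ i, charDegree (F i : G → ℂ) = D i := hFD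
  have d0 : D 0 = 1 := rfl
  have d1 : D 1 = 55 := rfl
  have d2 : D 2 = 66 := rfl
  have d3 : D 3 = 66 := rfl
  have d4 : D 4 = 120 := rfl
  have hyreg : ¬ 7 ∣ orderOf y := by rw [hy]; norm_num
  have h5G : 5 ∣ Nat.card G := by rw [hcard]; norm_num
  have h25G : ¬ 5 ^ 2 ∣ Nat.card G := by rw [hcard]; norm_num
  have v0 : (F 0 : G → ℂ) y = 1 := by
    rw [Degrees.eq_one_of_charDegree hnp (F 0) (by rw [hD, d0])]; rfl
  have v1 : (F 1 : G → ℂ) y = 0 :=
    vanish (by norm_num) h5G h25G (F 1) (by rw [hD, d1]; norm_num) (by rw [hy])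
  have v4 : (F 4 : G → ℂ) y = 0 :=
    vanish (by norm_num) h5G h25G (F 4) (by rw [hD, d4]; norm_num) (by rw [hy])
  have g7 : sg 7 1 = 1 ∧ sg 7 55 = -1 ∧ sg 7 66 = 0 ∧ sg 7 120 = 1 ∧ sx 7 3 66 = 1 := by
    decide
  obtain ⟨b0, b1, b2, b3, b4⟩ := g7
  have hj : sx 7 3 (D 2) ≠ 0 := by rw [d2, b4]; norm_num
  have e1 := r1c F hF D hD 7 (by norm_num) P7 h7 c7 3 2 e7 (by norm_num) (by norm_num)
    (by norm_num) hcov 2 hj hyreg
  rw [sum5, d0, d1, d2, d3, d4, b0, b1, b2, b3, b4, v0, v1, v4] at e1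
  have v2 : (F 2 : G → ℂ) y = 1 := by
    push_cast at e1
    linear_combination -e1
  obtain ⟨n, hn⟩ := exists_nat_classMul F hF D hD 7 (by norm_num) P7 h7 c7 3 2 e7 (by norm_num)
    (by norm_num) (by norm_num) hcov 2 hj hyreg hyreg
  rw [sum5, d0, d1, d2, d3, d4, b0, b1, b2, b3, b4, v0, v1, v4, v2, hcard] at hn
  have hidx := (centralizer ({y} : Set G)).card_mul_index
  rw [hk, hcard] at hidx
  set m := (centralizer ({y} : Set G)).index with hm
  have hkm : k * m = 88704 := by
    have : 5 * (k * m) = 5 * 88704 := by rw [← mul_assoc, hidx]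
    omega
  have h2 : m * m * 65 = 66 * 443520 * n := by
    have h3 : (((m * m * 65 : ℕ) : ℕ) : ℂ) = ((66 * 443520 * n : ℕ) : ℂ) := by
      push_cast
      push_cast at hn
      linear_combination 66 * hn
    exact_mod_cast h3
  have h4 : k * k * n = 17472 := by
    have h5 : (k * m) * (k * m) * 65 = 66 * 443520 * (k * k * n) := by
      calc (k * m) * (k * m) * 65 = k * k * (m * m * 65) := by ring
        _ = k * k * (66 * 443520 * n) := by rw [h2]
        _ = 66 * 443520 * (k * k * n) := by ring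
    rw [hkm] at h5
    omega
  exact dvd_cases h4

/-- Mode B: the Sylow 5-subgroups. -/
theorem sylow_five_B [IsSimpleGroup G] [Fintype (IrrCharacter G)] (hcard : Nat.card G = 443520)
    [Fact (Nat.Prime 7)] [Fact (Nat.Prime 5)] (P7 : Sylow 7 G)
    (c7 : centralizer (P7 : Set G) = (P7 : Subgroup G))
    (e7 : (centralizer (P7 : Set G)).relIndex (normalizer (P7 : Set G)) = 3)
    (hb : (([1, 55, 66, 66, 120] : List ℕ) : Multiset ℕ) = (Finset.univ.val.map
      (fun χ : IrrCharacter G => charDegree (χ : G → ℂ))).filter fun d => ¬ 7 ∣ d)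
    (P : Sylow 5 G) : centralizer (P : Set G) = (P : Subgroup G) ∧
      (centralizer (P : Set G)).relIndex (normalizer (P : Set G)) = 4 := by
  classical
  have hG : ¬ (Nat.card G).Prime := by rw [hcard]; norm_num
  have hGc : ¬ IsMulCommutative G := by
    intro h
    obtain ⟨a, b, hab⟩ := not_comm_of_not_prime hG
    exact hab (h.is_comm.comm a b)
  have hP : Nat.card P = 5 := Degrees.card_sylow_eq (m := 88704) (by rw [hcard]) (by norm_num) P
  obtain ⟨e, K, hloc⟩ := exists_local hGc (p := 5) (by rw [hcard]; norm_num)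
    (by rw [hcard]; norm_num) P
  obtain ⟨o, ho1, ho2⟩ := hloc.card_sylow hGc (by norm_num) hP
  have heq := hloc.card_eq
  rw [hcard, ho1] at heq
  have hrel : (centralizer (P : Set G)).relIndex (normalizer (P : Set G)) = e := by
    have h1 : Nat.card (normalizer (P : Set G)) = Nat.card (centralizer (P : Set G)) *
        (centralizer (P : Set G)).relIndex (normalizer (P : Set G)) :=
      Cfsg.Agent.SmallSimple.BurnsideNC.card_normalizer_eq (P : Subgroup G)
    have h2 := hloc.card_normalizer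
    have h3 := hloc.card_centralizer
    rw [h1, h3] at h2
    have h4 : 0 < Nat.card K := Nat.card_pos
    have h5 : 5 * Nat.card K * (centralizer (P : Set G)).relIndex (normalizer (P : Set G)) =
        5 * Nat.card K * e := by rw [h2]; ring
    exact Nat.eq_of_mul_eq_mul_left (by omega) h5
  obtain ⟨y, hyP, hy1⟩ : ∃ y ∈ P, y ≠ 1 := by
    have h5 : 1 < Nat.card P := by rw [hP]; norm_num
    have : Nontrivial (P : Subgroup G) := (Finite.one_lt_card_iff_nontrivial).1 h5
    obtain ⟨x, hx⟩ := exists_ne (1 : (P : Subgroup G))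
    exact ⟨x, x.2, fun h => hx (Subtype.ext h)⟩
  have hy : orderOf y = 5 := by
    have h1 : orderOf y ∣ 5 := by
      have := orderOf_dvd_natCard (⟨y, hyP⟩ : (P : Subgroup G))
      rw [hP] at this
      simpa using this
    rcases (Nat.dvd_prime (by norm_num)).1 h1 with h2 | h2
    · exact absurd (orderOf_eq_one_iff.1 h2) hy1
    · exact h2
  have hCy : centralizer ({y} : Set G) = centralizer (P : Set G) :=
    Cfsg.Agent.Blocks.CyclicOrtho.centralizer_eq P hP hyP hy1
  have hk := card_compl hcard P7 c7 e7 hb hy (k := Nat.card K) (by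
    rw [hCy]; exact hloc.card_centralizer)
  rcases cases_ek hloc.dvd_pred hloc.one_lt heq hk with ⟨rfl, hK1⟩ | ⟨rfl, hK2⟩
  · refine ⟨?_, hrel⟩
    have h3 := hloc.card_centralizer
    rw [hK1, mul_one] at h3
    have h4 : (P : Subgroup G) ≤ centralizer (P : Set G) := by
      intro x hx
      rw [mem_centralizer_iff]
      intro y hy
      exact comm_of_card_prime (by norm_num) (P : Subgroup G) hP y hy x hx
    exact (Subgroup.eq_of_le_of_card_ge h4 (by rw [h3]; exact hP.ge)).symm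
  exfalso
  have hKne : K ≠ ⊥ := by
    intro h
    rw [h, Subgroup.card_bot] at hK2
    omega
  have hcop : Nat.Coprime 5 (Nat.card K) :=
    (Nat.Prime.coprime_iff_not_dvd (by norm_num)).2 hloc.not_dvd
  obtain ⟨NE, X, ε, d, B⟩ := exists_kblock hG 5 (by norm_num) P hP 2 2 hrel (by norm_num)
  have hX : X.Nonempty := by
    rw [← Finset.card_pos, B.card_X]; norm_num
  obtain ⟨Θ, hΘ⟩ := hX
  have hrel1 := B.rel_one Θ hΘ
  have hone : charDegree (((⟨1, isIrr_one⟩ : IrrCharacter G)) : G → ℂ) = 1 := by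
    apply Cfsg.Agent.Blocks.Basic.charDegree_of_eq
    simp
  rw [← Finset.add_sum_erase NE _ B.one_mem, B.eps_one, hone] at hrel1
  have hNEd := B.ne_data K hloc.le_centralizer hcop hKne
  have h1 : (NE.erase ⟨1, isIrr_one⟩).card = 1 := by
    rw [Finset.card_erase_of_mem B.one_mem, B.card_NE]
  obtain ⟨χ, hχ⟩ := Finset.card_eq_one.1 h1
  rw [hχ, Finset.sum_singleton] at hrel1
  have hχ' : χ ∈ NE.erase ⟨1, isIrr_one⟩ := by rw [hχ]; exact Finset.mem_singleton_self χ
  obtain ⟨a, ha, hdeg, -⟩ := hNEd χ (Finset.mem_of_mem_erase hχ') (Finset.ne_of_mem_erase hχ')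
  have hDm := mem_of_filter hb χ
  have hFm := mem_of_filter hb Θ
  simp only [List.mem_cons, List.not_mem_nil, or_false] at hDm hFm
  have hpos : 0 < charDegree (Θ : G → ℂ) := by
    have h := Cfsg.Agent.Blocks.Basic.irr_one_ne_zero Θ.2
    rw [Cfsg.Agent.Blocks.Basic.irr_one_eq_charDegree Θ.2] at h
    exact Nat.pos_of_ne_zero fun h0 => h (by rw [h0, Nat.cast_zero])
  generalize charDegree (χ : G → ℂ) = D at *
  generalize charDegree (Θ : G → ℂ) = F at *
  rcases hdeg with ⟨hε, hdeg⟩ | ⟨hε, hdeg⟩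
  · rw [hε] at hrel1
    have h4 : F = D + 1 := by
      rcases B.hd with hd | hd <;> rw [hd] at hrel1 <;> push_cast at hrel1 <;> omega
    omega
  · rw [hε] at hrel1
    have h4 : F = D - 1 := by
      rcases B.hd with hd | hd <;> rw [hd] at hrel1 <;> push_cast at hrel1 <;> omega
    omega

end Cfsg.Agent.M22.FiveB
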