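import Cfsg.Agent.M22.SevenPair

/-!
# A simple group of order 443520: degrees not divisible by 7 or 11
-/

set_option autoImplicit false

namespace Cfsg.Agent.M22.FiveLists

open Cfsg Subgroup Cfsg.Agent.Characters.Core
open Cfsg.Agent.M22.DegreesComb Cfsg.Agent.M22.DegreesEnd Cfsg.Agent.M22.SevenPair
open Cfsg.Agent.Blocks.Basic (irr_one_eq_charDegree)

universe u
variable {G : Type u} [Group G] [Finite G]

/-- The pairs of lists: mode A or mode B. -/
def good (a b : List ℕ) : Bool :=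
  (b.isPerm [1, 45, 45, 55, 99] &&
    ([[1, 21, 45, 45, 56, 126, 126], [1, 21, 45, 45, 210, 280, 280],
      [1, 45, 45, 56, 105, 105, 252]].any fun c => c.isPerm a)) ||
  b.isPerm [1, 55, 66, 66, 120]

/-- The check of compatible pairs. -/
def chkAB : Bool :=
  L11.all fun a => L7.all fun b =>
    !((a.filter fun d => !(Nat.beq (d % 7) 0)).isPerm (b.filter fun d => !(Nat.beq (d % 11) 0))) ||
      allowed.all fun q => !(b.contains q.1.natAbs) || !(b.contains q.2.natAbs) || good a b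

theorem chkAB_true : chkAB = true := by decide +kernel

theorem exists_lists [IsSimpleGroup G] [Fintype (IrrCharacter G)] (hcard : Nat.card G = 443520)
    [Fact (Nat.Prime 11)] [Fact (Nat.Prime 7)]
    (P11 : Sylow 11 G) (P7 : Sylow 7 G)
    (c11 : centralizer (P11 : Set G) = (P11 : Subgroup G))
    (c7 : centralizer (P7 : Set G) = (P7 : Subgroup G))
    (e11 : (centralizer (P11 : Set G)).relIndex (normalizer (P11 : Set G)) = 5)
    (e7 : (centralizer (P7 : Set G)).relIndex (normalizer (P7 : Set G)) = 3) :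
    ∃ a b : List ℕ, good a b = true ∧
      (a : Multiset ℕ) = (Finset.univ.val.map
        (fun χ : IrrCharacter G => charDegree (χ : G → ℂ))).filter (fun d => ¬ 11 ∣ d) ∧
      (b : Multiset ℕ) = (Finset.univ.val.map
        (fun χ : IrrCharacter G => charDegree (χ : G → ℂ))).filter (fun d => ¬ 7 ∣ d) := by
  classical
  have hG : ¬ (Nat.card G).Prime := by rw [hcard]; norm_num
  have h11 : Nat.card P11 = 11 :=
    Degrees.card_sylow_eq (m := 40320) (by rw [hcard]) (by norm_num) P11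
  have h7 : Nat.card P7 = 7 :=
    Degrees.card_sylow_eq (m := 63360) (by rw [hcard]) (by norm_num) P7
  have b11 := Degrees.bdata_sylow 11 (by norm_num) P11 h11 c11 5 2 e11 (by norm_num)
  have b7 := Degrees.bdata_sylow 7 (by norm_num) P7 h7 c7 3 2 e7 (by norm_num)
  have hsq : ∑ χ : IrrCharacter G, charDegree (χ : G → ℂ) ^ 2 = 443520 := by
    have h := Cfsg.Agent.CharDeep.PowerDegrees.sum_sq (G := G)
    rw [hcard] at h
    have h2 : ∑ χ : IrrCharacter G, (χ : G → ℂ) 1 ^ 2 =
        ((∑ χ : IrrCharacter G, charDegree (χ : G → ℂ) ^ 2 : ℕ) : ℂ) := by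
      push_cast
      refine Finset.sum_congr rfl fun χ _ => ?_
      rw [irr_one_eq_charDegree χ.2]
    rw [h2] at h
    exact_mod_cast h
  have h0 : charDegree (((⟨1, isIrr_one⟩ : IrrCharacter G)) : G → ℂ) = 1 := by
    apply Cfsg.Agent.Blocks.Basic.charDegree_of_eq
    simp
  have hdvd : ∀ χ : IrrCharacter G, charDegree (χ : G → ℂ) ∣ 443520 :=
    fun χ => hcard ▸ Cfsg.Agent.Blocks.Knorr.charDegree_dvd χ.2
  obtain ⟨a, ha, hae⟩ := block_list (ι := IrrCharacter G)
    (deg := fun χ : IrrCharacter G => charDegree (χ : G → ℂ)) (i0 := ⟨1, isIrr_one⟩) h0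
    (fun χ h => Degrees.eq_one_of_charDegree hG χ h) hdvd hsq 11 5 2 C11 E11 L11 (by decide)
    (by decide) (by decide +kernel) (by decide +kernel) (by norm_num) chk11 b11
  obtain ⟨b, hb, hbe⟩ := block_list (ι := IrrCharacter G)
    (deg := fun χ : IrrCharacter G => charDegree (χ : G → ℂ)) (i0 := ⟨1, isIrr_one⟩) h0
    (fun χ h => Degrees.eq_one_of_charDegree hG χ h) hdvd hsq 7 3 2 C7 E7 L7 (by decide)
    (by decide) (by decide +kernel) (by decide +kernel) (by norm_num) chk7 b7
  refine ⟨a, b, ?_, hae, hbe⟩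
  obtain ⟨D1, D2, hD, χ₁, χ₂, Θ, hχ₁, hχ₂, -⟩ := seven_pair hcard P7 c7 e7
  have hall := List.all_eq_true.1 (List.all_eq_true.1 chkAB_true a ha) b hb
  rw [Bool.or_eq_true, Bool.not_eq_true'] at hall
  have hab : ((a.filter fun d => !(Nat.beq (d % 7) 0)).isPerm
      (b.filter fun d => !(Nat.beq (d % 11) 0))) = true := by
    rw [List.isPerm_iff, ← Multiset.coe_eq_coe, filt_eq 7, filt_eq 11,
      hae, hbe, Multiset.filter_comm]
  rcases hall with hall | hall
  · rw [hab] at hall; exact absurd hall (by decide)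
  have hq := List.all_eq_true.1 hall (D1, D2) hD
  have hmem : ∀ (χ : IrrCharacter G) (D : ℤ), (charDegree (χ : G → ℂ) : ℤ) = |D| →
      ¬ 7 ∣ D.natAbs → b.contains D.natAbs = true := by
    intro χ D hχ h7D
    rw [List.contains_iff_mem, ← Multiset.mem_coe, hbe, Multiset.mem_filter, Multiset.mem_map]
    refine ⟨⟨χ, Finset.mem_univ _, ?_⟩, h7D⟩
    rw [Int.abs_eq_natAbs] at hχ
    exact_mod_cast hχ
  have hn7 : ∀ q ∈ allowed, ¬ 7 ∣ q.1.natAbs ∧ ¬ 7 ∣ q.2.natAbs := by decide
  have m1 := hmem χ₁ D1 hχ₁ (hn7 _ hD).1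
  have m2 := hmem χ₂ D2 hχ₂ (hn7 _ hD).2
  simp only [m1, m2, Bool.not_true, Bool.false_or] at hq
  exact hq

end Cfsg.Agent.M22.FiveLists
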