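import Cfsg.Agent.M22.KillC

/-!
# A simple group of order 443520: the degree list is B
-/

set_option autoImplicit false

namespace Cfsg.Agent.M22.KillACD

open Cfsg Subgroup Cfsg.Agent.Characters.Core
open Cfsg.Agent.M22.Residue Cfsg.Agent.M22.AllPlus Cfsg.Agent.M22.DegreesEnd
open scoped commutatorElement

universe u
variable {G : Type u} [Group G] [Finite G]

/-- A simple group of composite order is perfect. -/
theorem commutator_eq_top [IsSimpleGroup G] (hG : ¬ (Nat.card G).Prime) : commutator G = ⊤ := by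
  rcases IsSimpleGroup.eq_bot_or_eq_top_of_normal (commutator G) inferInstance with h | h
  · exfalso
    have hcomm : ∀ a b : G, a * b = b * a := by
      intro a b
      have h1 : ⁅a, b⁆ ∈ commutator G := commutator_mem_commutator (mem_top a) (mem_top b)
      rw [h, mem_bot, commutatorElement_eq_one_iff_mul_comm] at h1
      exact h1
    let inst : CommGroup G := { (inferInstance : Group G) with mul_comm := hcomm }
    have : @IsSimpleGroup G inst.toGroup := by assumption
    exact hG (@IsSimpleGroup.prime_card G inst this)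
  · exact h

/-- Cases A and D are impossible. -/
theorem killAD [IsSimpleGroup G] (hcard : Nat.card G = 443520)
    [Fact (Nat.Prime 7)] (P7 : Sylow 7 G)
    (c7 : centralizer (P7 : Set G) = (P7 : Subgroup G))
    (e7 : (centralizer (P7 : Set G)).relIndex (normalizer (P7 : Set G)) = 3)
    (L : List ℕ) (j : Fin 12) (hj : sx 7 3 (L.getD j 0) = 1)
    (hL : ∀ i : Fin 12, 0 ≤ sg 7 (L.getD i 0))
    (f : Fin 12 ≃ IrrCharacter G) (hf : ∀ i : Fin 12, charDegree (f i : G → ℂ) = L.getD i 0) :
    False := by
  have h7 : Nat.card P7 = 7 :=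
    Degrees.card_sylow_eq (m := 63360) (by rw [hcard]) (by norm_num) P7
  obtain ⟨t, ht2⟩ := exists_prime_orderOf_dvd_card' (G := G) 2 (by rw [hcard]; norm_num)
  have ht : t ^ 2 = 1 := by rw [← ht2]; exact pow_orderOf_eq_one t
  have ht1 : t ≠ 1 := by
    rintro rfl
    rw [orderOf_one] at ht2
    norm_num at ht2
  exact not_all_pos (commutator_eq_top (by rw [hcard]; norm_num)) f (fun i => L.getD i 0) hf 7
    (by norm_num) P7 h7 c7 3 2 e7 (by norm_num) (by norm_num) (by norm_num) (by decide) j hj hL
    ht ht1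

/-- The degrees of the irreducible characters. -/
theorem exists_enum_B [IsSimpleGroup G] (hcard : Nat.card G = 443520)
    [Fact (Nat.Prime 11)] [Fact (Nat.Prime 7)] [Fact (Nat.Prime 5)]
    (P11 : Sylow 11 G) (P7 : Sylow 7 G) (P5 : Sylow 5 G)
    (c11 : centralizer (P11 : Set G) = (P11 : Subgroup G))
    (c7 : centralizer (P7 : Set G) = (P7 : Subgroup G))
    (c5 : centralizer (P5 : Set G) = (P5 : Subgroup G))
    (e11 : (centralizer (P11 : Set G)).relIndex (normalizer (P11 : Set G)) = 5)
    (e7 : (centralizer (P7 : Set G)).relIndex (normalizer (P7 : Set G)) = 3)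
    (e5 : (centralizer (P5 : Set G)).relIndex (normalizer (P5 : Set G)) = 4) :
    ∃ f : Fin 12 ≃ IrrCharacter G, ∀ i : Fin 12, charDegree (f i : G → ℂ) = LB.getD i 0 := by
  obtain ⟨L, hL, f, hf⟩ := Degrees.degree_list hcard P11 P7 P5 c11 c7 c5 e11 e7 e5
  simp only [List.mem_cons, List.not_mem_nil, or_false] at hL
  rcases hL with rfl | rfl | rfl | rfl
  · exact (killAD hcard P7 c7 e7 LA 8 (by decide) (by decide) f hf).elim
  · exact ⟨f, hf⟩
  · exact (KillC.killC (commutator_eq_top (by rw [hcard]; norm_num)) hcard P11 P7 P5 c11 c7 c5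
      e11 e7 e5 f hf).elim
  · exact (killAD hcard P7 c7 e7 LD 7 (by decide) (by decide) f hf).elim

end Cfsg.Agent.M22.KillACD
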