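import Cfsg.Agent.M22.AllPlus
import Cfsg.Agent.M22.Degrees

/-!
# A simple group of order 443520: the degree lists A, C and D are impossible
-/

set_option autoImplicit false

namespace Cfsg.Agent.M22.KillC

open Cfsg Subgroup Cfsg.Agent.Characters.Core Cfsg.Agent.SmallSimple.InvolColumn
open Cfsg.Agent.M22.Residue Cfsg.Agent.M22.AllPlus Cfsg.Agent.M22.DegreesEnd
open scoped ComplexConjugate

universe u
variable {G : Type u} [Group G] [Finite G]

/-- A sum over twelve indices. -/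
theorem sum12 {M : Type*} [AddCommMonoid M] (F : Fin 12 → M) :
    ∑ i, F i = F 0 + F 1 + F 2 + F 3 + F 4 + F 5 + F 6 + F 7 + F 8 + F 9 + F 10 + F 11 := by
  simp only [Fin.sum_univ_succ, Fin.sum_univ_zero, add_zero]
  simp only [add_assoc]
  rfl

/-- The order of the centralizer of a `p'`-element is prime to `p` if `C(P) = P`. -/
theorem not_dvd_card_centralizer {p : ℕ} [Fact p.Prime] (P : Sylow p G) (hP : Nat.card P = p)
    (hC : centralizer (P : Set G) = (P : Subgroup G)) {t : G} (ht : ¬ p ∣ orderOf t)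
    (ht1 : t ≠ 1) : ¬ p ∣ Nat.card (centralizer ({t} : Set G)) := by
  intro h
  have hpp : p.Prime := Fact.out
  obtain ⟨y, hy⟩ := exists_prime_orderOf_dvd_card' p h
  have hyo : orderOf (y : G) = p := by rw [← hy, Subgroup.orderOf_coe]
  have hyt : (y : G) * t = t * y := by
    have := mem_centralizer_iff.1 y.2 t (Set.mem_singleton t)
    exact this.symm
  have hpg : IsPGroup p (zpowers (y : G)) := by
    apply IsPGroup.of_card (n := 1)
    rw [Nat.card_zpowers, hyo, pow_one]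
  obtain ⟨Q, hQ⟩ := hpg.exists_le_sylow
  obtain ⟨g, hg⟩ := MulAction.exists_smul_eq G P Q
  have hQc : Nat.card Q = p := by
    refine Eq.trans ?_ hP
    rw [← hg]
    exact (Nat.card_congr (P.equivSMul g).toEquiv).symm
  have hQy : (Q : Subgroup G) = zpowers (y : G) := by
    refine (Subgroup.eq_of_le_of_card_ge hQ ?_).symm
    rw [Nat.card_zpowers, hyo, hQc]
  -- `g⁻¹ t g` centralises `P`
  have hmem : g⁻¹ * t * g ∈ centralizer (P : Set G) := by
    rw [mem_centralizer_iff]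
    intro x hx
    have h1 : g * x * g⁻¹ ∈ Q := by
      rw [← hg]
      exact ⟨x, hx, rfl⟩
    have h2 : g * x * g⁻¹ ∈ zpowers (y : G) := by
      rw [← hQy]; exact h1
    obtain ⟨k, hk⟩ := mem_zpowers_iff.1 h2
    have h3 : Commute (g * x * g⁻¹) t := by
      rw [← hk]
      exact Commute.zpow_left hyt k
    have h4 : g * x * g⁻¹ * t = t * (g * x * g⁻¹) := h3
    calc x * (g⁻¹ * t * g) = g⁻¹ * (g * x * g⁻¹ * t) * g := by group
      _ = g⁻¹ * (t * (g * x * g⁻¹)) * g := by rw [h4]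
      _ = g⁻¹ * t * g * x := by group
  rw [hC] at hmem
  have h5 : orderOf (g⁻¹ * t * g) ∣ p := by
    have := orderOf_dvd_natCard (⟨g⁻¹ * t * g, hmem⟩ : (P : Subgroup G))
    rw [hP] at this
    simpa using this
  have h6 : orderOf (g⁻¹ * t * g) = orderOf t := by
    have h7 : g⁻¹ * t * g = MulAut.conj g⁻¹ t := by simp
    rw [h7]
    exact MulEquiv.orderOf_eq (MulAut.conj g⁻¹) t
  rw [h6] at h5
  rcases (Nat.dvd_prime hpp).1 h5 with h7 | h7
  · exact ht1 (orderOf_eq_one_iff.1 h7)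
  · exact ht (by rw [h7])

/-- The order of the centralizer of an involution divides 1152. -/
theorem card_centralizer_dvd (hcard : Nat.card G = 443520)
    [Fact (Nat.Prime 11)] [Fact (Nat.Prime 7)] [Fact (Nat.Prime 5)]
    (P11 : Sylow 11 G) (P7 : Sylow 7 G) (P5 : Sylow 5 G)
    (c11 : centralizer (P11 : Set G) = (P11 : Subgroup G))
    (c7 : centralizer (P7 : Set G) = (P7 : Subgroup G))
    (c5 : centralizer (P5 : Set G) = (P5 : Subgroup G)) {t : G} (ht : t ^ 2 = 1) (ht1 : t ≠ 1) :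
    Nat.card (centralizer ({t} : Set G)) ∣ 1152 := by
  have h11 : Nat.card P11 = 11 :=
    Degrees.card_sylow_eq (m := 40320) (by rw [hcard]) (by norm_num) P11
  have h7 : Nat.card P7 = 7 :=
    Degrees.card_sylow_eq (m := 63360) (by rw [hcard]) (by norm_num) P7
  have h5 : Nat.card P5 = 5 :=
    Degrees.card_sylow_eq (m := 88704) (by rw [hcard]) (by norm_num) P5
  have hto : orderOf t ∣ 2 := orderOf_dvd_of_pow_eq_one ht
  have hreg : ∀ p : ℕ, 2 < p → ¬ p ∣ orderOf t := fun p hp h => by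
    have := Nat.le_of_dvd (by norm_num) (h.trans hto)
    omega
  have n11 := not_dvd_card_centralizer P11 h11 c11 (hreg 11 (by norm_num)) ht1
  have n7 := not_dvd_card_centralizer P7 h7 c7 (hreg 7 (by norm_num)) ht1
  have n5 := not_dvd_card_centralizer P5 h5 c5 (hreg 5 (by norm_num)) ht1
  set c := Nat.card (centralizer ({t} : Set G)) with hc
  have hdvd : c ∣ 443520 := by rw [← hcard]; exact card_subgroup_dvd_card _
  have k11 : c.Coprime 11 := ((Nat.Prime.coprime_iff_not_dvd Fact.out).2 n11).symm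
  have k7 : c.Coprime 7 := ((Nat.Prime.coprime_iff_not_dvd Fact.out).2 n7).symm
  have k5 : c.Coprime 5 := ((Nat.Prime.coprime_iff_not_dvd Fact.out).2 n5).symm
  have e1 : c ∣ 11 * 40320 := by rw [show 11 * 40320 = 443520 by norm_num]; exact hdvd
  have e2 : c ∣ 7 * 5760 := by
    rw [show 7 * 5760 = 40320 by norm_num]; exact k11.dvd_of_dvd_mul_left e1
  have e3 : c ∣ 5 * 1152 := by
    rw [show 5 * 1152 = 5760 by norm_num]; exact k7.dvd_of_dvd_mul_left e2
  exact k5.dvd_of_dvd_mul_left e3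

/-- The arithmetic of the column of an involution in case C. -/
def okC (a e c c' : ℤ) : Prop :=
  (840 - 40 * a * a - 7 * (10 + 2 * e) * (10 + 2 * e) + 4 * (c * c + c' * c') =
    3 * (c + c' - 9 - a - 2 * e) * (c + c' - 9 - a - 2 * e)) →
  (1152 : ℤ) % (1 + a * a + e * e + 2 * (11 + e) * (11 + e) + (10 + 2 * e) * (10 + 2 * e) +
    (23 + a + 2 * e) * (23 + a + 2 * e) + c * c + c' * c' +
    2 * (c + c' - 9 - a - 2 * e) * (c + c' - 9 - a - 2 * e) +
    (a + e - 2 * (c + c') - 3) * (a + e - 2 * (c + c') - 3)) = 0 →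
  a = -3 ∧ e = -9 ∧ c + c' = -4 ∧ c * c' = -12

instance (a e c c' : ℤ) : Decidable (okC a e c c') := by
  unfold okC; infer_instance

theorem okC_all : ∀ i < 9, ∀ j < 10, ∀ k < 17, ∀ l < 17,
    okC (4 * (j : ℕ) - 19 : ℤ) (4 * (i : ℕ) - 21 : ℤ) (4 * (k : ℕ) - 34 : ℤ)
      (4 * (l : ℕ) - 34 : ℤ) := by
  decide +kernel

/-- The column of an involution in case C. -/
theorem arithC (a e u b g c c' d h : ℤ) (m1 : (4 : ℤ) ∣ 21 - a) (m2 : (4 : ℤ) ∣ 55 - e)
    (m5 : (4 : ℤ) ∣ 120 - b) (m7 : (4 : ℤ) ∣ 210 - c) (m8 : (4 : ℤ) ∣ 210 - c')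
    (l1a : -21 < a) (l1b : a < 21) (r11 : 1 - a - b + c + c' = d) (r7 : 1 - e + b = u)
    (r5 : 1 + a + 2 * u - g = 0)
    (orth : 1 + 21 * a + 55 * e + 132 * u + 120 * b + 154 * g + 210 * c + 210 * c' + 560 * d +
      385 * h = 0)
    (Q11 : 840 - 40 * (a * a) - 7 * (b * b) + 4 * (c * c + c' * c') = 3 * (d * d))
    (Q7 : 1320 - 24 * (e * e) + 11 * (b * b) = 20 * (u * u))
    (hle : 1 + a * a + e * e + 2 * (u * u) + b * b + g * g + c * c + c' * c' + 2 * (d * d) +
      h * h ≤ 1152)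
    (hmod : (1152 : ℤ) % (1 + a * a + e * e + 2 * (u * u) + b * b + g * g + c * c + c' * c' +
      2 * (d * d) + h * h) = 0) :
    a = -3 ∧ e = -9 ∧ u = 2 ∧ b = -8 ∧ g = 2 ∧ d = 8 ∧ h = -7 ∧
      ((c = 2 ∧ c' = -6) ∨ (c = -6 ∧ c' = 2)) := by
  have hu : u = 1 - e + b := by linarith
  have hd : d = 1 - a - b + c + c' := by linarith
  have hg : g = 1 + a + 2 * u := by linarith
  have pa := mul_self_nonneg a
  have pe := mul_self_nonneg e
  have pu := mul_self_nonneg u
  have pb := mul_self_nonneg b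
  have pg := mul_self_nonneg g
  have pc := mul_self_nonneg c
  have pc' := mul_self_nonneg c'
  have pd := mul_self_nonneg d
  have ph := mul_self_nonneg h
  have bnd : ∀ x : ℤ, x * x ≤ 1152 → -34 < x ∧ x < 34 := by
    intro x hx
    constructor <;> nlinarith
  obtain ⟨b1', b2'⟩ := bnd b (by linarith)
  obtain ⟨e1', e2'⟩ := bnd e (by linarith)
  obtain ⟨c1', c2'⟩ := bnd c (by linarith)
  obtain ⟨c3', c4'⟩ := bnd c' (by linarith)
  have hprod : (b - 10 - 2 * e) * (130 - 22 * e + 9 * b) = 0 := by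
    rw [hu] at Q7
    linear_combination (-1 : ℤ) * Q7
  rcases mul_eq_zero.1 hprod with hb | hb
  swap
  · have he19 : e = 19 := by omega
    have hb32 : b = 32 := by omega
    have hu14 : u = 14 := by omega
    rw [he19, hb32, hu14] at hle
    linarith
  have hb' : b = 10 + 2 * e := by linarith
  have hu' : u = 11 + e := by linarith
  have hg' : g = 23 + a + 2 * e := by linarith
  have hd' : d = c + c' - 9 - a - 2 * e := by linarith
  have hh : h = a + e - 2 * (c + c') - 3 := by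
    have : 385 * h = 385 * (a + e - 2 * (c + c') - 3) := by
      rw [hb', hu', hg', hd'] at orth
      linarith
    linarith
  obtain ⟨i, hi⟩ : ∃ i : ℕ, e = 4 * (i : ℤ) - 21 := ⟨((e + 21) / 4).toNat, by omega⟩
  obtain ⟨j, hj⟩ : ∃ j : ℕ, a = 4 * (j : ℤ) - 19 := ⟨((a + 19) / 4).toNat, by omega⟩
  obtain ⟨k, hk⟩ : ∃ k : ℕ, c = 4 * (k : ℤ) - 34 := ⟨((c + 34) / 4).toNat, by omega⟩
  obtain ⟨l, hl⟩ : ∃ l : ℕ, c' = 4 * (l : ℤ) - 34 := ⟨((c' + 34) / 4).toNat, by omega⟩
  have hok := okC_all i (by omega) j (by omega) k (by omega) l (by omega)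
  rw [← hi, ← hj, ← hk, ← hl] at hok
  have hcon := hok (by
    rw [hb', hd'] at Q11
    linarith) (by
    rw [hb', hu', hg', hd', hh] at hmod
    rw [← hmod]
    congr 1
    ring)
  obtain ⟨ha, he, hs, hp⟩ := hcon
  have hcc : (c - 2) * (c + 6) = 0 := by
    have : c' = -4 - c := by linarith
    rw [this] at hp
    linear_combination -hp
  refine ⟨ha, he, by omega, by omega, by omega, by omega, by omega, ?_⟩
  rcases mul_eq_zero.1 hcc with hc | hc
  · left; constructor <;> omega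
  · right; constructor <;> omega

/-- Sum against the degrees over an enumeration. -/
theorem sum_degree_mul (f : Fin 12 ≃ IrrCharacter G) (D : Fin 12 → ℕ)
    (hD : ∀ i, charDegree (f i : G → ℂ) = D i) {t : G} (ht1 : t ≠ 1) (z : Fin 12 → ℤ)
    (hz : ∀ i, (f i : G → ℂ) t = z i) : ∑ i, (D i : ℤ) * z i = 0 := by
  classical
  have := Fintype.ofFinite G
  have := Fintype.ofEquiv _ f
  have h1 := Cfsg.Agent.S0145.sum_irr_mul_conj (1 : G) t
  rw [if_neg (fun h => ht1 (isConj_one_right.1 h)), ← Equiv.sum_comp f] at h1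
  have h2 : ((∑ i, (D i : ℤ) * z i : ℤ) : ℂ) = ((0 : ℤ) : ℂ) := by
    push_cast
    rw [← h1]
    refine Finset.sum_congr rfl fun i _ => ?_
    rw [Cfsg.Agent.Blocks.Basic.irr_one_eq_charDegree (f i).2, hD i, hz i]
    simp
  exact_mod_cast h2

/-- The norm of a column over an enumeration. -/
theorem sum_sq (f : Fin 12 ≃ IrrCharacter G) {t : G} (z : Fin 12 → ℤ)
    (hz : ∀ i, (f i : G → ℂ) t = z i) :
    ∑ i, z i * z i = (Nat.card (centralizer ({t} : Set G)) : ℤ) := by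
  classical
  have := Fintype.ofFinite G
  have := Fintype.ofEquiv _ f
  have h1 := Cfsg.Agent.S0145.sum_irr_mul_conj t t
  rw [if_pos (IsConj.refl t), ← Equiv.sum_comp f] at h1
  have h2 : ((∑ i, z i * z i : ℤ) : ℂ) = (((Nat.card (centralizer ({t} : Set G)) : ℤ) : ℤ) : ℂ) := by
    push_cast
    rw [← h1]
    refine Finset.sum_congr rfl fun i _ => ?_
    rw [hz i]
    simp
  exact_mod_cast h2

/-- The class constant `(t, t; t)` over an enumeration is not negative. -/
theorem sum_cube_nonneg (f : Fin 12 ≃ IrrCharacter G) (D : Fin 12 → ℕ)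
    (hD : ∀ i, charDegree (f i : G → ℂ) = D i) {t : G} (z : Fin 12 → ℤ)
    (hz : ∀ i, (f i : G → ℂ) t = z i) : 0 ≤ ∑ i, (z i * z i * z i / D i : ℚ) := by
  classical
  have := Fintype.ofEquiv _ f
  have h1 := Cfsg.Agent.Characters.ClassMul.card_class_mul t t t
  rw [← Equiv.sum_comp f] at h1
  set n := Nat.card {p : G × G // IsConj t p.1 ∧ IsConj t p.2 ∧ p.1 * p.2 = t}
  set m := (centralizer ({t} : Set G)).index
  have hm : m ≠ 0 := Subgroup.index_ne_zero_of_finite
  have hN : Nat.card G ≠ 0 := Nat.card_pos.ne'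
  have h2 : (n : ℚ) = (m : ℚ) * m / Nat.card G * ∑ i, (z i * z i * z i / D i : ℚ) := by
    have h3 : ((n : ℚ) : ℂ) =
        (((m : ℚ) * m / Nat.card G * ∑ i, (z i * z i * z i / D i : ℚ) : ℚ) : ℂ) := by
      push_cast
      rw [h1]
      congr 1
      refine Finset.sum_congr rfl fun i _ => ?_
      rw [Cfsg.Agent.Blocks.Basic.irr_one_eq_charDegree (f i).2, hD i, hz i]
      simp
    exact_mod_cast h3
  by_contra hneg
  push Not at hneg
  have h4 : (0 : ℚ) < (m : ℚ) * m / Nat.card G := by positivity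
  have h5 := mul_neg_of_pos_of_neg h4 hneg
  rw [← h2] at h5
  have h6 : (0 : ℚ) ≤ n := Nat.cast_nonneg _
  linarith

/-- Case C is impossible. -/
theorem killC [IsSimpleGroup G] (hG : commutator G = ⊤) (hcard : Nat.card G = 443520)
    [Fact (Nat.Prime 11)] [Fact (Nat.Prime 7)] [Fact (Nat.Prime 5)]
    (P11 : Sylow 11 G) (P7 : Sylow 7 G) (P5 : Sylow 5 G)
    (c11 : centralizer (P11 : Set G) = (P11 : Subgroup G))
    (c7 : centralizer (P7 : Set G) = (P7 : Subgroup G))
    (c5 : centralizer (P5 : Set G) = (P5 : Subgroup G))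
    (e11 : (centralizer (P11 : Set G)).relIndex (normalizer (P11 : Set G)) = 5)
    (e7 : (centralizer (P7 : Set G)).relIndex (normalizer (P7 : Set G)) = 3)
    (e5 : (centralizer (P5 : Set G)).relIndex (normalizer (P5 : Set G)) = 4)
    (f : Fin 12 ≃ IrrCharacter G) (hf : ∀ i : Fin 12, charDegree (f i : G → ℂ) = LC.getD i 0) :
    False := by
  classical
  have h11 : Nat.card P11 = 11 :=
    Degrees.card_sylow_eq (m := 40320) (by rw [hcard]) (by norm_num) P11
  have h7 : Nat.card P7 = 7 :=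
    Degrees.card_sylow_eq (m := 63360) (by rw [hcard]) (by norm_num) P7
  have h5 : Nat.card P5 = 5 :=
    Degrees.card_sylow_eq (m := 88704) (by rw [hcard]) (by norm_num) P5
  obtain ⟨t, ht2⟩ := exists_prime_orderOf_dvd_card' (G := G) 2 (by rw [hcard]; norm_num)
  have ht : t ^ 2 = 1 := by rw [← ht2]; exact pow_orderOf_eq_one t
  have ht1 : t ≠ 1 := by
    rintro rfl
    rw [orderOf_one] at ht2
    norm_num at ht2
  set D : Fin 12 → ℕ := fun i => LC.getD i 0 with hDdef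
  have hD : ∀ i, charDegree (f i : G → ℂ) = D i := hf
  obtain ⟨z, hz, hz'⟩ := exists_values hG f D hD ht ht1
  have hreg : ∀ p : ℕ, 2 < p → ¬ p ∣ orderOf t := fun p hp h => by
    rw [ht2] at h
    have := Nat.le_of_dvd (by norm_num) h
    omega
  -- values of the degrees
  have d0 : D 0 = 1 := rfl
  have d1 : D 1 = 21 := rfl
  have d2 : D 2 = 55 := rfl
  have d3 : D 3 = 66 := rfl
  have d4 : D 4 = 66 := rfl
  have d5 : D 5 = 120 := rfl
  have d6 : D 6 = 154 := rfl
  have d7 : D 7 = 210 := rfl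
  have d8 : D 8 = 210 := rfl
  have d9 : D 9 = 280 := rfl
  have d10 : D 10 = 280 := rfl
  have d11 : D 11 = 385 := rfl
  -- the trivial character
  have hz0 : z 0 = 1 := by
    refine (hz' 0).2.2 ?_
    have h := Degrees.eq_one_of_charDegree (by rw [hcard]; norm_num) (f 0) (by rw [hD, d0])
    rw [h]
  -- relations
  have r11 := r1 f D hD 11 (by norm_num) P11 h11 c11 5 2 e11 (by norm_num) (by norm_num)
    (by norm_num) 9 (by rw [d9]; decide) (hreg 11 (by norm_num)) z hz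
  have q11 := r2 f D hD 11 (by norm_num) P11 h11 c11 5 2 e11 (by norm_num) (by norm_num)
    (by norm_num) (by decide) 9 (by rw [d9]; decide) ht ht z z hz hz
  have s11 := eq_exc f D hD 11 (by norm_num) P11 h11 c11 5 2 e11 (by norm_num) (by norm_num)
    (by norm_num) 9 10 (by rw [d9]; decide) (by rw [d10]; decide) (hreg 11 (by norm_num))
  have r7 := r1 f D hD 7 (by norm_num) P7 h7 c7 3 2 e7 (by norm_num) (by norm_num)
    (by norm_num) 3 (by rw [d3]; decide) (hreg 7 (by norm_num)) z hz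
  have q7 := r2 f D hD 7 (by norm_num) P7 h7 c7 3 2 e7 (by norm_num) (by norm_num)
    (by norm_num) (by decide) 3 (by rw [d3]; decide) ht ht z z hz hz
  have s7 := eq_exc f D hD 7 (by norm_num) P7 h7 c7 3 2 e7 (by norm_num) (by norm_num)
    (by norm_num) 3 4 (by rw [d3]; decide) (by rw [d4]; decide) (hreg 7 (by norm_num))
  have r5 := r1_one f D hD 5 (by norm_num) P5 h5 c5 e5 (hreg 5 (by norm_num)) z hz
  have orth := sum_degree_mul f D hD ht1 z hz
  have nrm := sum_sq f z hz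
  have hdvd := card_centralizer_dvd hcard P11 P7 P5 c11 c7 c5 ht ht1
  have hpos := sum_cube_nonneg f D hD z hz
  rw [hz 9, hz 10] at s11
  rw [hz 3, hz 4] at s7
  have s11' : z 9 = z 10 := by exact_mod_cast s11
  have s7' : z 3 = z 4 := by exact_mod_cast s7
  rw [sum12] at r11 q11 r7 q7 r5 orth nrm hpos
  have g11 : sg 11 1 = 1 ∧ sg 11 21 = -1 ∧ sg 11 55 = 0 ∧ sg 11 66 = 0 ∧ sg 11 120 = -1 ∧
      sg 11 154 = 0 ∧ sg 11 210 = 1 ∧ sg 11 280 = 0 ∧ sg 11 385 = 0 ∧ sx 11 5 280 = 1 := by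
    decide
  have g7 : sg 7 1 = 1 ∧ sg 7 21 = 0 ∧ sg 7 55 = -1 ∧ sg 7 66 = 0 ∧ sg 7 120 = 1 ∧
      sg 7 154 = 0 ∧ sg 7 210 = 0 ∧ sg 7 280 = 0 ∧ sg 7 385 = 0 ∧ sx 7 3 66 = 1 := by
    decide
  have g5 : sg 5 1 = 1 ∧ sg 5 21 = 1 ∧ sg 5 55 = 0 ∧ sg 5 66 = 1 ∧ sg 5 120 = 0 ∧
      sg 5 154 = -1 ∧ sg 5 210 = 0 ∧ sg 5 280 = 0 ∧ sg 5 385 = 0 := by
    decide
  obtain ⟨a0, a1, a2, a3, a4, a5, a6, a7, a8, a9⟩ := g11
  obtain ⟨b0, b1, b2, b3, b4, b5, b6, b7, b8, b9⟩ := g7
  obtain ⟨k0, k1, k2, k3, k4, k5, k6, k7, k8⟩ := g5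
  rw [d0, d1, d2, d3, d4, d5, d6, d7, d8, d9, d10, d11] at r11 q11 r7 q7 r5 orth hpos
  rw [a0, a1, a2, a3, a4, a5, a6, a7, a8, a9] at r11 q11
  rw [b0, b1, b2, b3, b4, b5, b6, b7, b8, b9] at r7 q7
  rw [k0, k1, k2, k3, k4, k5, k6, k7, k8] at r5
  have m1 : (4 : ℤ) ∣ 21 - z 1 := by have := (hz' 1).1; rw [d1] at this; exact_mod_cast this
  have m2 : (4 : ℤ) ∣ 55 - z 2 := by have := (hz' 2).1; rw [d2] at this; exact_mod_cast this
  have m5 : (4 : ℤ) ∣ 120 - z 5 := by have := (hz' 5).1; rw [d5] at this; exact_mod_cast this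
  have m7 : (4 : ℤ) ∣ 210 - z 7 := by have := (hz' 7).1; rw [d7] at this; exact_mod_cast this
  have m8 : (4 : ℤ) ∣ 210 - z 8 := by have := (hz' 8).1; rw [d8] at this; exact_mod_cast this
  have hne1 : (f 1 : G → ℂ) ≠ 1 := by
    intro h
    have h1 : D 1 = 1 := by
      rw [← hD 1]
      apply Cfsg.Agent.Blocks.Basic.charDegree_of_eq
      rw [h]; simp
    rw [d1] at h1
    norm_num at h1
  have l1 : |z 1| < 21 := by
    have := (hz' 1).2.1 hne1; rw [d1] at this; exact_mod_cast this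
  have hle : (Nat.card (centralizer ({t} : Set G)) : ℤ) ≤ 1152 := by
    exact_mod_cast Nat.le_of_dvd (by norm_num) hdvd
  have hmod : (1152 : ℤ) % (Nat.card (centralizer ({t} : Set G)) : ℤ) = 0 := by
    exact_mod_cast Nat.mod_eq_zero_of_dvd hdvd
  rw [← nrm] at hle hmod
  push_cast at q11 q7
  have Q11 : 840 - 40 * (z 1 * z 1) - 7 * (z 5 * z 5) + 4 * (z 7 * z 7 + z 8 * z 8) =
      3 * (z 9 * z 9) := by
    have : ((840 - 40 * (z 1 * z 1) - 7 * (z 5 * z 5) + 4 * (z 7 * z 7 + z 8 * z 8) : ℤ) : ℚ) =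
        ((3 * (z 9 * z 9) : ℤ) : ℚ) := by
      push_cast
      rw [hz0] at q11
      push_cast at q11
      linear_combination 840 * q11
    exact_mod_cast this
  have Q7 : 1320 - 24 * (z 2 * z 2) + 11 * (z 5 * z 5) = 20 * (z 3 * z 3) := by
    have : ((1320 - 24 * (z 2 * z 2) + 11 * (z 5 * z 5) : ℤ) : ℚ) =
        ((20 * (z 3 * z 3) : ℤ) : ℚ) := by
      push_cast
      rw [hz0] at q7
      push_cast at q7
      linear_combination 1320 * q7
    exact_mod_cast this
  rw [← s7'] at r5 orth nrm hle hmod hpos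
  rw [← s11'] at orth nrm hle hmod hpos
  rw [hz0] at r11 r7 r5 orth nrm hle hmod hpos
  obtain ⟨l1a, l1b⟩ := abs_lt.1 l1
  obtain ⟨ha, he, hu, hb, hg, hd, hh, hc⟩ := arithC (z 1) (z 2) (z 3) (z 5) (z 6) (z 7) (z 8)
    (z 9) (z 11) m1 m2 m5 m7 m8 l1a l1b (by linarith) (by linarith) (by linarith)
    (by push_cast at orth; linarith) Q11 Q7 (by linarith) (by
      rw [← hmod]; congr 1; ring)
  rw [ha, he, hu, hb, hg, hd, hh] at hpos
  rcases hc with ⟨hc, hc'⟩ | ⟨hc, hc'⟩ <;> rw [hc, hc'] at hpos <;> norm_num at hpos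

end Cfsg.Agent.M22.KillC
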