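import Cfsg.Agent.SmallSimple.TheoremBCor
import Cfsg.Agent.SmallSimple.DetKernel
import Cfsg.Agent.SmallSimple.PrimeLocal
import Cfsg.Agent.Lib.PGroupCoprimeAction
import Cfsg.Agent.M22.Degrees

/-!
# Sylow subgroups of prime order with a nontrivial `p'`-subgroup `K` of `C(P)`

Brauer's Theorem B together with the determinant argument: degrees of the characters in the
principal block and their values at involutions of `K`.
-/

set_option autoImplicit false

namespace Cfsg.Agent.M22.NonSelfCent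

open Cfsg Cfsg.Agent.Characters.Core
open Cfsg.Agent.Blocks.Basic (irr_one_eq_charDegree)
open Cfsg.Agent.SmallSimple

universe u

variable {G : Type u} [Group G] [Finite G]

theorem exists_ne (χ : IrrCharacter G)
    (h1 : χ ≠ ⟨1, isIrr_one⟩) : ∃ g, (χ : G → ℂ) g ≠ (χ : G → ℂ) 1 := by
  by_contra hcon
  push Not at hcon
  have := Fintype.ofFinite G
  -- the character is a multiple of the trivial one
  have h2 := classInner_irr_ne χ.2 isIrr_one (fun h => h1 (Subtype.ext h))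
  rw [classInner_def] at h2
  have h3 : ∑ g : G, (χ : G → ℂ) g * (starRingEnd ℂ) ((1 : G → ℂ) g) =
      Nat.card G * (χ : G → ℂ) 1 := by
    rw [Finset.sum_congr rfl (g := fun _ => (χ : G → ℂ) 1) (fun g _ => by
      rw [hcon g]; simp), Finset.sum_const, Finset.card_univ, nsmul_eq_mul,
      ← Nat.card_eq_fintype_card]
  rw [h3, inv_mul_cancel_left₀ card_ne_zero_complex] at h2
  exact Cfsg.Agent.Blocks.Basic.irr_one_ne_zero χ.2 h2

theorem not_comm_of_not_prime [IsSimpleGroup G] (hG : ¬ (Nat.card G).Prime) :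
    ∃ a b : G, a * b ≠ b * a := by
  by_contra hcon
  push Not at hcon
  let inst : CommGroup G := { (inferInstance : Group G) with mul_comm := hcon }
  have : @IsSimpleGroup G inst.toGroup := by assumption
  exact hG (@IsSimpleGroup.prime_card G inst this)

/-- Values of a character at the involutions of `K`. -/
def InvVal (p : ℕ) (χ : G → ℂ) (a : ℕ) (K : Subgroup G) : Prop :=
  ∀ t ∈ K, t * t = 1 → t ≠ 1 → ∃ m : ℕ, 0 < m ∧ 2 * m ≤ a ∧
    χ t = (((charDegree χ : ℤ) - 4 * p * m : ℤ) : ℂ)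

/-- The degree data of a nonexceptional character. -/
def NEData (p : ℕ) (χ : G → ℂ) (ε : ℤ) (K : Subgroup G) : Prop :=
  ∃ a : ℕ, 2 ≤ a ∧ ((ε = 1 ∧ charDegree χ = p * a + 1) ∨
    (ε = -1 ∧ charDegree χ + 1 = p * (a + 1))) ∧ InvVal p χ a K

/-- The degree data of an exceptional character. -/
def XData (p e : ℕ) (χ : G → ℂ) (d : ℤ) (K : Subgroup G) : Prop :=
  ∃ a : ℕ, 2 ≤ a ∧ ((d = 1 ∧ charDegree χ = p * a + e) ∨
    (d = -1 ∧ charDegree χ + e = p * (a + 1))) ∧ InvVal p χ a K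

theorem two_le_and_invVal [IsSimpleGroup G] {p a : ℕ} {χ : IrrCharacter G} {K : Subgroup G}
    (hK : K ≠ ⊥)
    (h : ∃ σ : K →* Matrix.SpecialLinearGroup (Fin a) ℂ, Function.Injective σ ∧
      ∀ k : K, (p : ℂ) * (σ k).1.trace = p * a + ((χ : G → ℂ) k - (χ : G → ℂ) 1)) :
    2 ≤ a ∧ InvVal p (χ : G → ℂ) a K := by
  obtain ⟨σ, hσ, hv⟩ := h
  refine ⟨?_, fun t ht ht2 ht1 => ?_⟩
  · by_contra hlt
    exact hK (DetKernel.eq_bot_of_injective (by omega) σ hσ)
  · obtain ⟨m, h1, h2, h3⟩ := DetKernel.value_involution σ hσ hv ht ht2 ht1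
    refine ⟨m, h1, h2, ?_⟩
    rw [h3, irr_one_eq_charDegree χ.2]
    push_cast
    ring

theorem neData [IsSimpleGroup G] (hG : ¬ (Nat.card G).Prime) {p : ℕ} [Fact p.Prime]
    (P : Sylow p G) (hP : Nat.card P = p) (χ : IrrCharacter G) (h1 : χ ≠ ⟨1, isIrr_one⟩) {ε : ℤ}
    (hε : ε = 1 ∨ ε = -1)
    (hval : ∀ x ∈ P, x ≠ 1 → ∀ y ∈ Subgroup.centralizer (P : Set G), ¬ p ∣ orderOf y →
      (χ : G → ℂ) (x * y) = ε)
    (K : Subgroup G) (hK : K ≤ Subgroup.centralizer (P : Set G)) (hcop : p.Coprime (Nat.card K))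
    (hKne : K ≠ ⊥) : NEData p (χ : G → ℂ) ε K := by
  have hp : p.Prime := Fact.out
  have hval1 : ∀ x ∈ (P : Subgroup G), x ≠ 1 → (χ : G → ℂ) x = ε := by
    intro x hx hx1
    have := hval x hx hx1 1 (Subgroup.one_mem _) (by
      rw [orderOf_one]; exact fun h => hp.one_lt.ne' (Nat.dvd_one.1 h))
    rwa [mul_one] at this
  obtain ⟨m, hm⟩ := TheoremBCor.degree_nonexc (P := (P : Subgroup G)) hP (isIrr_isCharacter χ.2)
    hval1
  rw [irr_one_eq_charDegree χ.2] at hm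
  have hm' : (charDegree (χ : G → ℂ) : ℤ) = ε + p * ((m : ℤ) - ε) := by exact_mod_cast hm
  have hpos : 0 < charDegree (χ : G → ℂ) := by
    have h := Cfsg.Agent.Blocks.Basic.irr_one_ne_zero χ.2
    rw [irr_one_eq_charDegree χ.2] at h
    exact Nat.pos_of_ne_zero fun h0 => h (by rw [h0, Nat.cast_zero])
  rcases hε with rfl | rfl
  · have hm1 : 1 ≤ m := by
      by_contra hcon
      have : m = 0 := by omega
      subst this
      have := hp.two_le
      have h4 : (charDegree (χ : G → ℂ) : ℤ) = 1 - p := by rw [hm']; push_cast; ring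
      omega
    obtain ⟨a, rfl⟩ : ∃ a, m = a + 1 := ⟨m - 1, by omega⟩
    have hdeg : charDegree (χ : G → ℂ) = p * a + 1 := by
      have : (charDegree (χ : G → ℂ) : ℤ) = p * a + 1 := by rw [hm']; push_cast; ring
      exact_mod_cast this
    obtain ⟨h5, h6⟩ := two_le_and_invVal hKne (DetKernel.exists_hom_SL_of_const
      (not_comm_of_not_prime hG) P hP (isIrr_isCharacter χ.2) (exists_ne χ h1) (δ := 1) hval
      (a := a) (Or.inl ⟨Or.inr rfl, by rw [irr_one_eq_charDegree χ.2, hdeg]; push_cast; ring⟩)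
      K hK hcop)
    exact ⟨a, h5, Or.inl ⟨rfl, hdeg⟩, h6⟩
  · have hdeg : charDegree (χ : G → ℂ) + 1 = p * (m + 1) := by
      have : (charDegree (χ : G → ℂ) : ℤ) + 1 = p * (m + 1) := by rw [hm']; push_cast; ring
      exact_mod_cast this
    obtain ⟨h5, h6⟩ := two_le_and_invVal hKne (DetKernel.exists_hom_SL_of_const
      (not_comm_of_not_prime hG) P hP (isIrr_isCharacter χ.2) (exists_ne χ h1) (δ := -1) hval
      (a := m) (Or.inr ⟨rfl, by rw [irr_one_eq_charDegree χ.2]; exact_mod_cast hdeg⟩)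
      K hK hcop)
    exact ⟨m, h5, Or.inr ⟨rfl, hdeg⟩, h6⟩

theorem xData [IsSimpleGroup G] (hG : ¬ (Nat.card G).Prime) {p : ℕ} [Fact p.Prime]
    (P : Sylow p G) (hP : Nat.card P = p) (χ : IrrCharacter G) (h1 : χ ≠ ⟨1, isIrr_one⟩) {d : ℤ}
    (hd : d = 1 ∨ d = -1) {e : ℕ} (he : e ≠ 0) (S : Finset (P →* ℂˣ)) (hS : S.card = e)
    (hS1 : 1 ∉ S)
    (hval : ∀ x : P, x ≠ 1 → ∀ y ∈ Subgroup.centralizer (P : Set G), ¬ p ∣ orderOf y →
      (χ : G → ℂ) (x * y) = d * ∑ l ∈ S, ((l x : ℂˣ) : ℂ))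
    (K : Subgroup G) (hK : K ≤ Subgroup.centralizer (P : Set G)) (hcop : p.Coprime (Nat.card K))
    (hKne : K ≠ ⊥) : XData p e (χ : G → ℂ) d K := by
  have hp : p.Prime := Fact.out
  have hval1 : ∀ x : P, x ≠ 1 → (χ : G → ℂ) x = d * ∑ l ∈ S, ((l x : ℂˣ) : ℂ) := by
    intro x hx1
    have := hval x hx1 1 (Subgroup.one_mem _) (by
      rw [orderOf_one]; exact fun h => hp.one_lt.ne' (Nat.dvd_one.1 h))
    rwa [mul_one] at this
  have hSne : S.Nonempty := by
    rw [← Finset.card_pos, hS]; omega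
  obtain ⟨m, hm⟩ := TheoremBCor.degree_exc (P := (P : Subgroup G)) hP (isIrr_isCharacter χ.2)
    hS1 hval1
  rw [irr_one_eq_charDegree χ.2, hS] at hm
  have hm' : (charDegree (χ : G → ℂ) : ℤ) = d * e + p * m := by exact_mod_cast hm
  have hpos : 0 < charDegree (χ : G → ℂ) := by
    have h := Cfsg.Agent.Blocks.Basic.irr_one_ne_zero χ.2
    rw [irr_one_eq_charDegree χ.2] at h
    exact Nat.pos_of_ne_zero fun h0 => h (by rw [h0, Nat.cast_zero])
  rcases hd with rfl | rfl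
  · have hdeg : charDegree (χ : G → ℂ) = p * m + e := by
      have : (charDegree (χ : G → ℂ) : ℤ) = p * m + e := by rw [hm']; ring
      exact_mod_cast this
    obtain ⟨h5, h6⟩ := two_le_and_invVal hKne (DetKernel.exists_hom_SL_of_sum
      (not_comm_of_not_prime hG) P hP (isIrr_isCharacter χ.2) (exists_ne χ h1) (d := 1) S hS1
      hSne hval
      (a := m) (Or.inl ⟨rfl, by rw [irr_one_eq_charDegree χ.2, hdeg, hS]; push_cast; ring⟩)
      K hK hcop)
    exact ⟨m, h5, Or.inl ⟨rfl, hdeg⟩, h6⟩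
  · have hm1 : 1 ≤ m := by
      by_contra hcon
      have : m = 0 := by omega
      subst this
      have h4 : (charDegree (χ : G → ℂ) : ℤ) = - e := by rw [hm']; push_cast; ring
      omega
    obtain ⟨a, rfl⟩ : ∃ a, m = a + 1 := ⟨m - 1, by omega⟩
    have hdeg : charDegree (χ : G → ℂ) + e = p * (a + 1) := by
      have : (charDegree (χ : G → ℂ) : ℤ) + e = p * (a + 1) := by rw [hm']; push_cast; ring
      exact_mod_cast this
    obtain ⟨h5, h6⟩ := two_le_and_invVal hKne (DetKernel.exists_hom_SL_of_sum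
      (not_comm_of_not_prime hG) P hP (isIrr_isCharacter χ.2) (exists_ne χ h1) (d := -1) S hS1
      hSne hval
      (a := a) (Or.inr ⟨rfl, by rw [irr_one_eq_charDegree χ.2, hS]; exact_mod_cast hdeg⟩)
      K hK hcop)
    exact ⟨a, h5, Or.inr ⟨rfl, hdeg⟩, h6⟩

/-- The principal block of a simple group with a Sylow `p`-subgroup of order `p` and
`K ≤ C(P)` a nontrivial `p'`-subgroup. -/
structure KBlock (p : ℕ) (P : Subgroup G) (e t : ℕ) (NE X : Finset (IrrCharacter G))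
    (ε : IrrCharacter G → ℤ) (d : ℤ) : Prop where
  disj : Disjoint NE X
  card_NE : NE.card = e
  card_X : X.card = t
  eps : ∀ χ ∈ NE, ε χ = 1 ∨ ε χ = -1
  hd : d = 1 ∨ d = -1
  one_mem : (⟨1, isIrr_one⟩ : IrrCharacter G) ∈ NE
  eps_one : ε ⟨1, isIrr_one⟩ = 1
  rel : ∀ Θ ∈ X, ∀ g : G, ¬ p ∣ orderOf g →
    ∑ χ ∈ NE, (ε χ : ℂ) * (χ : G → ℂ) g = d * (Θ : G → ℂ) g
  rel_one : ∀ Θ ∈ X, ∑ χ ∈ NE, ε χ * (charDegree (χ : G → ℂ) : ℤ) =
    d * (charDegree (Θ : G → ℂ) : ℤ)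
  ne_data : ∀ K : Subgroup G, K ≤ Subgroup.centralizer (P : Set G) → p.Coprime (Nat.card K) →
    K ≠ ⊥ → ∀ χ ∈ NE, χ ≠ ⟨1, isIrr_one⟩ → NEData p (χ : G → ℂ) (ε χ) K
  x_data : ∀ K : Subgroup G, K ≤ Subgroup.centralizer (P : Set G) → p.Coprime (Nat.card K) →
    K ≠ ⊥ → ∀ Θ ∈ X, XData p e (Θ : G → ℂ) d K

theorem exists_kblock [IsSimpleGroup G] (hG : ¬ (Nat.card G).Prime) (p : ℕ) [Fact p.Prime]
    (hp2 : p ≠ 2) (P : Sylow p G) (hP : Nat.card P = p) (e t : ℕ)
    (he : (Subgroup.centralizer (P : Set G)).relIndex (Subgroup.normalizer (P : Set G)) = e)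
    (ht : e * t = p - 1) :
    ∃ NE X ε d, KBlock p (P : Subgroup G) e t NE X ε d := by
  have hp : p.Prime := Fact.out
  obtain ⟨M, hM⟩ := Cfsg.Agent.Blocks.ExistsModular.exists_isPModular hp
  obtain ⟨NE, X, ε, d, S, -, h2, h3, h4, h5, h6, h7, h8, h9, -, h11⟩ :=
    TheoremB.theoremB p hp2 M hM P hP e t he ht
  obtain ⟨χ₁, hχ₁, hχ₁', hε₁⟩ := h7
  have h12 : χ₁ = ⟨1, isIrr_one⟩ := Subtype.ext hχ₁'
  subst h12
  have he0 : e ≠ 0 := by
    rintro rfl
    have := hp.two_le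
    omega
  refine ⟨NE, X, ε, d, h2, h3, h4, h5, h6, hχ₁, hε₁, h11, fun Θ hΘ => ?_,
    fun K hK hcop hKne χ hχ hχ1 => ?_, fun K hK hcop hKne Θ hΘ => ?_⟩
  · have h13 := h11 Θ hΘ 1 (by
      rw [orderOf_one]; exact fun h => hp.one_lt.ne' (Nat.dvd_one.1 h))
    rw [irr_one_eq_charDegree Θ.2] at h13
    have h14 : ∑ χ ∈ NE, (ε χ : ℂ) * (χ : G → ℂ) 1 =
        ((∑ χ ∈ NE, ε χ * (charDegree (χ : G → ℂ) : ℤ) : ℤ) : ℂ) := by
      push_cast
      refine Finset.sum_congr rfl fun χ _ => ?_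
      rw [irr_one_eq_charDegree χ.2]
    rw [h14] at h13
    exact_mod_cast h13
  · exact neData hG P hP χ hχ1 (h5 χ hχ) (h8 χ hχ) K hK hcop hKne
  · obtain ⟨h15, h16, h17⟩ := h9 Θ hΘ
    refine xData hG P hP Θ ?_ h6 he0 (S Θ) h15 h16 h17 K hK hcop hKne
    rintro rfl
    exact (Finset.disjoint_left.1 h2) hχ₁ hΘ

/-- A `q`-element normalising a `q'`-group `K` commutes with an element of order `r` of `K`, if
`q` does not divide `r ^ j - 1` for `0 < j`, `r ^ j ∣ |K|`. -/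
theorem exists_commuting {q r : ℕ} [Fact q.Prime] [Fact r.Prime] (K : Subgroup G) {f : G}
    (hf : f ∈ Subgroup.normalizer (K : Set G)) (hfq : orderOf f = q) (hK : ¬ q ∣ Nat.card K)
    (hr : r ∣ Nat.card K) (hj : ∀ j, 0 < j → r ^ j ∣ Nat.card K → ¬ q ∣ r ^ j - 1) :
    ∃ t ∈ K, orderOf t = r ∧ f * t = t * f := by
  have hq : q.Prime := Fact.out
  have hrp : r.Prime := Fact.out
  have hA : IsPGroup q (Subgroup.zpowers f) := by
    apply IsPGroup.of_card (n := 1)
    rw [Nat.card_zpowers, hfq, pow_one]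
  have hAK : ∀ b ∈ Subgroup.zpowers f, ∀ u ∈ K, b * u * b⁻¹ ∈ K := by
    intro b hb u hu
    have h1 : b ∈ Subgroup.normalizer (K : Set G) := (Subgroup.zpowers_le.2 hf) hb
    exact (Subgroup.mem_normalizer_iff.1 h1 u).1 hu
  obtain ⟨S, ⟨T, hT⟩, hS⟩ :=
    Cfsg.Agent.Lib.PGroupCoprimeAction.exists_invariant_sylow hA hK hAK r
  -- the order of S
  have hScard : Nat.card S = Nat.card (T : Subgroup K) := by
    rw [← hT]
    exact Nat.card_congr ((T : Subgroup K).equivMapOfInjective K.subtype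
      K.subtype_injective).symm.toEquiv
  obtain ⟨j, hj1⟩ := IsPGroup.iff_card.1 T.isPGroup'
  have hSK : S ≤ K := by
    rw [← hT]
    rintro _ ⟨t, -, rfl⟩
    exact t.2
  have hdvdS : r ∣ Nat.card (T : Subgroup K) := by
    have h1 := (T : Subgroup K).card_mul_index
    have h2 : r ∣ Nat.card (T : Subgroup K) * (T : Subgroup K).index := h1 ▸ hr
    rcases (hrp.dvd_mul).1 h2 with h3 | h3
    · exact h3
    · exact absurd h3 T.not_dvd_index
  have hj0 : 0 < j := by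
    rcases Nat.eq_zero_or_pos j with h | h
    · subst h
      have h3 : r ∣ 1 := by rw [hj1] at hdvdS; simpa using hdvdS
      exact absurd (Nat.dvd_one.1 h3) hrp.one_lt.ne'
    · exact h
  have hjK : r ^ j ∣ Nat.card K := by
    rw [← hj1]; exact (T : Subgroup K).card_subgroup_dvd_card
  -- the action on `S ∖ 1`
  let act : MulAction (Subgroup.zpowers f) {s : G // s ∈ S ∧ s ≠ 1} :=
    { smul := fun b s => ⟨b * s * (b : G)⁻¹, hS b b.2 s s.2.1, fun h => s.2.2 (by
        have h1 : (s : G) = (b : G)⁻¹ * (b * s * (b : G)⁻¹) * b := by group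
        rw [h1, h]; group)⟩
      one_smul := fun s => Subtype.ext (by
        show ((1 : Subgroup.zpowers f) : G) * s * ((1 : Subgroup.zpowers f) : G)⁻¹ = s
        simp)
      mul_smul := fun b c s => Subtype.ext (by
        show ((b * c : Subgroup.zpowers f) : G) * s * ((b * c : Subgroup.zpowers f) : G)⁻¹ =
          b * (c * s * (c : G)⁻¹) * (b : G)⁻¹
        rw [Subgroup.coe_mul]; group) }
  have hfinS : Finite {s : G // s ∈ S ∧ s ≠ 1} := inferInstance
  have hcard1 : Nat.card {s : G // s ∈ S ∧ s ≠ 1} = r ^ j - 1 := by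
    classical
    have h1 : Nat.card {s : G // s ∈ S ∧ s ≠ 1} = Nat.card {s : S // s ≠ 1} := by
      apply Nat.card_congr
      exact
        { toFun := fun s => ⟨⟨s.1, s.2.1⟩, fun h => s.2.2 (congrArg Subtype.val h)⟩
          invFun := fun s => ⟨s.1.1, s.1.2, fun h => s.2 (Subtype.ext h)⟩
          left_inv := fun s => rfl
          right_inv := fun s => rfl }
    have := Fintype.ofFinite S
    rw [h1, Nat.card_eq_fintype_card, Fintype.card_subtype_compl, Fintype.card_subtype_eq,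
      ← Nat.card_eq_fintype_card, hScard, hj1]
  obtain ⟨s, hs⟩ := hA.nonempty_fixed_point_of_prime_not_dvd_card {s : G // s ∈ S ∧ s ≠ 1}
    (by rw [hcard1]; exact hj j hj0 hjK)
  have hcomm : f * s = s * f := by
    have h1 := hs ⟨f, Subgroup.mem_zpowers f⟩
    have h2 : f * (s : G) * f⁻¹ = s := congrArg Subtype.val h1
    calc f * (s : G) = f * s * f⁻¹ * f := by group
      _ = s * f := by rw [h2]
  -- a power of `s` has order `r`
  have hso : ∃ k, orderOf (s : G) = r ^ k := by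
    have h1 : orderOf (⟨(s : G), s.2.1⟩ : S) ∣ r ^ j := by
      rw [← hj1, ← hScard]; exact orderOf_dvd_natCard _
    rw [Subgroup.orderOf_mk] at h1
    obtain ⟨k, -, hk⟩ := (Nat.dvd_prime_pow hrp).1 h1
    exact ⟨k, hk⟩
  obtain ⟨k, hk⟩ := hso
  have hk0 : 0 < k := by
    rcases Nat.eq_zero_or_pos k with h | h
    · rw [h, pow_zero, orderOf_eq_one_iff] at hk
      exact absurd hk s.2.2
    · exact h
  refine ⟨(s : G) ^ r ^ (k - 1), K.pow_mem (hSK s.2.1) _, ?_, ?_⟩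
  · rw [orderOf_pow, hk, Nat.gcd_eq_right (pow_dvd_pow r (by omega))]
    rw [Nat.pow_div (by omega) hrp.pos]
    rw [show k - (k - 1) = 1 by omega, pow_one]
  · exact (Commute.pow_right (show Commute f (s : G) from hcomm) _)

end Cfsg.Agent.M22.NonSelfCent
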