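import Cfsg.Agent.SmallSimple.InvolColumn
import Cfsg.Agent.SmallSimple.TheoremBCor

/-!
# Block relations through residues of degrees

For a self-centralising Sylow `p`-subgroup of order `p`, the relations of Brauer's theorem
written with signs depending only on the degrees modulo `p`.
-/

set_option autoImplicit false

namespace Cfsg.Agent.M22.Residue

open Cfsg Subgroup Cfsg.Agent.Characters.Core Cfsg.Agent.SmallSimple.InvolColumn
open scoped ComplexConjugate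

universe u
variable {G : Type u} [Group G]

/-- The sign of a nonexceptional degree. -/
def sg (p n : ℕ) : ℤ := if n % p = 1 then 1 else if n % p = p - 1 then -1 else 0

/-- The sign of an exceptional degree. -/
def sx (p e n : ℕ) : ℤ := if n % p = e then 1 else if n % p = p - e then -1 else 0

theorem sg_def (p n : ℕ) :
    sg p n = if n % p = 1 then 1 else if n % p = p - 1 then -1 else 0 := rfl

theorem sx_def (p e n : ℕ) :
    sx p e n = if n % p = e then 1 else if n % p = p - e then -1 else 0 := rfl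

theorem charDegree_cast {χ : G → ℂ} (hχ : IsIrrCharacter G χ) :
    χ 1 = ((charDegree χ : ℤ) : ℂ) := by
  rw [Cfsg.Agent.Blocks.Basic.irr_one_eq_charDegree hχ]; norm_cast

/-- residue of a nonexceptional degree -/
theorem mod_nonexc [Finite G] {p : ℕ} (hp : 2 < p) {P : Subgroup G} (hP : Nat.card P = p)
    {χ : G → ℂ} (hχ : IsIrrCharacter G χ) {ε : ℤ} (hε : ε = 1 ∨ ε = -1)
    (h : ∀ x ∈ P, x ≠ 1 → χ x = ε) :
    (ε = 1 ∧ charDegree χ % p = 1) ∨ (ε = -1 ∧ charDegree χ % p = p - 1) := by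
  obtain ⟨m, hm⟩ := Cfsg.Agent.SmallSimple.TheoremBCor.degree_nonexc hP (isIrr_isCharacter hχ) h
  rw [charDegree_cast hχ] at hm
  have h1 : (charDegree χ : ℤ) = ε + p * ((m : ℤ) - ε) := by
    have : ((charDegree χ : ℤ) : ℂ) = ((ε + p * ((m : ℤ) - ε) : ℤ) : ℂ) := by
      rw [hm]; push_cast; ring
    exact_mod_cast this
  rcases hε with rfl | rfl
  · left
    refine ⟨rfl, ?_⟩
    have h2 : (charDegree χ : ℤ) % p = 1 := by
      rw [h1, Int.add_mul_emod_self_left]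
      exact Int.emod_eq_of_lt (by norm_num) (by omega)
    omega
  · right
    refine ⟨rfl, ?_⟩
    have h3 : charDegree χ = (p - 1) + p * m := by
      zify [(by omega : 1 ≤ p)]
      rw [h1]; ring
    rw [h3, Nat.add_mul_mod_self_left]
    exact Nat.mod_eq_of_lt (by omega)

/-- residue of an exceptional degree -/
theorem mod_exc [Finite G] {p : ℕ} {P : Subgroup G} (hP : Nat.card P = p)
    {χ : G → ℂ} (hχ : IsIrrCharacter G χ) {d : ℤ} (hd : d = 1 ∨ d = -1)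
    {S : Finset (P →* ℂˣ)} {e : ℕ} (hSe : S.card = e) (he : 0 < e) (hep : e < p) (hS : 1 ∉ S)
    (h : ∀ x : P, x ≠ 1 → χ x = d * ∑ l ∈ S, ((l x : ℂˣ) : ℂ)) :
    (d = 1 ∧ charDegree χ % p = e) ∨ (d = -1 ∧ charDegree χ % p = p - e) := by
  obtain ⟨m, hm⟩ := Cfsg.Agent.SmallSimple.TheoremBCor.degree_exc hP (isIrr_isCharacter hχ) hS h
  rw [charDegree_cast hχ, hSe] at hm
  have h1 : (charDegree χ : ℤ) = d * e + p * (m : ℤ) := by
    have : ((charDegree χ : ℤ) : ℂ) = ((d * e + p * (m : ℤ) : ℤ) : ℂ) := by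
      rw [hm]; push_cast; ring
    exact_mod_cast this
  rcases hd with rfl | rfl
  · left
    refine ⟨rfl, ?_⟩
    have h3 : charDegree χ = e + p * m := by
      zify
      rw [h1]; ring
    rw [h3, Nat.add_mul_mod_self_left]
    exact Nat.mod_eq_of_lt hep
  · right
    refine ⟨rfl, ?_⟩
    have hm0 : m ≠ 0 := by
      rintro rfl
      have h0 : (0 : ℤ) ≤ charDegree χ := Int.natCast_nonneg _
      rw [h1] at h0
      push_cast at h0
      omega
    obtain ⟨k, rfl⟩ := Nat.exists_eq_succ_of_ne_zero hm0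
    have h3 : charDegree χ = (p - e) + p * k := by
      zify [hep.le]
      rw [h1]; push_cast; ring
    rw [h3, Nat.add_mul_mod_self_left]
    exact Nat.mod_eq_of_lt (by omega)

variable [Finite G]

/-- Brauer's theorem with signs from residues, at least two exceptional characters. -/
theorem exists_rel (p : ℕ) [Fact p.Prime] (hp2 : p ≠ 2) (P : Sylow p G) (hP : Nat.card P = p)
    (hC : centralizer (P : Set G) = (P : Subgroup G)) (e t : ℕ)
    (he : (centralizer (P : Set G)).relIndex (normalizer (P : Set G)) = e) (ht : e * t = p - 1)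
    (he2 : 2 ≤ e) (ht2 : 2 ≤ t) :
    ∃ (NE X : Finset (IrrCharacter G)) (ε : IrrCharacter G → ℤ) (d : ℤ),
      (∀ x ∈ P, x ≠ 1 → Rel x (fun g => ¬ p ∣ orderOf g) NE X ε d) ∧
      (∃ χ₁ ∈ NE, (χ₁ : G → ℂ) = 1) ∧ NE.card = e ∧ X.card = t ∧
      (∀ χ ∈ NE, ε χ = sg p (charDegree (χ : G → ℂ))) ∧
      (∀ χ : IrrCharacter G, χ ∉ NE → sg p (charDegree (χ : G → ℂ)) = 0) ∧
      (∀ χ ∈ X, sx p e (charDegree (χ : G → ℂ)) = d) ∧
      (∀ χ : IrrCharacter G, χ ∉ X → sx p e (charDegree (χ : G → ℂ)) = 0) := by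
  obtain ⟨NE, X, ε, d, S, hdis, hNE, hX, hε, hd, ⟨χ₁, hχ₁, htriv, -⟩, hval, hexc, -, hrel,
    hrest⟩ := Cfsg.Agent.SmallSimple.TheoremBCor.theoremB_selfCent p hp2 P hP hC e t he ht
  have hpp : p.Prime := Fact.out
  have hp : 2 < p := lt_of_le_of_ne hpp.two_le (Ne.symm hp2)
  have het : 2 * e + 1 ≤ p := by
    have h1 : e * 2 ≤ e * t := Nat.mul_le_mul_left _ ht2
    omega
  have hp1 : ¬ p ∣ orderOf (1 : G) := by
    rw [orderOf_one]
    exact hpp.one_lt.ne' ∘ Nat.dvd_one.1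
  have hmN : ∀ χ ∈ NE, (ε χ = 1 ∧ charDegree (χ : G → ℂ) % p = 1) ∨
      (ε χ = -1 ∧ charDegree (χ : G → ℂ) % p = p - 1) := fun χ hχ =>
    mod_nonexc hp hP χ.2 (hε χ hχ) (fun x hx hx1 => hval χ hχ x hx hx1)
  have hmX : ∀ χ ∈ X, (d = 1 ∧ charDegree (χ : G → ℂ) % p = e) ∨
      (d = -1 ∧ charDegree (χ : G → ℂ) % p = p - e) := fun χ hχ =>
    mod_exc (e := e) hP χ.2 hd (hexc χ hχ).1 (by omega) (by omega) (hexc χ hχ).2.1
      (hexc χ hχ).2.2
  have hm0 : ∀ χ : IrrCharacter G, χ ∉ NE → χ ∉ X → charDegree (χ : G → ℂ) % p = 0 :=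
    fun χ h1 h2 => Nat.mod_eq_zero_of_dvd (hrest χ h1 h2).2
  refine ⟨NE, X, ε, d, ?_, ⟨χ₁, hχ₁, htriv⟩, hNE, hX, ?_, ?_, ?_, ?_⟩
  · intro x hx hx1
    exact ⟨hdis, fun χ hχ => hval χ hχ x hx hx1, fun χ h1 h2 => (hrest χ h1 h2).1 x hx hx1, hd,
      hrel, hp1, hx1⟩
  · intro χ hχ
    rcases hmN χ hχ with ⟨h1, h2⟩ | ⟨h1, h2⟩
    · rw [h1, sg_def, if_pos h2]
    · rw [h1, sg_def, if_neg (by omega), if_pos h2]
  · intro χ hχ
    by_cases hχX : χ ∈ X
    · rcases hmX χ hχX with ⟨h1, h2⟩ | ⟨h1, h2⟩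
      · rw [sg_def, if_neg (by omega), if_neg (by omega)]
      · rw [sg_def, if_neg (by omega), if_neg (by omega)]
    · have := hm0 χ hχ hχX
      rw [sg_def, if_neg (by omega), if_neg (by omega)]
  · intro χ hχ
    rcases hmX χ hχ with ⟨h1, h2⟩ | ⟨h1, h2⟩
    · rw [h1, sx_def, if_pos h2]
    · rw [h1, sx_def, if_neg (by omega), if_pos h2]
  · intro χ hχ
    by_cases hχN : χ ∈ NE
    · rcases hmN χ hχN with ⟨h1, h2⟩ | ⟨h1, h2⟩
      · rw [sx_def, if_neg (by omega), if_neg (by omega)]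
      · rw [sx_def, if_neg (by omega), if_neg (by omega)]
    · have := hm0 χ hχN hχ
      rw [sx_def, if_neg (by omega), if_neg (by omega)]

/-- Brauer's theorem with signs from residues, automiser of order `p - 1`. -/
theorem exists_rel_one (p : ℕ) [Fact p.Prime] (hp2 : p ≠ 2) (P : Sylow p G) (hP : Nat.card P = p)
    (hC : centralizer (P : Set G) = (P : Subgroup G))
    (he : (centralizer (P : Set G)).relIndex (normalizer (P : Set G)) = p - 1)
    [Fintype (IrrCharacter G)] :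
    ∀ g : G, ¬ p ∣ orderOf g →
      ∑ χ : IrrCharacter G, (sg p (charDegree (χ : G → ℂ)) : ℂ) * (χ : G → ℂ) g = 0 := by
  classical
  obtain ⟨NE, X, ε, d, S, hdis, hNE, hX, hε, hd, ⟨χ₁, hχ₁, htriv, -⟩, hval, hexc, -, hrel,
    hrest⟩ := Cfsg.Agent.SmallSimple.TheoremBCor.theoremB_selfCent p hp2 P hP hC (p - 1) 1 he
      (by rw [mul_one])
  have hpp : p.Prime := Fact.out
  have hp : 2 < p := lt_of_le_of_ne hpp.two_le (Ne.symm hp2)
  obtain ⟨Θ, hΘ⟩ := Finset.card_eq_one.1 hX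
  have hΘX : Θ ∈ X := by rw [hΘ]; exact Finset.mem_singleton_self _
  have hmN : ∀ χ ∈ NE, (sg p (charDegree (χ : G → ℂ)) : ℂ) = ε χ := by
    intro χ hχ
    rcases mod_nonexc hp hP χ.2 (hε χ hχ) (fun x hx hx1 => hval χ hχ x hx hx1) with
      ⟨h1, h2⟩ | ⟨h1, h2⟩
    · rw [h1, sg_def, if_pos h2]
    · rw [h1, sg_def, if_neg (by omega), if_pos h2]
  have hmX : (sg p (charDegree (Θ : G → ℂ)) : ℂ) = -d := by
    rcases mod_exc (e := p - 1) hP Θ.2 hd (hexc Θ hΘX).1 (by omega) (by omega) (hexc Θ hΘX).2.1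
      (hexc Θ hΘX).2.2 with ⟨h1, h2⟩ | ⟨h1, h2⟩
    · rw [h1, sg_def, if_neg (by omega), if_pos h2]; norm_num
    · rw [h1, sg_def, if_pos (by omega)]; norm_num
  intro g hg
  have h1 : ∑ χ : IrrCharacter G, (sg p (charDegree (χ : G → ℂ)) : ℂ) * (χ : G → ℂ) g =
      ∑ χ ∈ NE ∪ X, (sg p (charDegree (χ : G → ℂ)) : ℂ) * (χ : G → ℂ) g := by
    refine (Finset.sum_subset (Finset.subset_univ _) fun χ _ hχ => ?_).symm
    rw [Finset.mem_union, not_or] at hχ
    have h2 := (hrest χ hχ.1 hχ.2).2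
    have h3 : charDegree (χ : G → ℂ) % p = 0 := Nat.mod_eq_zero_of_dvd h2
    rw [sg_def, if_neg (by omega), if_neg (by omega)]; simp
  rw [h1, Finset.sum_union hdis, hΘ, Finset.sum_singleton, hmX]
  have h4 := hrel Θ hΘX g hg
  have h5 : ∑ χ ∈ NE, (sg p (charDegree (χ : G → ℂ)) : ℂ) * (χ : G → ℂ) g =
      ∑ χ ∈ NE, (ε χ : ℂ) * (χ : G → ℂ) g :=
    Finset.sum_congr rfl fun χ hχ => by rw [hmN χ hχ]
  rw [h5, h4]; ring

section Enum

variable {n : ℕ} (f : Fin n ≃ IrrCharacter G) (D : Fin n → ℕ)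
  (hD : ∀ i, charDegree (f i : G → ℂ) = D i)

include hD

/-- transport of a signed sum to an enumeration -/
theorem sum_enum {p : ℕ} {NE : Finset (IrrCharacter G)} {ε : IrrCharacter G → ℤ}
    (hε : ∀ χ ∈ NE, ε χ = sg p (charDegree (χ : G → ℂ)))
    (h0 : ∀ χ : IrrCharacter G, χ ∉ NE → sg p (charDegree (χ : G → ℂ)) = 0)
    (F : IrrCharacter G → ℂ) :
    ∑ χ ∈ NE, (ε χ : ℂ) * F χ = ∑ i, (sg p (D i) : ℂ) * F (f i) := by
  classical
  have := Fintype.ofEquiv _ f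
  have h1 : ∑ χ ∈ NE, (ε χ : ℂ) * F χ =
      ∑ χ : IrrCharacter G, (sg p (charDegree (χ : G → ℂ)) : ℂ) * F χ := by
    rw [← Finset.sum_subset (Finset.subset_univ NE)
      (fun χ _ hχ => by rw [h0 χ hχ]; simp)]
    exact Finset.sum_congr rfl fun χ hχ => by rw [hε χ hχ]
  rw [h1, ← Equiv.sum_comp f]
  exact Finset.sum_congr rfl fun i _ => by rw [hD i]

/-- `(R1)` for an enumeration. -/
theorem r1 (p : ℕ) [Fact p.Prime] (hp2 : p ≠ 2) (P : Sylow p G) (hP : Nat.card P = p)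
    (hC : centralizer (P : Set G) = (P : Subgroup G)) (e t : ℕ)
    (he : (centralizer (P : Set G)).relIndex (normalizer (P : Set G)) = e) (ht : e * t = p - 1)
    (he2 : 2 ≤ e) (ht2 : 2 ≤ t) (j : Fin n) (hj : sx p e (D j) ≠ 0) {g : G}
    (hg : ¬ p ∣ orderOf g) (z : Fin n → ℤ) (hz : ∀ i, (f i : G → ℂ) g = z i) :
    ∑ i, sg p (D i) * z i = sx p e (D j) * z j := by
  obtain ⟨NE, X, ε, d, hR, -, -, hX, h1, h2, h3, h4⟩ := exists_rel p hp2 P hP hC e t he ht he2 ht2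
  have hjX : f j ∈ X := by
    by_contra h
    exact hj (by rw [← hD j]; exact h4 _ h)
  have hx : ∃ x ∈ P, x ≠ 1 := by
    have h5 : 1 < Nat.card P := by rw [hP]; exact (Fact.out : p.Prime).one_lt
    have : Nontrivial (P : Subgroup G) := (Finite.one_lt_card_iff_nontrivial).1 h5
    obtain ⟨x, hx⟩ := exists_ne (1 : (P : Subgroup G))
    exact ⟨x, x.2, fun h => hx (Subtype.ext h)⟩
  obtain ⟨x, hx, hx1⟩ := hx
  have h5 := (hR x hx hx1).rel (f j) hjX g hg
  rw [sum_enum f D hD h1 h2 (fun χ => (χ : G → ℂ) g), ← h3 _ hjX, hD j] at h5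
  have h6 : ((∑ i, sg p (D i) * z i : ℤ) : ℂ) = ((sx p e (D j) * z j : ℤ) : ℂ) := by
    push_cast
    rw [← hz j, ← h5]
    exact Finset.sum_congr rfl fun i _ => by rw [hz i]
  exact_mod_cast h6

/-- `(R2)` for an enumeration, odd automiser. -/
theorem r2 (p : ℕ) [Fact p.Prime] (hp2 : p ≠ 2) (P : Sylow p G) (hP : Nat.card P = p)
    (hC : centralizer (P : Set G) = (P : Subgroup G)) (e t : ℕ)
    (he : (centralizer (P : Set G)).relIndex (normalizer (P : Set G)) = e) (ht : e * t = p - 1)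
    (he2 : 2 ≤ e) (ht2 : 2 ≤ t) (hodd : Odd e) (j : Fin n) (hj : sx p e (D j) ≠ 0) {a b : G}
    (ha2 : a ^ 2 = 1) (hb2 : b ^ 2 = 1)
    (z w : Fin n → ℤ) (hz : ∀ i, (f i : G → ℂ) a = z i) (hw : ∀ i, (f i : G → ℂ) b = w i) :
    ∑ i, (sg p (D i) : ℚ) * (z i * w i / D i) = sx p e (D j) * (z j * w j / D j) := by
  obtain ⟨NE, X, ε, d, hR, -, -, hX, h1, h2, h3, h4⟩ := exists_rel p hp2 P hP hC e t he ht he2 ht2
  have hjX : f j ∈ X := by
    by_contra h
    exact hj (by rw [← hD j]; exact h4 _ h)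
  have hpp : p.Prime := Fact.out
  have hx : ∃ x ∈ P, x ≠ 1 := by
    have h5 : 1 < Nat.card P := by rw [hP]; exact hpp.one_lt
    have : Nontrivial (P : Subgroup G) := (Finite.one_lt_card_iff_nontrivial).1 h5
    obtain ⟨x, hx⟩ := exists_ne (1 : (P : Subgroup G))
    exact ⟨x, x.2, fun h => hx (Subtype.ext h)⟩
  obtain ⟨x, hx, hx1⟩ := hx
  have hpodd : Odd p := hpp.odd_of_ne_two hp2
  have hreg : ∀ g : G, g ^ 2 = 1 → ¬ p ∣ orderOf g := by
    intro g hg h
    have h7 : orderOf g ∣ 2 := orderOf_dvd_of_pow_eq_one hg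
    have h8 := h.trans h7
    have h9 := Nat.le_of_dvd (by norm_num) h8
    rcases hpp.two_le.lt_or_eq with h10 | h10
    · omega
    · exact hp2 h10.symm
  have h5 := (hR x hx hx1).relTwo (Θ := f j) hjX (a := a) (b := b) (hreg a ha2) (hreg b hb2) (by
    intro u v hu hv
    refine ne_mul_of_odd he hodd (zpowers_eq_of_card_prime hpp hP) (by rw [hP]; exact hpodd) hx
      hx1 ?_ ?_
    · obtain ⟨c, hc⟩ := isConj_iff.1 hu
      rw [← hc, conj_pow, ha2]; simp
    · obtain ⟨c, hc⟩ := isConj_iff.1 hv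
      rw [← hc, conj_pow, hb2]; simp)
  rw [sum_enum f D hD h1 h2 (fun χ => (χ : G → ℂ) a * (χ : G → ℂ) b / (χ : G → ℂ) 1),
    ← h3 _ hjX, hD j] at h5
  have h1i : ∀ i, (f i : G → ℂ) 1 = (D i : ℂ) := fun i => by
    rw [Cfsg.Agent.Blocks.Basic.irr_one_eq_charDegree (f i).2, hD i]
  have h6 : ((∑ i, (sg p (D i) : ℚ) * (z i * w i / D i) : ℚ) : ℂ) =
      ((sx p e (D j) * (z j * w j / D j) : ℚ) : ℂ) := by
    push_cast
    rw [← hz j, ← hw j, ← h1i j, ← h5]
    exact Finset.sum_congr rfl fun i _ => by rw [hz i, hw i, h1i i]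
  exact_mod_cast h6

/-- Two exceptional characters agree on `p`-regular elements. -/
theorem eq_exc (p : ℕ) [Fact p.Prime] (hp2 : p ≠ 2) (P : Sylow p G) (hP : Nat.card P = p)
    (hC : centralizer (P : Set G) = (P : Subgroup G)) (e t : ℕ)
    (he : (centralizer (P : Set G)).relIndex (normalizer (P : Set G)) = e) (ht : e * t = p - 1)
    (he2 : 2 ≤ e) (ht2 : 2 ≤ t) (j k : Fin n) (hj : sx p e (D j) ≠ 0) (hk : sx p e (D k) ≠ 0)
    {g : G} (hg : ¬ p ∣ orderOf g) : (f j : G → ℂ) g = (f k : G → ℂ) g := by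
  obtain ⟨NE, X, ε, d, hR, -, -, hX, h1, h2, h3, h4⟩ := exists_rel p hp2 P hP hC e t he ht he2 ht2
  have hjX : ∀ j, sx p e (D j) ≠ 0 → f j ∈ X := by
    intro j hj
    by_contra h
    exact hj (by rw [← hD j]; exact h4 _ h)
  have hx : ∃ x ∈ P, x ≠ 1 := by
    have h5 : 1 < Nat.card P := by rw [hP]; exact (Fact.out : p.Prime).one_lt
    have : Nontrivial (P : Subgroup G) := (Finite.one_lt_card_iff_nontrivial).1 h5
    obtain ⟨x, hx⟩ := exists_ne (1 : (P : Subgroup G))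
    exact ⟨x, x.2, fun h => hx (Subtype.ext h)⟩
  obtain ⟨x, hx, hx1⟩ := hx
  exact (hR x hx hx1).eq_of_mem (hjX j hj) (hjX k hk) hg

/-- `(R1)` for an enumeration, automiser of order `p - 1`. -/
theorem r1_one (p : ℕ) [Fact p.Prime] (hp2 : p ≠ 2) (P : Sylow p G) (hP : Nat.card P = p)
    (hC : centralizer (P : Set G) = (P : Subgroup G))
    (he : (centralizer (P : Set G)).relIndex (normalizer (P : Set G)) = p - 1) {g : G}
    (hg : ¬ p ∣ orderOf g) (z : Fin n → ℤ) (hz : ∀ i, (f i : G → ℂ) g = z i) :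
    ∑ i, sg p (D i) * z i = 0 := by
  have := Fintype.ofEquiv _ f
  have h5 := exists_rel_one p hp2 P hP hC he g hg
  rw [← Equiv.sum_comp f] at h5
  have h6 : ((∑ i, sg p (D i) * z i : ℤ) : ℂ) = ((0 : ℤ) : ℂ) := by
    push_cast
    rw [← h5]
    exact Finset.sum_congr rfl fun i _ => by rw [hz i, hD i]
  exact_mod_cast h6

end Enum

end Cfsg.Agent.M22.Residue
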