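import Cfsg.Agent.M22.Residue
import Cfsg.Agent.M22.Degrees

/-!
# Block relations for a partial enumeration of the irreducible characters
-/

set_option autoImplicit false

namespace Cfsg.Agent.M22.ResiduePartial

open Cfsg Subgroup Cfsg.Agent.Characters.Core Cfsg.Agent.SmallSimple.InvolColumn
open Cfsg.Agent.M22.Residue
open scoped ComplexConjugate

universe u
variable {G : Type u} [Group G] [Finite G]

/-- Enumeration of the characters whose degree is not divisible by `q`. -/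
theorem exists_partial_enum [Fintype (IrrCharacter G)] (q : ℕ) (m : List ℕ)
    (h : (m : Multiset ℕ) = (Finset.univ.val.map
      (fun χ : IrrCharacter G => charDegree (χ : G → ℂ))).filter fun d => ¬ q ∣ d) :
    ∃ F : Fin m.length → IrrCharacter G, Function.Injective F ∧
      (∀ i, charDegree (F i : G → ℂ) = m.get i) ∧
      ∀ χ : IrrCharacter G, ¬ q ∣ charDegree (χ : G → ℂ) → ∃ i, F i = χ := by
  classical
  let ι := {χ : IrrCharacter G // ¬ q ∣ charDegree (χ : G → ℂ)}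
  have h1 : (Finset.univ.val.map (fun χ : ι => charDegree (χ.1 : G → ℂ)) : Multiset ℕ) = m := by
    rw [h, Multiset.filter_map]
    have h2 : (Finset.univ.val.map (fun χ : ι => χ.1) : Multiset (IrrCharacter G)) =
        Finset.univ.val.filter (fun χ : IrrCharacter G => ¬ q ∣ charDegree (χ : G → ℂ)) :=
      Finset.univ_val_map_subtype_val _
    have h3 : (Finset.univ.val.map (fun χ : ι => charDegree (χ.1 : G → ℂ)) : Multiset ℕ) =
        (Finset.univ.val.map (fun χ : ι => χ.1)).map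
          (fun χ : IrrCharacter G => charDegree (χ : G → ℂ)) := by
      rw [Multiset.map_map]; rfl
    rw [h3, h2]
    rfl
  obtain ⟨f, hf⟩ := Degrees.exists_equiv_of_map_eq _ m h1
  refine ⟨fun i => (f i).1, fun i j hij => f.injective (Subtype.ext hij), hf, fun χ hχ => ?_⟩
  exact ⟨f.symm ⟨χ, hχ⟩, by simp⟩

section Enum

variable {n : ℕ} (F : Fin n → IrrCharacter G) (hF : Function.Injective F) (D : Fin n → ℕ)
  (hD : ∀ i, charDegree (F i : G → ℂ) = D i)

include hF hD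

/-- transport of a signed sum to an enumeration -/
theorem sum_enum {p : ℕ} (hp : 2 ≤ p)
    (hcov : ∀ χ : IrrCharacter G, ¬ p ∣ charDegree (χ : G → ℂ) → ∃ i, F i = χ)
    {NE : Finset (IrrCharacter G)} {ε : IrrCharacter G → ℤ}
    (hε : ∀ χ ∈ NE, ε χ = sg p (charDegree (χ : G → ℂ)))
    (h0 : ∀ χ : IrrCharacter G, χ ∉ NE → sg p (charDegree (χ : G → ℂ)) = 0)
    (Φ : IrrCharacter G → ℂ) :
    ∑ χ ∈ NE, (ε χ : ℂ) * Φ χ = ∑ i, (sg p (D i) : ℂ) * Φ (F i) := by
  classical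
  have hfin : Finite (IrrCharacter G) := finite_irr
  have := Fintype.ofFinite (IrrCharacter G)
  have h1 : ∑ χ ∈ NE, (ε χ : ℂ) * Φ χ =
      ∑ χ : IrrCharacter G, (sg p (charDegree (χ : G → ℂ)) : ℂ) * Φ χ := by
    rw [← Finset.sum_subset (Finset.subset_univ NE)
      (fun χ _ hχ => by rw [h0 χ hχ]; simp)]
    exact Finset.sum_congr rfl fun χ hχ => by rw [hε χ hχ]
  have h2 : ∑ i, (sg p (D i) : ℂ) * Φ (F i) =
      ∑ χ ∈ Finset.univ.image F, (sg p (charDegree (χ : G → ℂ)) : ℂ) * Φ χ := by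
    rw [Finset.sum_image (fun i _ j _ hij => hF hij)]
    exact Finset.sum_congr rfl fun i _ => by rw [hD i]
  rw [h1, h2]
  refine (Finset.sum_subset (Finset.subset_univ _) fun χ _ hχ => ?_).symm
  have h3 : p ∣ charDegree (χ : G → ℂ) := by
    by_contra hcon
    obtain ⟨i, hi⟩ := hcov χ hcon
    exact hχ (Finset.mem_image.2 ⟨i, Finset.mem_univ i, hi⟩)
  have h4 : charDegree (χ : G → ℂ) % p = 0 := Nat.mod_eq_zero_of_dvd h3
  rw [sg_def, if_neg (by omega), if_neg (by omega)]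
  simp

/-- `(R1)` for a partial enumeration, complex form. -/
theorem r1c (p : ℕ) [Fact p.Prime] (hp2 : p ≠ 2) (P : Sylow p G) (hP : Nat.card P = p)
    (hC : centralizer (P : Set G) = (P : Subgroup G)) (e t : ℕ)
    (he : (centralizer (P : Set G)).relIndex (normalizer (P : Set G)) = e) (ht : e * t = p - 1)
    (he2 : 2 ≤ e) (ht2 : 2 ≤ t)
    (hcov : ∀ χ : IrrCharacter G, ¬ p ∣ charDegree (χ : G → ℂ) → ∃ i, F i = χ)
    (j : Fin n) (hj : sx p e (D j) ≠ 0) {g : G}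
    (hg : ¬ p ∣ orderOf g) :
    ∑ i, (sg p (D i) : ℂ) * (F i : G → ℂ) g = sx p e (D j) * (F j : G → ℂ) g := by
  obtain ⟨NE, X, ε, d, hR, -, -, hX, h1, h2, h3, h4⟩ := exists_rel p hp2 P hP hC e t he ht he2 ht2
  have hjX : F j ∈ X := by
    by_contra h
    exact hj (by rw [← hD j]; exact h4 _ h)
  have hx : ∃ x ∈ P, x ≠ 1 := by
    have h5 : 1 < Nat.card P := by rw [hP]; exact (Fact.out : p.Prime).one_lt
    have : Nontrivial (P : Subgroup G) := (Finite.one_lt_card_iff_nontrivial).1 h5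
    obtain ⟨x, hx⟩ := exists_ne (1 : (P : Subgroup G))
    exact ⟨x, x.2, fun h => hx (Subtype.ext h)⟩
  obtain ⟨x, hx, hx1⟩ := hx
  have h5 := (hR x hx hx1).rel (F j) hjX g hg
  rw [sum_enum F hF D hD (Fact.out : p.Prime).two_le hcov h1 h2 (fun χ => (χ : G → ℂ) g),
    ← h3 _ hjX, hD j] at h5
  exact h5

/-- `(R1)` for a partial enumeration. -/
theorem r1 (p : ℕ) [Fact p.Prime] (hp2 : p ≠ 2) (P : Sylow p G) (hP : Nat.card P = p)
    (hC : centralizer (P : Set G) = (P : Subgroup G)) (e t : ℕ)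
    (he : (centralizer (P : Set G)).relIndex (normalizer (P : Set G)) = e) (ht : e * t = p - 1)
    (he2 : 2 ≤ e) (ht2 : 2 ≤ t)
    (hcov : ∀ χ : IrrCharacter G, ¬ p ∣ charDegree (χ : G → ℂ) → ∃ i, F i = χ)
    (j : Fin n) (hj : sx p e (D j) ≠ 0) {g : G}
    (hg : ¬ p ∣ orderOf g) (z : Fin n → ℤ) (hz : ∀ i, (F i : G → ℂ) g = z i) :
    ∑ i, sg p (D i) * z i = sx p e (D j) * z j := by
  have h5 := r1c F hF D hD p hp2 P hP hC e t he ht he2 ht2 hcov j hj hg
  have h6 : ((∑ i, sg p (D i) * z i : ℤ) : ℂ) = ((sx p e (D j) * z j : ℤ) : ℂ) := by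
    push_cast
    rw [← hz j, ← h5]
    exact Finset.sum_congr rfl fun i _ => by rw [hz i]
  exact_mod_cast h6

/-- `(R2)` for a partial enumeration, odd automiser. -/
theorem r2 (p : ℕ) [Fact p.Prime] (hp2 : p ≠ 2) (P : Sylow p G) (hP : Nat.card P = p)
    (hC : centralizer (P : Set G) = (P : Subgroup G)) (e t : ℕ)
    (he : (centralizer (P : Set G)).relIndex (normalizer (P : Set G)) = e) (ht : e * t = p - 1)
    (he2 : 2 ≤ e) (ht2 : 2 ≤ t) (hodd : Odd e)
    (hcov : ∀ χ : IrrCharacter G, ¬ p ∣ charDegree (χ : G → ℂ) → ∃ i, F i = χ)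
    (j : Fin n) (hj : sx p e (D j) ≠ 0) {a b : G}
    (ha2 : a ^ 2 = 1) (hb2 : b ^ 2 = 1)
    (z w : Fin n → ℤ) (hz : ∀ i, (F i : G → ℂ) a = z i) (hw : ∀ i, (F i : G → ℂ) b = w i) :
    ∑ i, (sg p (D i) : ℚ) * (z i * w i / D i) = sx p e (D j) * (z j * w j / D j) := by
  obtain ⟨NE, X, ε, d, hR, -, -, hX, h1, h2, h3, h4⟩ := exists_rel p hp2 P hP hC e t he ht he2 ht2
  have hjX : F j ∈ X := by
    by_contra h
    exact hj (by rw [← hD j]; exact h4 _ h)
  have hpp : p.Prime := Fact.out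
  have hx : ∃ x ∈ P, x ≠ 1 := by
    have h5 : 1 < Nat.card P := by rw [hP]; exact hpp.one_lt
    have : Nontrivial (P : Subgroup G) := (Finite.one_lt_card_iff_nontrivial).1 h5
    obtain ⟨x, hx⟩ := exists_ne (1 : (P : Subgroup G))
    exact ⟨x, x.2, fun h => hx (Subtype.ext h)⟩
  obtain ⟨x, hx, hx1⟩ := hx
  have hpodd : Odd p := hpp.odd_of_ne_two hp2
  have hreg : ∀ g : G, g ^ 2 = 1 → ¬ p ∣ orderOf g := by
    intro g hg h
    have h7 : orderOf g ∣ 2 := orderOf_dvd_of_pow_eq_one hg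
    have h9 := Nat.le_of_dvd (by norm_num) (h.trans h7)
    rcases hpp.two_le.lt_or_eq with h10 | h10
    · omega
    · exact hp2 h10.symm
  have h5 := (hR x hx hx1).relTwo (Θ := F j) hjX (a := a) (b := b) (hreg a ha2) (hreg b hb2) (by
    intro u v hu hv
    refine ne_mul_of_odd he hodd (zpowers_eq_of_card_prime hpp hP) (by rw [hP]; exact hpodd) hx
      hx1 ?_ ?_
    · obtain ⟨c, hc⟩ := isConj_iff.1 hu
      rw [← hc, conj_pow, ha2]; simp
    · obtain ⟨c, hc⟩ := isConj_iff.1 hv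
      rw [← hc, conj_pow, hb2]; simp)
  rw [sum_enum F hF D hD hpp.two_le hcov h1 h2
    (fun χ => (χ : G → ℂ) a * (χ : G → ℂ) b / (χ : G → ℂ) 1), ← h3 _ hjX, hD j] at h5
  have h1i : ∀ i, (F i : G → ℂ) 1 = (D i : ℂ) := fun i => by
    rw [Cfsg.Agent.Blocks.Basic.irr_one_eq_charDegree (F i).2, hD i]
  have h6 : ((∑ i, (sg p (D i) : ℚ) * (z i * w i / D i) : ℚ) : ℂ) =
      ((sx p e (D j) * (z j * w j / D j) : ℚ) : ℂ) := by
    push_cast
    rw [← hz j, ← hw j, ← h1i j, ← h5]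
    exact Finset.sum_congr rfl fun i _ => by rw [hz i, hw i, h1i i]
  exact_mod_cast h6

/-- Two exceptional characters agree on `p`-regular elements. -/
theorem eq_exc (p : ℕ) [Fact p.Prime] (hp2 : p ≠ 2) (P : Sylow p G) (hP : Nat.card P = p)
    (hC : centralizer (P : Set G) = (P : Subgroup G)) (e t : ℕ)
    (he : (centralizer (P : Set G)).relIndex (normalizer (P : Set G)) = e) (ht : e * t = p - 1)
    (he2 : 2 ≤ e) (ht2 : 2 ≤ t) (j k : Fin n) (hj : sx p e (D j) ≠ 0) (hk : sx p e (D k) ≠ 0)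
    {g : G} (hg : ¬ p ∣ orderOf g) : (F j : G → ℂ) g = (F k : G → ℂ) g := by
  obtain ⟨NE, X, ε, d, hR, -, -, hX, h1, h2, h3, h4⟩ := exists_rel p hp2 P hP hC e t he ht he2 ht2
  have hjX : ∀ j, sx p e (D j) ≠ 0 → F j ∈ X := by
    intro j hj
    by_contra h
    exact hj (by rw [← hD j]; exact h4 _ h)
  have hx : ∃ x ∈ P, x ≠ 1 := by
    have h5 : 1 < Nat.card P := by rw [hP]; exact (Fact.out : p.Prime).one_lt
    have : Nontrivial (P : Subgroup G) := (Finite.one_lt_card_iff_nontrivial).1 h5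
    obtain ⟨x, hx⟩ := exists_ne (1 : (P : Subgroup G))
    exact ⟨x, x.2, fun h => hx (Subtype.ext h)⟩
  obtain ⟨x, hx, hx1⟩ := hx
  exact (hR x hx hx1).eq_of_mem (hjX j hj) (hjX k hk) hg

/-- Class constants `(a, a; x)` for `x` of order `p`, through a partial enumeration, values
rational integers at `a`. -/
theorem exists_nat_classMul (p : ℕ) [Fact p.Prime] (hp2 : p ≠ 2) (P : Sylow p G)
    (hP : Nat.card P = p)
    (hC : centralizer (P : Set G) = (P : Subgroup G)) (e t : ℕ)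
    (he : (centralizer (P : Set G)).relIndex (normalizer (P : Set G)) = e) (ht : e * t = p - 1)
    (he2 : 2 ≤ e) (ht2 : 2 ≤ t)
    (hcov : ∀ χ : IrrCharacter G, ¬ p ∣ charDegree (χ : G → ℂ) → ∃ i, F i = χ)
    (j : Fin n) (hj : sx p e (D j) ≠ 0) {a b : G} (ha : ¬ p ∣ orderOf a) (hb : ¬ p ∣ orderOf b) :
    ∃ k : ℕ, ((centralizer ({a} : Set G)).index : ℂ) * ((centralizer ({b} : Set G)).index : ℂ) *
      (∑ i, (sg p (D i) : ℂ) * ((F i : G → ℂ) a * (F i : G → ℂ) b / (D i : ℂ)) -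
        sx p e (D j) * ((F j : G → ℂ) a * (F j : G → ℂ) b / (D j : ℂ))) = Nat.card G * k := by
  obtain ⟨NE, X, ε, d, hR, -, -, hX, h1, h2, h3, h4⟩ := exists_rel p hp2 P hP hC e t he ht he2 ht2
  have hjX : F j ∈ X := by
    by_contra h
    exact hj (by rw [← hD j]; exact h4 _ h)
  have hpp : p.Prime := Fact.out
  have hx : ∃ x ∈ P, x ≠ 1 := by
    have h5 : 1 < Nat.card P := by rw [hP]; exact hpp.one_lt
    have : Nontrivial (P : Subgroup G) := (Finite.one_lt_card_iff_nontrivial).1 h5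
    obtain ⟨x, hx⟩ := exists_ne (1 : (P : Subgroup G))
    exact ⟨x, x.2, fun h => hx (Subtype.ext h)⟩
  obtain ⟨x, hx, hx1⟩ := hx
  obtain ⟨k, hk, -⟩ := (hR x hx hx1).exists_nat_classMul (Θ := F j) hjX (a := a) (b := b) ha hb
  refine ⟨k, ?_⟩
  rw [sum_enum F hF D hD hpp.two_le hcov h1 h2
    (fun χ => (χ : G → ℂ) a * (χ : G → ℂ) b / (χ : G → ℂ) 1), ← h3 _ hjX, hD j] at hk
  have h1i : ∀ i, (F i : G → ℂ) 1 = (D i : ℂ) := fun i => by
    rw [Cfsg.Agent.Blocks.Basic.irr_one_eq_charDegree (F i).2, hD i]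
  rw [← hk, h1i j]
  simp only [h1i]

end Enum

end Cfsg.Agent.M22.ResiduePartial
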