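import Cfsg.Agent.M22.NonSelfCent
import Cfsg.Agent.SmallSimple.InvolColumn
import Cfsg.Agent.SmallSimple.DegreeCheck

/-!
# Columns of involutions and the degrees of the principal 11-block
-/

set_option autoImplicit false

namespace Cfsg.Agent.M22.SevenColumn

open Cfsg Subgroup Cfsg.Agent.Characters.Core
open Cfsg.Agent.SmallSimple Cfsg.Agent.SmallSimple.DegreeData

universe u

/-! ### The search -/

/-- Candidates for the value at an involution of a character of signed degree `c`; `h` is the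
number of conjugates and `b` a bound for the absolute value. -/
def vals (h b : ℕ) (c : ℤ) : List ℤ :=
  ((List.range (2 * (b / (c.natAbs / Nat.gcd c.natAbs h)) + 1)).map fun i : ℕ =>
    ((i : ℤ) - (b / (c.natAbs / Nat.gcd c.natAbs h) : ℕ)) *
      (c.natAbs / Nat.gcd c.natAbs h : ℕ)).filter
    fun z => decide (z.natAbs < c.natAbs) && ((c.natAbs : ℤ) - z) % 4 == 0

theorem mem_vals {h b : ℕ} {c z : ℤ} (hc : c ≠ 0) (hz : z.natAbs < c.natAbs) (hb : z.natAbs ≤ b)
    (h4 : (4 : ℤ) ∣ (c.natAbs : ℤ) - z) (hd : (c.natAbs : ℤ) ∣ (h : ℤ) * z) : z ∈ vals h b c := by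
  have hc' : 0 < c.natAbs := Int.natAbs_pos.2 hc
  obtain ⟨g, m, k, hg, hmk, hm, hk⟩ := Nat.exists_coprime' (m := c.natAbs) (n := h)
    (Nat.gcd_pos_of_pos_left _ hc')
  have hgg : Nat.gcd c.natAbs h = g := by
    rw [hm, hk, Nat.gcd_mul_right, hmk.gcd_eq_one, one_mul]
  have hdiv : c.natAbs / Nat.gcd c.natAbs h = m := by
    rw [hgg, hm, Nat.mul_div_cancel _ hg]
  have hm0 : 0 < m := by
    rcases Nat.eq_zero_or_pos m with h0 | h0
    · rw [h0, zero_mul] at hm; omega
    · exact h0
  have hmz : (m : ℤ) ∣ z := by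
    have h1 : (m : ℤ) * g ∣ (k : ℤ) * g * z := by
      have h2 : (h : ℤ) = k * g := by exact_mod_cast hk
      have h3 : (c.natAbs : ℤ) = m * g := by exact_mod_cast hm
      rwa [h2, h3] at hd
    have h2 : (m : ℤ) ∣ (k : ℤ) * z := by
      have h3 : (k : ℤ) * g * z = (k * z) * g := by ring
      rw [h3] at h1
      exact Int.dvd_of_mul_dvd_mul_right (by exact_mod_cast hg.ne') h1
    exact (Int.isCoprime_iff_gcd_eq_one.2 (by exact_mod_cast hmk)).dvd_of_dvd_mul_left h2
  obtain ⟨w, rfl⟩ := hmz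
  have hw : w.natAbs ≤ b / m := by
    rw [Nat.le_div_iff_mul_le hm0]
    rw [Int.natAbs_mul, Int.natAbs_natCast, mul_comm] at hb
    exact hb
  unfold vals
  rw [hdiv, List.mem_filter]
  refine ⟨List.mem_map.2 ⟨(w + (b / m : ℕ)).toNat, List.mem_range.2 (by omega), ?_⟩, ?_⟩
  · rw [Int.toNat_of_nonneg (by omega)]
    ring
  · rw [Bool.and_eq_true, decide_eq_true_eq, beq_iff_eq]
    exact ⟨hz, Int.emod_eq_zero_of_dvd h4⟩

/-- sign -/
def sg (c : ℤ) : ℤ := if 0 < c then 1 else -1

/-- The test at the end: there is no column. -/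
def fin (n h C : ℕ) (s A Q N : ℤ) (fl : Bool) : Bool :=
  !(decide ((sg s * A).natAbs < s.natAbs) && ((((s.natAbs : ℤ) - sg s * A) % 4 == 0) &&
    ((((h : ℤ) * A) % s == 0) && ((Q - A * A * (n / s) == 0) &&
    (decide (N + 2 * (A * A) ≤ C) &&
    (fl || ((s == -160) && ((sg s * A - 160) % 28 == 0))))))))

/-- The recursion over the nonexceptional characters. -/
def go (n h b C : ℕ) (s : ℤ) : List ℤ → ℤ → ℤ → ℤ → Bool → Bool
  | [], A, Q, N, fl => fin n h C s A Q N fl
  | c :: l, A, Q, N, fl => (vals h b c).all fun v =>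
      go n h b C s l (A + sg c * v) (Q + v * v * (n / c)) (N + v * v)
        (fl || (c == -120 && (v - 120) % 28 == 0))

theorem go_spec {ι : Type*} (z f : ι → ℤ) (n h b C : ℕ) (s : ℤ) (l : List ι)
    (hl : ∀ χ ∈ l, z χ ∈ vals h b (f χ)) :
    ∀ (A Q N : ℤ) (fl : Bool), go n h b C s (l.map f) A Q N fl = true →
      fin n h C s (A + (l.map fun χ => sg (f χ) * z χ).sum)
        (Q + (l.map fun χ => z χ * z χ * (n / f χ)).sum)
        (N + (l.map fun χ => z χ * z χ).sum)
        (fl || l.any fun χ => f χ == -120 && (z χ - 120) % 28 == 0) = true := by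
  induction l with
  | nil =>
    intro A Q N fl hgo
    simpa [go] using hgo
  | cons χ l ih =>
    intro A Q N fl hgo
    rw [List.map_cons, go, List.all_eq_true] at hgo
    have h1 := ih (fun χ' h' => hl χ' (List.mem_cons_of_mem _ h')) _ _ _ _
      (hgo (z χ) (hl χ List.mem_cons_self))
    rw [List.map_cons, List.map_cons, List.map_cons, List.sum_cons, List.sum_cons, List.sum_cons,
      List.any_cons, ← add_assoc, ← add_assoc, ← add_assoc, ← Bool.or_assoc]
    exact h1

/-- The complete test for a list of signed degrees. -/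
def test (n h b C : ℕ) (l : List ℤ) : Bool :=
  (!l.contains (-120) && !(1 + l.sum == -160)) ||
    go n h b C (1 + l.sum) l 1 n 1 false

variable {G : Type u} [Group G] [Finite G]

theorem test_degs (n h b C : ℕ) (hb : (n = 443520 ∧ h = 220 ∧ b = 44 ∧ C = 2016) ∨
      (n = 443520 ∧ h = 66 ∧ b = 81 ∧ C = 6720))
    {M : Ideal AlgInt} (Q : Sylow 11 G)
    [Fact (Nat.Prime 11)] (D : BlockData 11 M Q 5 2) (hQ : Nat.card Q = 11)
    (hn : Nat.card G = 443520)
    (h3 : ∀ z ∈ D.degs, (decide (2 ≤ z.natAbs) && decide (z.natAbs < 666)) = true)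
    (h4 : decide (D.dexc.natAbs < 666) = true) :
    test n h b C D.degs = true := by
  have key : (test 443520 220 44 2016 D.degs && test 443520 66 81 6720 D.degs) = true :=
    DegreeCheck.degs_check D hQ rfl hn (L := [(2, 7), (3, 2), (5, 1), (7, 1), (11, 1)])
      (by norm_num) (by norm_num)
      (F := fun z => decide (2 ≤ z.natAbs) && decide (z.natAbs < 666))
      (FX := fun z => decide (z.natAbs < 666))
      (C := [-560, -384, -252, -120, -32, -21, -10, 12, 45, 56, 144, 210, 320])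
      (Ds := [-336, -160, -105, -72, -28, -6, 5, 16, 60, 126, 192, 280]) h3 h4 (by decide)
      (o := 571) (w := 400) (M := 0) (wt := fun _ => 0) (V := 0) (Or.inl rfl)
      (P := fun l => test 443520 220 44 2016 l && test 443520 66 81 6720 l)
      (by decide +kernel)
  rw [Bool.and_eq_true] at key
  rcases hb with ⟨rfl, rfl, rfl, rfl⟩ | ⟨rfl, rfl, rfl, rfl⟩
  · exact key.1
  · exact key.2

end Cfsg.Agent.M22.SevenColumn
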