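import Cfsg.Agent.M22.Sylow11
import Cfsg.Agent.M22.SevenColumn
import Cfsg.Agent.M23.Block

/-!
# The Sylow 7-subgroups of a simple group of order 443520: character theoretic eliminations

`P` a Sylow 7-subgroup, `C(P) = P × K`, `e = |N(P) : C(P)|`.
* `false_of_two`: `e = 2`, `K ≠ 1` is impossible;
* `false_of_fifteen`: `e = 3, 6` and `K` with elements of order 3 and 5 is impossible;
* `false_of_six`: `e = 6`, `t ∈ K` an involution with `|C(t)| = 2016, 6720` is impossible.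
-/

set_option autoImplicit false
set_option linter.unusedSectionVars false

namespace Cfsg.Agent.M22.SevenChar

open Cfsg Subgroup Cfsg.Agent.Characters.Core
open Cfsg.Agent.Blocks.Basic (irr_one_eq_charDegree)
open Cfsg.Agent.SmallSimple Cfsg.Agent.SmallSimple.DegreeData
open Cfsg.Agent.M22.NonSelfCent Cfsg.Agent.M22.SevenColumn

universe u

variable {G : Type u} [Group G] [Finite G]

theorem not_prime (hcard : Nat.card G = 443520) : ¬ (Nat.card G).Prime := by
  rw [hcard]; norm_num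

theorem degree_dvd (hcard : Nat.card G = 443520) (χ : IrrCharacter G) :
    charDegree (χ : G → ℂ) ∣ 443520 :=
  hcard ▸ Cfsg.Agent.Blocks.Knorr.charDegree_dvd χ.2

theorem degree_lt (hcard : Nat.card G = 443520) (χ : IrrCharacter G) :
    charDegree (χ : G → ℂ) < 666 := by
  have h2 := Sylow11.sq_le χ
  rw [hcard] at h2
  nlinarith

theorem degree_one : charDegree (((⟨1, isIrr_one⟩ : IrrCharacter G)) : G → ℂ) = 1 := by
  apply Cfsg.Agent.Blocks.Basic.charDegree_of_eq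
  simp

/-- The block data at 11, and what it says about all characters. -/
theorem exists_data [IsSimpleGroup G] (hcard : Nat.card G = 443520) [Fact (Nat.Prime 11)]
    (Q : Sylow 11 G) : ∃ M, ∃ D : BlockData 11 M Q 5 2,
      (∀ χ : IrrCharacter G, (χ ∈ D.one :: D.l ∨ χ ∈ D.X) ∨ 11 ∣ charDegree (χ : G → ℂ)) ∧
      (∀ χ : IrrCharacter G, χ ∉ D.one :: D.l → χ ∉ D.X → ∀ x ∈ Q, x ≠ 1 →
        (χ : G → ℂ) x = 0) := by
  obtain ⟨hC, he⟩ := Sylow11.sylow_eleven hcard Q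
  have hQ : Nat.card Q = 11 := Degrees.card_sylow_eq (m := 40320) (by rw [hcard]) (by norm_num) Q
  obtain ⟨M, hM⟩ := Cfsg.Agent.Blocks.ExistsModular.exists_isPModular (p := 11) (by norm_num)
  obtain ⟨D⟩ := exists_blockData 11 (by norm_num) M hM Q hQ 5 2 he (by norm_num)
  refine ⟨M, D, fun χ => ?_, fun χ h1 h2 x hx hx1 => ?_⟩
  · by_cases h : χ ∈ principalBlock M G
    · exact Or.inl ((D.mem_block χ).1 h)
    · exact Or.inr (D.dvd_degree hM hQ hC h)
  · refine D.vanish hM hQ hC (fun h => ?_) hx hx1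
    rcases (D.mem_block χ).1 h with h3 | h3
    · exact h1 h3
    · exact h2 h3

theorem residue [IsSimpleGroup G] (hcard : Nat.card G = 443520) (χ : IrrCharacter G) :
    charDegree (χ : G → ℂ) % 11 = 0 ∨ charDegree (χ : G → ℂ) % 11 = 1 ∨
      charDegree (χ : G → ℂ) % 11 = 10 ∨ charDegree (χ : G → ℂ) % 11 = 5 ∨
      charDegree (χ : G → ℂ) % 11 = 6 := by
  have : Fact (Nat.Prime 11) := ⟨by norm_num⟩
  obtain ⟨Q⟩ : Nonempty (Sylow 11 G) := inferInstance
  have hQ : Nat.card Q = 11 := Degrees.card_sylow_eq (m := 40320) (by rw [hcard]) (by norm_num) Q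
  obtain ⟨M, D, h, -⟩ := exists_data hcard Q
  rcases h χ with (h | h) | h
  · have h1 := D.sd_modEq hQ h
    have h2 := D.natAbs_sd h
    rw [Int.ModEq] at h1
    push_cast at h1
    omega
  · have h1 := D.dexc_modEq hQ (by norm_num)
    have h2 := D.natAbs_dexc
    rw [← D.deg_X χ h] at h2
    rw [Int.ModEq] at h1
    push_cast at h1
    omega
  · omega

/-! ### The case of two characters -/

theorem two_term : ∀ D < 666, (14 < D ∧ 443520 % D = 0 ∧
    (D % 11 = 0 ∨ D % 11 = 1 ∨ D % 11 = 10 ∨ D % 11 = 5 ∨ D % 11 = 6)) →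
    (D % 7 = 1 → 443520 % (D + 1) ≠ 0) ∧ (D % 7 = 6 → 443520 % (D - 1) ≠ 0) := by
  decide +kernel

theorem false_of_two [IsSimpleGroup G] (hcard : Nat.card G = 443520) [Fact (Nat.Prime 7)]
    (P : Sylow 7 G) {K : Subgroup G} (hKne : K ≠ ⊥)
    (hK : K ≤ centralizer (P : Set G)) (hcop : Nat.Coprime 7 (Nat.card K))
    (he : (centralizer (P : Set G)).relIndex (normalizer (P : Set G)) = 2) : False := by
  classical
  have hP : Nat.card P = 7 := Degrees.card_sylow_eq (m := 63360) (by rw [hcard]) (by norm_num) P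
  obtain ⟨NE, X, ε, d, B⟩ := exists_kblock (not_prime hcard) 7 (by norm_num) P hP 2 3 he
    (by norm_num)
  obtain ⟨Θ, hΘ⟩ : X.Nonempty := by
    rw [← Finset.card_pos, B.card_X]; norm_num
  have hrel1 := B.rel_one Θ hΘ
  rw [← Finset.add_sum_erase NE _ B.one_mem, B.eps_one, degree_one] at hrel1
  have h1 : (NE.erase ⟨1, isIrr_one⟩).card = 1 := by
    rw [Finset.card_erase_of_mem B.one_mem, B.card_NE]
  obtain ⟨χ, hχ⟩ := Finset.card_eq_one.1 h1
  rw [hχ, Finset.sum_singleton] at hrel1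
  have hχ' : χ ∈ NE.erase ⟨1, isIrr_one⟩ := by rw [hχ]; exact Finset.mem_singleton_self χ
  obtain ⟨a, ha, hdeg, -⟩ := B.ne_data K hK hcop hKne χ (Finset.mem_of_mem_erase hχ')
    (Finset.ne_of_mem_erase hχ')
  have hlt := degree_lt hcard χ
  have hDd := degree_dvd hcard χ
  have hFd := degree_dvd hcard Θ
  have hpos : 0 < charDegree (Θ : G → ℂ) := Nat.pos_of_dvd_of_pos hFd (by norm_num)
  have hres := residue hcard χ
  generalize charDegree (χ : G → ℂ) = D at *
  generalize charDegree (Θ : G → ℂ) = F at *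
  have h3 := two_term D hlt ⟨by omega, Nat.mod_eq_zero_of_dvd hDd, hres⟩
  rcases hdeg with ⟨hε, hdeg⟩ | ⟨hε, hdeg⟩
  · rw [hε] at hrel1
    have h4 : F = D + 1 := by
      rcases B.hd with hd | hd <;> rw [hd] at hrel1 <;> push_cast at hrel1 <;> omega
    rw [h4] at hFd
    exact h3.1 (by omega) (Nat.mod_eq_zero_of_dvd hFd)
  · rw [hε] at hrel1
    have h4 : F = D - 1 := by
      rcases B.hd with hd | hd <;> rw [hd] at hrel1 <;> push_cast at hrel1 <;> omega
    rw [h4] at hFd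
    exact h3.2 (by omega) (Nat.mod_eq_zero_of_dvd hFd)

/-! ### Elements of order 3 and 5 in `K` -/

theorem odd_divs : ∀ D < 666, (443520 % D = 0 ∧ D % 2 = 1 ∧ D % 5 ≠ 0 ∧ D % 9 ≠ 0 ∧ D % 7 ≠ 0) →
    D = 1 ∨ D = 3 ∨ D = 11 ∨ D = 33 := by
  decide +kernel

theorem false_of_fifteen [IsSimpleGroup G] (hcard : Nat.card G = 443520) [Fact (Nat.Prime 7)]
    (P : Sylow 7 G) {K : Subgroup G}
    (hK : K ≤ centralizer (P : Set G)) (hcop : Nat.Coprime 7 (Nat.card K)) {e : ℕ}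
    (he : (centralizer (P : Set G)).relIndex (normalizer (P : Set G)) = e) (he36 : e = 3 ∨ e = 6)
    (h15 : 15 ∣ Nat.card K) : False := by
  classical
  have hP : Nat.card P = 7 := Degrees.card_sylow_eq (m := 63360) (by rw [hcard]) (by norm_num) P
  have hKne : K ≠ ⊥ := by
    rintro rfl
    rw [Subgroup.card_bot] at h15
    norm_num at h15
  have hte : e * (6 / e) = 7 - 1 := by
    rcases he36 with rfl | rfl <;> norm_num
  obtain ⟨M, NE, X, ε, d, S, BB⟩ := M23.Block.exists_blk (not_prime hcard) 7 (by norm_num) P hP e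
    (6 / e) he hte
  have B := BB.kb
  -- elements of order 3 and 5
  have : Fact (Nat.Prime 3) := ⟨by norm_num⟩
  have : Fact (Nat.Prime 5) := ⟨by norm_num⟩
  obtain ⟨k3, hk3⟩ := exists_prime_orderOf_dvd_card' (G := K) 3
    ((show 3 ∣ 15 by norm_num).trans h15)
  obtain ⟨k5, hk5⟩ := exists_prime_orderOf_dvd_card' (G := K) 5
    ((show 5 ∣ 15 by norm_num).trans h15)
  have h3 : ∀ χ : IrrCharacter G, χ ∈ NE ∨ χ ∈ X → ¬ 3 ^ 2 ∣ charDegree (χ : G → ℂ) := fun χ hχ =>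
    BB.not_dvd hP (by norm_num) (by norm_num) (by rw [hcard]; norm_num) (by rw [hcard]; norm_num)
      (hK k3.2) (by rw [Subgroup.orderOf_coe, hk3]) hχ
  have h5 : ∀ χ : IrrCharacter G, χ ∈ NE ∨ χ ∈ X → ¬ 5 ^ 1 ∣ charDegree (χ : G → ℂ) := fun χ hχ =>
    BB.not_dvd hP (by norm_num) (by norm_num) (by rw [hcard]; norm_num) (by rw [hcard]; norm_num)
      (hK k5.2) (by rw [Subgroup.orderOf_coe, hk5]) hχ
  obtain ⟨Θ, hΘ⟩ : X.Nonempty := by
    rw [← Finset.card_pos, B.card_X]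
    rcases he36 with rfl | rfl <;> norm_num
  have hrel1 := B.rel_one Θ hΘ
  rw [← Finset.add_sum_erase NE _ B.one_mem, B.eps_one, degree_one] at hrel1
  -- all characters have even degree
  have hNEe : ∀ χ ∈ NE.erase ⟨1, isIrr_one⟩, 2 ∣ charDegree (χ : G → ℂ) := by
    intro χ hχ
    by_contra h2
    have hχNE := Finset.mem_of_mem_erase hχ
    obtain ⟨a, ha, hdeg, -⟩ := B.ne_data K hK hcop hKne χ hχNE (Finset.ne_of_mem_erase hχ)
    have h6 := h3 χ (Or.inl hχNE)
    have h7 := h5 χ (Or.inl hχNE)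
    rw [Nat.dvd_iff_mod_eq_zero] at h2 h6 h7
    norm_num at h6 h7
    have h8 := odd_divs _ (degree_lt hcard χ) ⟨Nat.mod_eq_zero_of_dvd (degree_dvd hcard χ),
      by omega, by omega, by omega, by rcases hdeg with ⟨-, h⟩ | ⟨-, h⟩ <;> omega⟩
    rcases hdeg with ⟨-, h⟩ | ⟨-, h⟩ <;> omega
  have hΘe : 2 ∣ charDegree (Θ : G → ℂ) := by
    by_contra h2
    obtain ⟨a, ha, hdeg, -⟩ := B.x_data K hK hcop hKne Θ hΘ
    have h6 := h3 Θ (Or.inr hΘ)
    have h7 := h5 Θ (Or.inr hΘ)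
    rw [Nat.dvd_iff_mod_eq_zero] at h2 h6 h7
    norm_num at h6 h7
    have h8 := odd_divs _ (degree_lt hcard Θ) ⟨Nat.mod_eq_zero_of_dvd (degree_dvd hcard Θ),
      by omega, by omega, by omega,
      by rcases he36 with rfl | rfl <;> rcases hdeg with ⟨-, h⟩ | ⟨-, h⟩ <;> omega⟩
    rcases he36 with rfl | rfl <;> rcases hdeg with ⟨-, h⟩ | ⟨-, h⟩ <;> omega
  have h1 : (2 : ℤ) ∣ ∑ χ ∈ NE.erase ⟨1, isIrr_one⟩, ε χ * (charDegree (χ : G → ℂ) : ℤ) := by
    apply Finset.dvd_sum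
    intro χ hχ
    exact Dvd.dvd.mul_left (by exact_mod_cast hNEe χ hχ) _
  have h2 : (2 : ℤ) ∣ d * (charDegree (Θ : G → ℂ) : ℤ) :=
    Dvd.dvd.mul_left (by exact_mod_cast hΘe) _
  rw [← hrel1] at h2
  have h3 := (Int.dvd_add_left h1).1 h2
  revert h3
  decide

/-! ### Columns of involutions -/

theorem sg_eq {ε : ℤ} (hε : ε = 1 ∨ ε = -1) {n : ℕ} (hn : 0 < n) : sg (ε * n) = ε := by
  unfold sg
  rcases hε with rfl | rfl
  · rw [if_pos (by omega)]
  · rw [if_neg (by omega)]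

theorem false_of_degree [IsSimpleGroup G] (hcard : Nat.card G = 443520) {t : G}
    (ht : t * t = 1) (ht1 : t ≠ 1)
    (hC : Nat.card (centralizer ({t} : Set G)) = 2016 ∨
      Nat.card (centralizer ({t} : Set G)) = 6720) (χ₀ : IrrCharacter G)
    (hdeg : charDegree (χ₀ : G → ℂ) = 120 ∨ charDegree (χ₀ : G → ℂ) = 160) (m : ℤ)
    (hval : (χ₀ : G → ℂ) t = (((charDegree (χ₀ : G → ℂ) : ℤ) - 28 * m : ℤ) : ℂ)) : False := by
  classical
  have : Fact (Nat.Prime 11) := ⟨by norm_num⟩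
  obtain ⟨Q⟩ : Nonempty (Sylow 11 G) := inferInstance
  have hQ : Nat.card Q = 11 := Degrees.card_sylow_eq (m := 40320) (by rw [hcard]) (by norm_num) Q
  obtain ⟨hCQ, heQ⟩ := Sylow11.sylow_eleven hcard Q
  obtain ⟨M, D, hD1, hD2⟩ := exists_data hcard Q
  have hG := not_prime hcard
  have hcomm : commutator G = ⊤ := MTwelve.SmallDegree.commutator_eq_top_of_card hG
  have ht2 : t ^ 2 = 1 := by rw [pow_two, ht]
  -- the values at `t`
  have hz : ∀ χ : IrrCharacter G, ∃ z : ℤ, (χ : G → ℂ) t = z := fun χ => by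
    obtain ⟨n, z, -, h, -, -⟩ := InvolColumn.exists_int_of_char (isIrr_isCharacter χ.2) ht2
    exact ⟨z, h⟩
  choose z hz using hz
  have hone : D.one = ⟨1, isIrr_one⟩ := Subtype.ext D.coe_one
  have hz1 : ∀ χ : IrrCharacter G, χ ≠ ⟨1, isIrr_one⟩ → |z χ| < charDegree (χ : G → ℂ) ∧
      (4 : ℤ) ∣ charDegree (χ : G → ℂ) - z χ := by
    intro χ hχ
    obtain ⟨z', h1, h2, h3⟩ := InvolColumn.exists_int hcomm χ.2
      (fun h => hχ (Subtype.ext h)) ht2 ht1
    have h4 : z' = z χ := by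
      have h5 := h1.symm.trans (hz χ)
      exact_mod_cast h5
    subst h4
    exact ⟨h2, h3⟩
  have hlone : ∀ χ ∈ D.l, χ ≠ ⟨1, isIrr_one⟩ := by
    rintro χ hχ rfl
    have h1 := D.nodup
    rw [List.nodup_cons, hone] at h1
    exact h1.1 hχ
  have hXone : ∀ Θ ∈ D.X, Θ ≠ ⟨1, isIrr_one⟩ := by
    rintro Θ hΘ rfl
    have h1 := D.notMem_X D.one List.mem_cons_self
    rw [hone] at h1
    exact h1 hΘ
  have hpos : ∀ χ : IrrCharacter G, 0 < charDegree (χ : G → ℂ) := fun χ =>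
    Nat.pos_of_dvd_of_pos (degree_dvd hcard χ) (by norm_num)
  have hne1 : ∀ χ : IrrCharacter G, χ ≠ ⟨1, isIrr_one⟩ → charDegree (χ : G → ℂ) ≠ 1 :=
    fun χ hχ h => hχ (Degrees.eq_one_of_charDegree hG χ h)
  -- numbers
  obtain ⟨n, h, b, C, hb, hCt⟩ : ∃ n h b C : ℕ, ((n = 443520 ∧ h = 220 ∧ b = 44 ∧ C = 2016) ∨
      (n = 443520 ∧ h = 66 ∧ b = 81 ∧ C = 6720)) ∧
      Nat.card (centralizer ({t} : Set G)) = C := by
    rcases hC with hC | hC
    · exact ⟨_, _, _, _, Or.inl ⟨rfl, rfl, rfl, rfl⟩, hC⟩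
    · exact ⟨_, _, _, _, Or.inr ⟨rfl, rfl, rfl, rfl⟩, hC⟩
  have hn : n = 443520 := by omega
  have hh : (centralizer ({t} : Set G)).index = h := by
    have h2 := (centralizer ({t} : Set G)).card_mul_index
    rw [hcard, hCt] at h2
    rcases hb with ⟨-, rfl, -, rfl⟩ | ⟨-, rfl, -, rfl⟩ <;> omega
  have hindex : ∀ χ : IrrCharacter G, (charDegree (χ : G → ℂ) : ℤ) ∣ (h : ℤ) * z χ := by
    intro χ
    have := InvolColumn.dvd_index_mul χ.2 (hz χ)
    rwa [hh] at this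
  have hbound : ∀ χ : IrrCharacter G, (z χ).natAbs ≤ b := by
    intro χ
    have h1 := InvolColumn.sum_sq_le {χ} t z (fun χ _ => hz χ)
    rw [Finset.sum_singleton, hCt] at h1
    by_contra hcon
    have h2 : b + 1 ≤ (z χ).natAbs := by omega
    have h3 : ((b : ℤ) + 1) ^ 2 ≤ (z χ) ^ 2 := by
      have h5 : ((b + 1 : ℕ) : ℤ) ≤ ((z χ).natAbs : ℤ) := by exact_mod_cast h2
      rw [← Int.natAbs_sq (z χ)]
      exact pow_le_pow_left₀ (by positivity) (by push_cast at h5 ⊢; exact h5) 2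
    rcases hb with ⟨-, -, rfl, rfl⟩ | ⟨-, -, rfl, rfl⟩ <;> norm_num at h3 h1 <;> omega
  -- the test
  obtain ⟨Θ, hΘ⟩ := D.exists_X (by norm_num)
  have htest := test_degs n h b C hb Q D hQ hcard
    (by
      intro c hc
      obtain ⟨χ, hχ, rfl⟩ := List.mem_map.1 hc
      rw [Bool.and_eq_true, decide_eq_true_eq, decide_eq_true_eq,
        D.natAbs_sd (List.mem_cons_of_mem _ hχ)]
      have h1 := hpos χ
      have h2 := hne1 χ (hlone χ hχ)
      exact ⟨by omega, degree_lt hcard χ⟩)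
    (by
      rw [decide_eq_true_eq, D.natAbs_dexc, ← D.deg_X Θ hΘ]
      exact degree_lt hcard Θ)
  have hs := D.dexc_eq (by norm_num)
  -- the flag
  have hχ₀ : χ₀ ≠ ⟨1, isIrr_one⟩ := by
    rintro rfl
    rw [degree_one] at hdeg
    omega
  have hχ₀z : z χ₀ = (charDegree (χ₀ : G → ℂ) : ℤ) - 28 * m := by
    have := (hz χ₀).symm.trans hval
    exact_mod_cast this
  have hflag : (∃ χ ∈ D.l, D.sd χ = -120 ∧ (z χ - 120) % 28 = 0) ∨
      (D.dexc = -160 ∧ ∃ Θ' ∈ D.X, (z Θ' - 160) % 28 = 0) := by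
    rcases hD1 χ₀ with (h1 | h1) | h1
    · left
      have h2 := D.sd_modEq hQ h1
      have h3 := D.natAbs_sd h1
      rw [Int.ModEq] at h2
      push_cast at h2
      rcases List.mem_cons.1 h1 with h4 | h4
      · exact absurd (h4.trans hone) hχ₀
      · exact ⟨χ₀, h4, by omega, by omega⟩
    · right
      have h2 := D.dexc_modEq hQ (by norm_num)
      have h3 := D.natAbs_dexc
      rw [← D.deg_X χ₀ h1] at h3
      rw [Int.ModEq] at h2
      push_cast at h2
      exact ⟨by omega, χ₀, h1, by omega⟩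
    · omega
  -- relations
  have htord : ¬ 11 ∣ orderOf t := by
    intro h1
    have h2 : orderOf t ∣ 2 := orderOf_dvd_of_pow_eq_one ht2
    have h3 := Nat.le_of_dvd (by norm_num) (h1.trans h2)
    omega
  have hR1 : ∀ Θ ∈ D.X, 1 + (D.l.map fun χ => D.ε χ * z χ).sum = D.d * z Θ := by
    intro Θ hΘ
    have h1 := D.rel Θ hΘ t htord
    rw [hz Θ] at h1
    have h2 : (D.l.map fun χ => (D.ε χ : ℂ) * (χ : G → ℂ) t).sum =
        (((D.l.map fun χ => D.ε χ * z χ).sum : ℤ) : ℂ) := by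
      rw [Int.cast_list_sum, List.map_map]
      congr 1
      refine List.map_congr_left fun χ _ => ?_
      rw [hz χ]
      simp
    rw [h2] at h1
    exact_mod_cast h1
  obtain ⟨x, hx, hxo⟩ := DetKernel.exists_generator Q hQ
  have hx1 : x ≠ 1 := by
    rintro rfl
    rw [orderOf_one] at hxo
    omega
  have hrel : InvolColumn.Rel x (fun g => ¬ 11 ∣ orderOf g) (D.one :: D.l).toFinset D.X D.ε D.d :=
    { disj := Finset.disjoint_left.2 fun χ h1 => D.notMem_X χ (List.mem_toFinset.1 h1)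
      val := fun χ h1 => D.val' (List.mem_toFinset.1 h1) hx hx1
      out := fun χ h1 h2 => hD2 χ (fun h => h1 (List.mem_toFinset.2 h)) h2 x hx hx1
      hd := D.d_mem
      rel := fun Θ hΘ g hg => by
        rw [List.sum_toFinset _ D.nodup, List.map_cons, List.sum_cons, D.ε_one, D.coe_one,
          ← D.rel Θ hΘ g hg]
        simp
      one := by rw [orderOf_one]; norm_num
      ne_one := hx1 }
  have hR2 : (n : ℤ) + (D.l.map fun χ => z χ * z χ * (n / D.sd χ)).sum =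
      z Θ * z Θ * (n / D.dexc) := by
    have hcyc := InvolColumn.zpowers_eq_of_card_prime (p := 11) (by norm_num)
      (P := (Q : Subgroup G)) hQ
    have h1 := hrel.relTwo hΘ (a := t) (b := t) htord htord (by
      intro u v hu hv
      have hsq : ∀ w : G, IsConj t w → w ^ 2 = 1 := by
        intro w hw
        obtain ⟨c, rfl⟩ := isConj_iff.1 hw
        rw [conj_pow, ht2, mul_one, mul_inv_cancel]
      exact InvolColumn.ne_mul_of_odd heQ (by decide) hcyc (by rw [hQ]; decide) hx hx1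
        (hsq u hu) (hsq v hv))
    rw [List.sum_toFinset _ D.nodup, List.map_cons, List.sum_cons, D.ε_one, D.coe_one, hz Θ,
      irr_one_eq_charDegree Θ.2] at h1
    have hdiv : ∀ (ε : ℤ) (k : ℕ), (ε = 1 ∨ ε = -1) → k ∣ 443520 → 0 < k →
        (((n : ℤ) / (ε * k) : ℤ) : ℂ) = (n : ℂ) * (ε / k) := by
      intro ε k hε hk hk0
      obtain ⟨j, hj⟩ := hk
      have hk0' : (k : ℂ) ≠ 0 := by exact_mod_cast hk0.ne'
      have e1 : (n : ℤ) = (ε * k) * (ε * j) := by
        rw [hn, hj]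
        rcases hε with rfl | rfl <;> push_cast <;> ring
      have e2 : ε * (k : ℤ) ≠ 0 := by
        rcases hε with rfl | rfl <;> omega
      rw [e1, Int.mul_ediv_cancel_left _ e2]
      have e3 : (n : ℂ) = (k : ℂ) * j := by
        rw [hn, hj]; push_cast; ring
      rw [e3]
      push_cast
      field_simp
    have h2 : (D.l.map fun χ => (D.ε χ : ℂ) * ((χ : G → ℂ) t * (χ : G → ℂ) t / (χ : G → ℂ) 1)).sum
        * n = (((D.l.map fun χ => z χ * z χ * (n / D.sd χ)).sum : ℤ) : ℂ) := by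
      rw [Int.cast_list_sum, List.map_map, ← List.sum_map_mul_right]
      congr 1
      refine List.map_congr_left fun χ hχ => ?_
      rw [hz χ, irr_one_eq_charDegree χ.2, Function.comp_apply, Int.cast_mul,
        BlockData.sd, hdiv _ _ (D.ε_mem χ (List.mem_cons_of_mem _ hχ)) (degree_dvd hcard χ)
        (hpos χ)]
      push_cast
      ring
    have h3 : (((n : ℤ) / D.dexc : ℤ) : ℂ) = n * (D.d / (charDegree (Θ : G → ℂ) : ℂ)) := by
      rw [BlockData.dexc, ← D.deg_X Θ hΘ]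
      exact hdiv _ _ D.d_mem (degree_dvd hcard Θ) (hpos Θ)
    have h4 : ((((n : ℤ) + (D.l.map fun χ => z χ * z χ * (n / D.sd χ)).sum : ℤ)) : ℂ) =
        ((z Θ * z Θ * (n / D.dexc) : ℤ) : ℂ) := by
      rw [Int.cast_add, ← h2, Int.cast_mul, h3]
      have h5 := congrArg (fun w : ℂ => w * n) h1
      simp only [Pi.one_apply, Int.cast_one, mul_one, div_one] at h5
      rw [add_mul, one_mul] at h5
      push_cast
      rw [h5]
      ring
    exact_mod_cast h4
  have hN : 1 + (D.l.map fun χ => z χ * z χ).sum + 2 * (z Θ * z Θ) ≤ C := by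
    have h1 := InvolColumn.sum_sq_le ((D.one :: D.l).toFinset ∪ D.X) t z (fun χ _ => hz χ)
    rw [hCt, Finset.sum_union hrel.disj, List.sum_toFinset _ D.nodup, List.map_cons,
      List.sum_cons] at h1
    have h2 : z D.one = 1 := by
      have h3 := hz D.one
      rw [D.coe_one, Pi.one_apply] at h3
      exact_mod_cast h3.symm
    have h3 : ∑ χ ∈ D.X, z χ ^ 2 = 2 * (z Θ * z Θ) := by
      rw [Finset.sum_congr rfl (g := fun _ => z Θ * z Θ), Finset.sum_const, D.card_X]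
      · rfl
      · intro χ hχ
        have h4 := (hR1 χ hχ).symm.trans (hR1 Θ hΘ)
        have h5 : z χ = z Θ := by
          rcases D.d_mem with hd | hd <;> rw [hd] at h4 <;> linarith
        rw [h5, pow_two]
    rw [h2, h3] at h1
    have h4 : (D.l.map fun χ => z χ ^ 2) = (D.l.map fun χ => z χ * z χ) :=
      List.map_congr_left fun χ _ => pow_two _
    rw [h4] at h1
    linarith
  -- the search
  unfold test at htest
  rw [hs] at htest
  have hnot : (!D.degs.contains (-120) && !(D.dexc == -160)) = false := by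
    rcases hflag with ⟨χ, hχ, h1, -⟩ | ⟨h1, -⟩
    · have h2 : D.degs.contains (-120) = true := by
        rw [List.contains_iff_mem]
        exact List.mem_map.2 ⟨χ, hχ, h1⟩
      rw [h2]
      rfl
    · rw [h1]
      simp
  rw [hnot, Bool.false_or, BlockData.degs] at htest
  have hvals : ∀ χ ∈ D.l, z χ ∈ vals h b (D.sd χ) := by
    intro χ hχ
    have h1 := D.natAbs_sd (List.mem_cons_of_mem _ hχ)
    obtain ⟨h2, h3⟩ := hz1 χ (hlone χ hχ)
    refine mem_vals ?_ ?_ (hbound χ) ?_ ?_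
    · intro h4
      rw [h4] at h1
      have := hpos χ
      simp at h1
      omega
    · rw [h1]
      rw [Int.abs_eq_natAbs] at h2
      exact_mod_cast h2
    · rw [h1]; exact h3
    · rw [h1]; exact hindex χ
  have hfin := go_spec z D.sd n h b C D.dexc D.l hvals 1 n 1 false htest
  have hA : 1 + (D.l.map fun χ => sg (D.sd χ) * z χ).sum = D.d * z Θ := by
    rw [← hR1 Θ hΘ]
    congr 2
    refine List.map_congr_left fun χ hχ => ?_
    rw [BlockData.sd, sg_eq (D.ε_mem χ (List.mem_cons_of_mem _ hχ)) (hpos χ)]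
  have hfpos : 0 < D.f := by rw [← D.deg_X Θ hΘ]; exact hpos Θ
  have hsgs : sg D.dexc = D.d := sg_eq D.d_mem hfpos
  have hdd : D.d * (D.d * z Θ) = z Θ := by
    rcases D.d_mem with hd | hd <;> rw [hd] <;> ring
  have hdd2 : D.d * z Θ * (D.d * z Θ) = z Θ * z Θ := by
    rcases D.d_mem with hd | hd <;> rw [hd] <;> ring
  rw [fin, hA, hR2, hsgs, hdd, hdd2, D.natAbs_dexc, ← D.deg_X Θ hΘ] at hfin
  obtain ⟨h5, h6⟩ := hz1 Θ (hXone Θ hΘ)
  have k1 : (z Θ).natAbs < charDegree (Θ : G → ℂ) := by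
    rw [Int.abs_eq_natAbs] at h5
    exact_mod_cast h5
  have k2 : ((charDegree (Θ : G → ℂ) : ℤ) - z Θ) % 4 = 0 := Int.emod_eq_zero_of_dvd h6
  have k3 : ((h : ℤ) * (D.d * z Θ)) % D.dexc = 0 := by
    apply Int.emod_eq_zero_of_dvd
    rw [BlockData.dexc, ← D.deg_X Θ hΘ]
    have h7 := hindex Θ
    rcases D.d_mem with hd | hd <;> rw [hd]
    · simpa using h7
    · simpa using h7
  have k5 : (false || (D.l.any fun χ => D.sd χ == -120 && (z χ - 120) % 28 == 0) ||
      ((D.dexc == -160) && ((z Θ - 160) % 28 == 0))) = true := by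
    rw [Bool.false_or, Bool.or_eq_true]
    rcases hflag with ⟨χ, hχ, h7, h8⟩ | ⟨h7, Θ', hΘ', h8⟩
    · left
      rw [List.any_eq_true]
      refine ⟨χ, hχ, ?_⟩
      rw [h7, h8]
      rfl
    · right
      have h9 := (hR1 Θ' hΘ').symm.trans (hR1 Θ hΘ)
      have h10 : z Θ' = z Θ := by
        rcases D.d_mem with hd | hd <;> rw [hd] at h9 <;> linarith
      rw [h7, ← h10, h8]
      rfl
  rw [k2, k3, k5, sub_self] at hfin
  simp only [k1, hN, decide_true] at hfin
  revert hfin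
  decide

/-- The case `e = 6`. -/
theorem six_divs : ∀ D < 666, (14 < D ∧ 443520 % D = 0 ∧
    (D % 11 = 0 ∨ D % 11 = 1 ∨ D % 11 = 10 ∨ D % 11 = 5 ∨ D % 11 = 6) ∧ D ≠ 120 ∧ D ≠ 160) →
    (D % 7 = 1 → D % 11 = 0 ∨ D % 11 = 1) ∧ (D % 7 = 6 → D % 11 = 0 ∨ D % 11 = 10) := by
  decide +kernel

theorem false_of_six [IsSimpleGroup G] (hcard : Nat.card G = 443520) [Fact (Nat.Prime 7)]
    (P : Sylow 7 G) {K : Subgroup G}
    (hK : K ≤ centralizer (P : Set G)) (hcop : Nat.Coprime 7 (Nat.card K))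
    (he : (centralizer (P : Set G)).relIndex (normalizer (P : Set G)) = 6)
    {t : G} (htK : t ∈ K) (ht : t * t = 1) (ht1 : t ≠ 1)
    (hC : Nat.card (centralizer ({t} : Set G)) = 2016 ∨
      Nat.card (centralizer ({t} : Set G)) = 6720) : False := by
  classical
  have hP : Nat.card P = 7 := Degrees.card_sylow_eq (m := 63360) (by rw [hcard]) (by norm_num) P
  have hKne : K ≠ ⊥ := by
    rintro rfl
    exact ht1 (Subgroup.mem_bot.1 htK)
  obtain ⟨NE, X, ε, d, B⟩ := exists_kblock (not_prime hcard) 7 (by norm_num) P hP 6 1 he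
    (by norm_num)
  obtain ⟨Θ, hΘ⟩ : X.Nonempty := by
    rw [← Finset.card_pos, B.card_X]; norm_num
  have hrel1 := B.rel_one Θ hΘ
  rw [← Finset.add_sum_erase NE _ B.one_mem, B.eps_one, degree_one] at hrel1
  have hdone : ∀ χ : IrrCharacter G, (∃ m : ℕ, (χ : G → ℂ) t =
      (((charDegree (χ : G → ℂ) : ℤ) - 4 * (7 : ℕ) * m : ℤ) : ℂ)) →
      charDegree (χ : G → ℂ) ≠ 120 ∧ charDegree (χ : G → ℂ) ≠ 160 := by
    rintro χ ⟨m, hm⟩
    by_contra hcon
    refine false_of_degree hcard ht ht1 hC χ (by tauto) m ?_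
    rw [hm]
    push_cast
    ring
  have hNE : ∀ χ ∈ NE.erase ⟨1, isIrr_one⟩,
      (ε χ * (charDegree (χ : G → ℂ) : ℤ)) % 11 = 0 ∨
      (ε χ * (charDegree (χ : G → ℂ) : ℤ)) % 11 = 1 := by
    intro χ hχ
    obtain ⟨a, ha, hdeg, hinv⟩ := B.ne_data K hK hcop hKne χ (Finset.mem_of_mem_erase hχ)
      (Finset.ne_of_mem_erase hχ)
    obtain ⟨m, -, -, hm⟩ := hinv t htK ht ht1
    obtain ⟨h1, h2⟩ := hdone χ ⟨m, hm⟩
    have h3 := six_divs _ (degree_lt hcard χ)
      ⟨by rcases hdeg with ⟨-, h⟩ | ⟨-, h⟩ <;> omega,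
      Nat.mod_eq_zero_of_dvd (degree_dvd hcard χ), residue hcard χ, h1, h2⟩
    rcases hdeg with ⟨hε, h⟩ | ⟨hε, h⟩
    · rw [hε]
      have := h3.1 (by omega)
      omega
    · rw [hε]
      have := h3.2 (by omega)
      omega
  have hX : (-(d * (charDegree (Θ : G → ℂ) : ℤ))) % 11 = 0 ∨
      (-(d * (charDegree (Θ : G → ℂ) : ℤ))) % 11 = 1 := by
    obtain ⟨a, ha, hdeg, hinv⟩ := B.x_data K hK hcop hKne Θ hΘ
    obtain ⟨m, -, -, hm⟩ := hinv t htK ht ht1
    obtain ⟨h1, h2⟩ := hdone Θ ⟨m, hm⟩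
    have h3 := six_divs _ (degree_lt hcard Θ)
      ⟨by rcases hdeg with ⟨-, h⟩ | ⟨-, h⟩ <;> omega,
      Nat.mod_eq_zero_of_dvd (degree_dvd hcard Θ), residue hcard Θ, h1, h2⟩
    rcases hdeg with ⟨hε, h⟩ | ⟨hε, h⟩
    · rw [hε]
      have := h3.2 (by omega)
      omega
    · rw [hε]
      have := h3.1 (by omega)
      omega
  have hcardE : (NE.erase ⟨1, isIrr_one⟩).card = 5 := by
    rw [Finset.card_erase_of_mem B.one_mem, B.card_NE]
  have h1 := Finset.sum_int_mod (NE.erase ⟨1, isIrr_one⟩) 11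
    (fun χ => ε χ * (charDegree (χ : G → ℂ) : ℤ))
  have h2 : ∑ χ ∈ NE.erase ⟨1, isIrr_one⟩, (ε χ * (charDegree (χ : G → ℂ) : ℤ)) % 11 ≤ 5 := by
    have h3 := Finset.sum_le_card_nsmul (NE.erase ⟨1, isIrr_one⟩)
      (fun χ => (ε χ * (charDegree (χ : G → ℂ) : ℤ)) % 11) 1 (fun χ hχ => by
        rcases hNE χ hχ with h | h <;> omega)
    rw [hcardE] at h3
    simpa using h3
  have h3 : 0 ≤ ∑ χ ∈ NE.erase ⟨1, isIrr_one⟩, (ε χ * (charDegree (χ : G → ℂ) : ℤ)) % 11 :=
    Finset.sum_nonneg fun χ _ => Int.emod_nonneg _ (by norm_num)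
  omega

end Cfsg.Agent.M22.SevenChar
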