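import Cfsg.Agent.M22.ResiduePartial
import Cfsg.Agent.M22.KillACD
import Cfsg.Agent.M22.Sylow11

/-!
# A simple group of order 443520: the principal 7-block

If the Sylow 7-subgroup is self-centralising with automiser of order 3, the two relations at an
involution leave five lists of degrees of the principal 7-block.
-/

set_option autoImplicit false

namespace Cfsg.Agent.M22.SevenPair

open Cfsg Subgroup Cfsg.Agent.Characters.Core Cfsg.Agent.SmallSimple.InvolColumn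
open Cfsg.Agent.M22.Residue Cfsg.Agent.M22.AllPlus Cfsg.Agent.M22.DegreesComb
open scoped ComplexConjugate

universe u
variable {G : Type u} [Group G] [Finite G]

/-- The possible values. -/
def step (D : ℤ) (k : ℕ) : ℤ := D - 4 * k * D.sign

/-- The remaining pairs of signed degrees. -/
def allowed : List (ℤ × ℤ) :=
  [(-6, 8), (8, -6), (-6, 15), (15, -6), (-20, 64), (64, -20), (-55, 99), (99, -55),
    (-55, 120), (120, -55)]

/-- The check. -/
def chkPair : Bool :=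
  C7.all fun D1 => C7.all fun D2 => !(E7.contains (1 + D1 + D2)) || allowed.contains (D1, D2) ||
    (List.range ((D1.natAbs + 1) / 2)).all fun k1 => Nat.beq k1 0 ||
      (fun w1 => (List.range ((D2.natAbs + 1) / 2)).all fun k2 => Nat.beq k2 0 ||
        (fun w2 => (fun w3 => (fun D3 =>
          decide (D3.natAbs ≤ w3.natAbs) ||
          !(decide (D1 * D2 * D3 + w1 * w1 * (D2 * D3) + w2 * w2 * (D1 * D3) =
              w3 * w3 * (D1 * D2))))
          (1 + D1 + D2)) (1 + w1 + w2)) (step D2 k2)) (step D1 k1)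

theorem chkPair_true : chkPair = true := by decide +kernel

theorem exists_step {D w : ℤ} (h4 : (4 : ℤ) ∣ D - w) (hlt : |w| < |D|) :
    ∃ k : ℕ, k < (D.natAbs + 1) / 2 ∧ k ≠ 0 ∧ w = step D k := by
  obtain ⟨m, hm⟩ := h4
  rw [abs_lt] at hlt
  rcases lt_trichotomy D 0 with hD | hD | hD
  · have h1 : |D| = -D := abs_of_neg hD
    rw [h1] at hlt
    refine ⟨m.natAbs, ?_, ?_, ?_⟩
    · omega
    · omega
    · unfold step
      rw [Int.sign_eq_neg_one_of_neg hD]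
      have : (m.natAbs : ℤ) = -m := by omega
      rw [this]; linarith
  · subst hD
    rw [abs_zero] at hlt
    omega
  · have h1 : |D| = D := abs_of_pos hD
    rw [h1] at hlt
    refine ⟨m.natAbs, ?_, ?_, ?_⟩
    · omega
    · omega
    · unfold step
      rw [Int.sign_eq_one_of_pos hD]
      have : (m.natAbs : ℤ) = m := by omega
      rw [this]; linarith

theorem pair_allowed {D1 D2 w1 w2 : ℤ} (h1 : D1 ∈ C7) (h2 : D2 ∈ C7) (h3 : 1 + D1 + D2 ∈ E7)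
    (a1 : (4 : ℤ) ∣ D1 - w1) (a2 : (4 : ℤ) ∣ D2 - w2) (b1 : |w1| < |D1|) (b2 : |w2| < |D2|)
    (b3 : |1 + w1 + w2| < |1 + D1 + D2|)
    (q : D1 * D2 * (1 + D1 + D2) + w1 * w1 * (D2 * (1 + D1 + D2)) +
      w2 * w2 * (D1 * (1 + D1 + D2)) = (1 + w1 + w2) * (1 + w1 + w2) * (D1 * D2)) :
    (D1, D2) ∈ allowed := by
  have h := List.all_eq_true.1 (List.all_eq_true.1 chkPair_true D1 h1) D2 h2
  rw [Bool.or_eq_true, Bool.or_eq_true, Bool.not_eq_true'] at h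
  rcases h with (h | h) | h
  · rw [List.contains_iff_mem.2 h3] at h
    exact absurd h (by decide)
  · exact List.contains_iff_mem.1 h
  · exfalso
    obtain ⟨k1, hk1, hk1', hw1⟩ := exists_step a1 b1
    obtain ⟨k2, hk2, hk2', hw2⟩ := exists_step a2 b2
    have h4 := List.all_eq_true.1 h k1 (List.mem_range.2 hk1)
    rw [Bool.or_eq_true] at h4
    rcases h4 with h4 | h4
    · exact hk1' (Nat.eq_of_beq_eq_true h4)
    have h5 := List.all_eq_true.1 h4 k2 (List.mem_range.2 hk2)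
    rw [Bool.or_eq_true] at h5
    rcases h5 with h5 | h5
    · exact hk2' (Nat.eq_of_beq_eq_true h5)
    rw [← hw1, ← hw2] at h5
    rw [Bool.or_eq_true, Bool.not_eq_true'] at h5
    rcases h5 with h5 | h5
    · have h6 := of_decide_eq_true h5
      rw [Int.abs_eq_natAbs, Int.abs_eq_natAbs] at b3
      omega
    · exact (of_decide_eq_false h5) q

set_option synthInstance.maxHeartbeats 200000 in
set_option synthInstance.maxSize 2000 in
theorem memC7 : ∀ m : ℕ, m < 666 → 443520 % m = 0 → m ≠ 1 →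
    (m % 7 = 1 → (m : ℤ) ∈ C7) ∧ (m % 7 = 6 → (-(m : ℤ)) ∈ C7) := by decide +kernel

set_option synthInstance.maxHeartbeats 200000 in
set_option synthInstance.maxSize 2000 in
theorem memE7 : ∀ m : ℕ, m < 666 → 443520 % m = 0 → m ≠ 1 →
    (m % 7 = 3 → (m : ℤ) ∈ E7) ∧ (m % 7 = 4 → (-(m : ℤ)) ∈ E7) := by decide +kernel

theorem charDegree_lt (hcard : Nat.card G = 443520) (χ : IrrCharacter G) :
    charDegree (χ : G → ℂ) < 666 := by
  have h := Sylow11.sq_le χ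
  rw [hcard] at h
  by_contra hcon
  push Not at hcon
  have := Nat.pow_le_pow_left hcon 2
  omega

/-- The degrees in the principal 7-block. -/
theorem seven_pair [IsSimpleGroup G] (hcard : Nat.card G = 443520) [Fact (Nat.Prime 7)]
    (P7 : Sylow 7 G) (c7 : centralizer (P7 : Set G) = (P7 : Subgroup G))
    (e7 : (centralizer (P7 : Set G)).relIndex (normalizer (P7 : Set G)) = 3) :
    ∃ D1 D2 : ℤ, (D1, D2) ∈ allowed ∧ ∃ χ₁ χ₂ Θ : IrrCharacter G,
      (charDegree (χ₁ : G → ℂ) : ℤ) = |D1| ∧ (charDegree (χ₂ : G → ℂ) : ℤ) = |D2| ∧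
      (charDegree (Θ : G → ℂ) : ℤ) = |1 + D1 + D2| := by
  classical
  have hnp : ¬ (Nat.card G).Prime := by rw [hcard]; norm_num
  have hG : commutator G = ⊤ := KillACD.commutator_eq_top hnp
  have h7 : Nat.card P7 = 7 :=
    Degrees.card_sylow_eq (m := 63360) (by rw [hcard]) (by norm_num) P7
  obtain ⟨t, ht2⟩ := exists_prime_orderOf_dvd_card' (G := G) 2 (by rw [hcard]; norm_num)
  have ht : t ^ 2 = 1 := by rw [← ht2]; exact pow_orderOf_eq_one t
  have ht1 : t ≠ 1 := by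
    rintro rfl
    rw [orderOf_one] at ht2
    norm_num at ht2
  obtain ⟨NE, X, ε, d, S, hdis, hNE, hX, hε, hd, ⟨χ₀, hχ₀, hχ₀1, hε₀⟩, hval, hexc, -, hrel,
    hrest⟩ := Cfsg.Agent.SmallSimple.TheoremBCor.theoremB_selfCent 7 (by norm_num) P7 h7 c7 3 2 e7
      (by norm_num)
  obtain ⟨x, hxP, hx1⟩ : ∃ x ∈ P7, x ≠ 1 := by
    have h5 : 1 < Nat.card P7 := by rw [h7]; norm_num
    have : Nontrivial (P7 : Subgroup G) := (Finite.one_lt_card_iff_nontrivial).1 h5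
    obtain ⟨x, hx⟩ := exists_ne (1 : (P7 : Subgroup G))
    exact ⟨x, x.2, fun h => hx (Subtype.ext h)⟩
  have h1reg : ¬ 7 ∣ orderOf (1 : G) := by rw [orderOf_one]; norm_num
  have htreg : ¬ 7 ∣ orderOf t := by rw [ht2]; norm_num
  have R : Rel x (fun g => ¬ 7 ∣ orderOf g) NE X ε d :=
    ⟨hdis, fun χ hχ => hval χ hχ x hxP hx1, fun χ h1 h2 => (hrest χ h1 h2).1 x hxP hx1, hd,
      hrel, h1reg, hx1⟩
  have hd0 : charDegree (χ₀ : G → ℂ) = 1 := by
    apply Cfsg.Agent.Blocks.Basic.charDegree_of_eq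
    rw [hχ₀1]; simp
  have hone : ∀ χ : IrrCharacter G, charDegree (χ : G → ℂ) = 1 → χ = χ₀ := by
    intro χ h
    rw [Degrees.eq_one_of_charDegree hnp χ h, Degrees.eq_one_of_charDegree hnp χ₀ hd0]
  have hcard2 : (NE.erase χ₀).card = 2 := by
    rw [Finset.card_erase_of_mem hχ₀, hNE]
  obtain ⟨χ₁, χ₂, hne, hpair⟩ := Finset.card_eq_two.1 hcard2
  have hχ₁ : χ₁ ∈ NE.erase χ₀ := by rw [hpair]; exact Finset.mem_insert_self _ _
  have hχ₂ : χ₂ ∈ NE.erase χ₀ := by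
    rw [hpair]; exact Finset.mem_insert_of_mem (Finset.mem_singleton_self _)
  obtain ⟨Θ, hΘ⟩ : X.Nonempty := by rw [← Finset.card_pos, hX]; norm_num
  have hΘ0 : Θ ≠ χ₀ := by
    rintro rfl
    exact (Finset.disjoint_left.1 hdis) hχ₀ hΘ
  have hsplit : ∀ f : IrrCharacter G → ℂ, ∑ χ ∈ NE, (ε χ : ℂ) * f χ =
      f χ₀ + (ε χ₁ * f χ₁ + ε χ₂ * f χ₂) := by
    intro f
    rw [← Finset.add_sum_erase NE _ hχ₀, hpair, Finset.sum_pair hne, hε₀]
    push_cast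
    ring
  -- degrees
  have hdvd : ∀ χ : IrrCharacter G, 443520 % charDegree (χ : G → ℂ) = 0 := fun χ =>
    Nat.mod_eq_zero_of_dvd (hcard ▸ Cfsg.Agent.Blocks.Knorr.charDegree_dvd χ.2)
  have hmC : ∀ χ ∈ NE.erase χ₀, ε χ * (charDegree (χ : G → ℂ) : ℤ) ∈ C7 := by
    intro χ hχ
    have h1 : charDegree (χ : G → ℂ) ≠ 1 := fun h => (Finset.ne_of_mem_erase hχ) (hone χ h)
    have h2 := memC7 _ (charDegree_lt hcard χ) (hdvd χ) h1
    have hmem := Finset.mem_of_mem_erase hχ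
    rcases mod_nonexc (p := 7) (by norm_num) h7 χ.2 (hε χ hmem) (hval χ hmem) with
      ⟨h3, h4⟩ | ⟨h3, h4⟩
    · rw [h3, one_mul]; exact h2.1 h4
    · rw [h3, neg_one_mul]; exact h2.2 h4
  have hmE : d * (charDegree (Θ : G → ℂ) : ℤ) ∈ E7 := by
    have h1 : charDegree (Θ : G → ℂ) ≠ 1 := fun h => hΘ0 (hone Θ h)
    have h2 := memE7 _ (charDegree_lt hcard Θ) (hdvd Θ) h1
    rcases mod_exc (p := 7) (e := 3) h7 Θ.2 hd (hexc Θ hΘ).1 (by norm_num) (by norm_num)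
      (hexc Θ hΘ).2.1 (hexc Θ hΘ).2.2 with ⟨h3, h4⟩ | ⟨h3, h4⟩
    · rw [h3, one_mul]; exact h2.1 h4
    · rw [h3, neg_one_mul]; exact h2.2 h4
  -- values
  have hirr : ∀ χ : IrrCharacter G, χ ≠ χ₀ → ∃ z : ℤ, (χ : G → ℂ) t = z ∧
      |z| < (charDegree (χ : G → ℂ) : ℤ) ∧ (4 : ℤ) ∣ (charDegree (χ : G → ℂ) : ℤ) - z := by
    intro χ hχ
    exact exists_int hG χ.2 (fun h => hχ (Subtype.ext (h.trans hχ₀1.symm))) ht ht1
  obtain ⟨z₁, hz₁, lt₁, m₁⟩ := hirr χ₁ (Finset.ne_of_mem_erase hχ₁)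
  obtain ⟨z₂, hz₂, lt₂, m₂⟩ := hirr χ₂ (Finset.ne_of_mem_erase hχ₂)
  obtain ⟨z₃, hz₃, lt₃, m₃⟩ := hirr Θ hΘ0
  have hx₀ : ∀ g, (χ₀ : G → ℂ) g = 1 := fun g => by rw [hχ₀1]; simp
  have hone' : ∀ χ : IrrCharacter G, (χ : G → ℂ) 1 = ((charDegree (χ : G → ℂ) : ℤ) : ℂ) :=
    fun χ => charDegree_cast χ.2
  have e1 := hrel Θ hΘ 1 h1reg
  rw [hsplit (fun χ => (χ : G → ℂ) 1), hx₀, hone' χ₁, hone' χ₂, hone' Θ] at e1
  have e2 := hrel Θ hΘ t htreg
  rw [hsplit (fun χ => (χ : G → ℂ) t), hx₀, hz₁, hz₂, hz₃] at e2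
  have e3 := R.relTwo (Θ := Θ) hΘ (a := t) (b := t) htreg htreg (by
    intro u v hu hv
    refine ne_mul_of_odd e7 (by decide) (zpowers_eq_of_card_prime (by norm_num) h7)
      (by rw [h7]; decide) hxP hx1 ?_ ?_
    · obtain ⟨c, hc⟩ := isConj_iff.1 hu
      rw [← hc, conj_pow, ht]; simp
    · obtain ⟨c, hc⟩ := isConj_iff.1 hv
      rw [← hc, conj_pow, ht]; simp)
  rw [hsplit (fun χ => (χ : G → ℂ) t * (χ : G → ℂ) t / (χ : G → ℂ) 1), hx₀, hx₀, hz₁, hz₂, hz₃,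
    hone' χ₁, hone' χ₂, hone' Θ] at e3
  have hmC1 := hmC χ₁ hχ₁
  have hmC2 := hmC χ₂ hχ₂
  have hs₁ := hε χ₁ (Finset.mem_of_mem_erase hχ₁)
  have hs₂ := hε χ₂ (Finset.mem_of_mem_erase hχ₂)
  have hp₁ : (charDegree (χ₁ : G → ℂ) : ℤ) ≠ 0 := by
    have := abs_nonneg z₁; omega
  have hp₂ : (charDegree (χ₂ : G → ℂ) : ℤ) ≠ 0 := by
    have := abs_nonneg z₂; omega
  have hp₃ : (charDegree (Θ : G → ℂ) : ℤ) ≠ 0 := by
    have := abs_nonneg z₃; omega
  have hn₁ : (0 : ℤ) ≤ charDegree (χ₁ : G → ℂ) := Int.natCast_nonneg _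
  have hn₂ : (0 : ℤ) ≤ charDegree (χ₂ : G → ℂ) := Int.natCast_nonneg _
  have hn₃ : (0 : ℤ) ≤ charDegree (Θ : G → ℂ) := Int.natCast_nonneg _
  refine ⟨ε χ₁ * (charDegree (χ₁ : G → ℂ) : ℤ), ε χ₂ * (charDegree (χ₂ : G → ℂ) : ℤ), ?_,
    χ₁, χ₂, Θ, ?_, ?_, ?_⟩
  · generalize (charDegree (χ₁ : G → ℂ) : ℤ) = n₁ at *
    generalize (charDegree (χ₂ : G → ℂ) : ℤ) = n₂ at *
    generalize (charDegree (Θ : G → ℂ) : ℤ) = n₃ at *
    generalize ε χ₁ = s₁ at *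
    generalize ε χ₂ = s₂ at *
    have E1 : 1 + (s₁ * n₁ + s₂ * n₂) = d * n₃ := by exact_mod_cast e1
    have E2 : 1 + (s₁ * z₁ + s₂ * z₂) = d * z₃ := by exact_mod_cast e2
    have hd2 : d * d = 1 := by rcases hd with h | h <;> rw [h] <;> norm_num
    have hs12 : s₁ * s₁ = 1 := by rcases hs₁ with h | h <;> rw [h] <;> norm_num
    have hs22 : s₂ * s₂ = 1 := by rcases hs₂ with h | h <;> rw [h] <;> norm_num
    have E3 : n₁ * n₂ * n₃ + s₁ * z₁ * z₁ * (n₂ * n₃) + s₂ * z₂ * z₂ * (n₁ * n₃) =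
        d * z₃ * z₃ * (n₁ * n₂) := by
      have c1 : ((n₁ : ℤ) : ℂ) ≠ 0 := by exact_mod_cast hp₁
      have c2 : ((n₂ : ℤ) : ℂ) ≠ 0 := by exact_mod_cast hp₂
      have c3 : ((n₃ : ℤ) : ℂ) ≠ 0 := by exact_mod_cast hp₃
      have : ((n₁ * n₂ * n₃ + s₁ * z₁ * z₁ * (n₂ * n₃) + s₂ * z₂ * z₂ * (n₁ * n₃) : ℤ) : ℂ) =
          ((d * z₃ * z₃ * (n₁ * n₂) : ℤ) : ℂ) := by
        push_cast
        field_simp at e3
        linear_combination e3
      exact_mod_cast this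
    have hDe : 1 + s₁ * n₁ + s₂ * n₂ = d * n₃ := by rw [← E1]; ring
    have hwe : 1 + s₁ * z₁ + s₂ * z₂ = d * z₃ := by rw [← E2]; ring
    refine pair_allowed (w1 := s₁ * z₁) (w2 := s₂ * z₂) hmC1 hmC2 (by rw [hDe]; exact hmE)
      ?_ ?_ ?_ ?_ ?_ ?_
    · rw [← mul_sub]; exact Dvd.dvd.mul_left m₁ _
    · rw [← mul_sub]; exact Dvd.dvd.mul_left m₂ _
    · rw [abs_mul, abs_mul, abs_of_nonneg hn₁]
      have : |s₁| = 1 := by rcases hs₁ with h | h <;> rw [h] <;> norm_num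
      rw [this, one_mul, one_mul]; exact lt₁
    · rw [abs_mul, abs_mul, abs_of_nonneg hn₂]
      have : |s₂| = 1 := by rcases hs₂ with h | h <;> rw [h] <;> norm_num
      rw [this, one_mul, one_mul]; exact lt₂
    · rw [hDe, hwe, abs_mul, abs_mul, abs_of_nonneg hn₃]
      have : |d| = 1 := by rcases hd with h | h <;> rw [h] <;> norm_num
      rw [this, one_mul, one_mul]; exact lt₃
    · rw [hDe, hwe]
      linear_combination (s₁ * s₂ * d) * E3
  · rw [abs_mul, abs_of_nonneg hn₁]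
    rcases hs₁ with h | h <;> rw [h] <;> norm_num
  · rw [abs_mul, abs_of_nonneg hn₂]
    rcases hs₂ with h | h <;> rw [h] <;> norm_num
  · have E1 : 1 + ε χ₁ * (charDegree (χ₁ : G → ℂ) : ℤ) + ε χ₂ * (charDegree (χ₂ : G → ℂ) : ℤ) =
        d * (charDegree (Θ : G → ℂ) : ℤ) := by
      have : 1 + (ε χ₁ * (charDegree (χ₁ : G → ℂ) : ℤ) +
        ε χ₂ * (charDegree (χ₂ : G → ℂ) : ℤ)) = d * (charDegree (Θ : G → ℂ) : ℤ) := by
        exact_mod_cast e1
      rw [← this]; ring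
    rw [E1, abs_mul, abs_of_nonneg hn₃]
    rcases hd with h | h <;> rw [h] <;> norm_num

end Cfsg.Agent.M22.SevenPair
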