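import Cfsg.Agent.M22.SixFourCore
import Cfsg.Agent.M22.Sylow7Core
import Cfsg.Agent.M22.SevenThreeEight

/-!
# The case `(e, |K|) = (6, 4)`, `16 ∤ |N(K)|`
-/

set_option autoImplicit false

namespace Cfsg.Agent.M22.SixFourA

open Cfsg Subgroup
open Cfsg.Agent.SmallSimple Cfsg.Agent.SmallSimple.PrimeLocal
open Cfsg.Agent.SmallSimple.Simple168Klein
open Cfsg.Agent.M22.SevenEight Cfsg.Agent.M22.SevenTools

universe u

variable {G : Type u} [Group G] [Finite G]

theorem arith_three : ∀ n < 241, 240 % n = 0 → n % 7 = 1 → n % 2 = 0 → n = 8 ∨ n = 120 := by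
  decide +kernel

theorem arith_one : ∀ n < 721, 720 % n = 0 → n % 7 = 1 → n % 2 = 0 →
    n = 8 ∨ n = 36 ∨ n = 120 := by
  decide +kernel

/-- A group of order two. -/
theorem exists_gen {D : Subgroup G} (hD : Nat.card D = 2) :
    ∃ d ∈ D, d ≠ 1 ∧ d * d = 1 ∧ (∀ x ∈ D, x = 1 ∨ x = d) := by
  classical
  have hft := Fintype.ofFinite D
  have h1 : 1 < Nat.card D := by omega
  have : Nontrivial D := (Finite.one_lt_card_iff_nontrivial).1 h1
  obtain ⟨x, hx⟩ := exists_ne (1 : D)
  refine ⟨x, x.2, fun h => hx (Subtype.ext h), ?_, ?_⟩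
  · have h2 := pow_card_eq_one' (x := x)
    rw [hD, sq] at h2
    exact congrArg Subtype.val h2
  · intro y hy
    by_contra hcon
    push Not at hcon
    have h3 : ({1, x, ⟨y, hy⟩} : Finset D).card = 3 := by
      rw [Finset.card_insert_of_notMem, Finset.card_pair]
      · intro h
        exact hcon.2 (congrArg Subtype.val h).symm
      · simp only [Finset.mem_insert, Finset.mem_singleton, not_or]
        exact ⟨fun h => hx h.symm, fun h => hcon.1 (congrArg Subtype.val h).symm⟩
    have h4 := Finset.card_le_univ ({1, x, ⟨y, hy⟩} : Finset D)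
    rw [h3] at h4
    rw [Nat.card_eq_fintype_card] at hD
    omega

theorem caseA [IsSimpleGroup G] (hcard : Nat.card G = 443520) [Fact (Nat.Prime 7)]
    [Fact (Nat.Prime 11)] (h11 : ∀ Q : Sylow 11 G, centralizer (Q : Set G) = (Q : Subgroup G))
    (P : Sylow 7 G) {K : Subgroup G} (hloc : IsLocal 7 P 6 K) (hK : Nat.card K = 4)
    (h16 : ¬ 16 ∣ Nat.card (normalizer (K : Set G))) : False := by
  classical
  have hGc : ¬ IsMulCommutative G := by
    intro h
    obtain ⟨a, b, hab⟩ := NonSelfCent.not_comm_of_not_prime (SevenChar.not_prime hcard)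
    exact hab (h.is_comm.comm a b)
  have hP : Nat.card P = 7 := Degrees.card_sylow_eq (m := 63360) (by rw [hcard]) (by norm_num) P
  have hP' : Nat.card (P : Subgroup G) = 7 := hP
  have hrel := Sylow7Core.relIndex_eq hloc
  have hcop : Nat.Coprime 7 (Nat.card K) :=
    (Nat.Prime.coprime_iff_not_dvd (by norm_num)).2 hloc.not_dvd
  have hN : Nat.card (normalizer (P : Set G)) = 168 := by
    rw [hloc.card_normalizer, hK]
  have hNK := hloc.normalizer_le
  obtain ⟨T, hTN, hT, hKT⟩ := SixFourCore.exists_T P hloc hK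
  have hTK : T ≤ normalizer (K : Set G) := hTN.trans hNK
  obtain ⟨R, hTR, hR, hRT⟩ := exists_growth (m := 3) (T := T) (by rw [hT]; norm_num)
    (by rw [hcard]; norm_num)
  have hR16 : Nat.card R = 16 := by rw [hR, hT]
  obtain ⟨r, hrR, hrK⟩ : ∃ r ∈ R, r ∉ normalizer (K : Set G) := by
    by_contra hcon
    push Not at hcon
    exact h16 (hR16 ▸ Subgroup.card_dvd_of_le hcon)
  have hrT : r ∉ T := fun h => hrK (hTK h)
  have hRD := le_normalizer_inf hTR hR hRT hKT hTK hrR hrT
  obtain ⟨hrT1, -, -, -⟩ := swap_data hTR hR hRT hKT hTK hrR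
  have hKr : Nat.card (K.map (MulAut.conj r).toMonoidHom) = 4 := by
    rw [card_map_conj, hK]
  have hne : K.map (MulAut.conj r).toMonoidHom ≠ K := fun h =>
    hrK ((map_conj_eq_iff_mem_normalizer K r).1 h)
  set D := K ⊓ K.map (MulAut.conj r).toMonoidHom with hDdef
  have hD2 : Nat.card D = 2 := by
    have h1 := Sylow7Core.card_mul_le hKT hrT1
    rw [hK, hKr, hT] at h1
    have h2 : Nat.card D ∣ 4 := hK ▸ Subgroup.card_dvd_of_le inf_le_left
    have h3 : Nat.card D ≠ 4 := by
      intro h4
      have h5 : D = K := Subgroup.eq_of_le_of_card_ge inf_le_left (by rw [h4, hK])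
      have h6 : K ≤ K.map (MulAut.conj r).toMonoidHom := by
        intro x hx
        rw [← h5] at hx
        exact hx.2
      exact hne (Subgroup.eq_of_le_of_card_ge h6 (by rw [hKr, hK])).symm
    have h4 : Nat.card D ≤ 4 := Nat.le_of_dvd (by norm_num) h2
    change 4 * 4 ≤ 8 * Nat.card D at h1
    interval_cases h : Nat.card D <;> omega
  obtain ⟨d, hdD, hd1, hdd, hdall⟩ := exists_gen hD2
  have hdK : d ∈ K := (inf_le_left : D ≤ K) hdD
  set A := centralizer ({d} : Set G) with hA
  have hmemA : ∀ x : G, x ∈ A ↔ d * x = x * d := by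
    intro x
    rw [hA, mem_centralizer_iff]
    constructor
    · intro h; exact h d rfl
    · rintro h _ rfl; exact h
  have hRA : R ≤ A := by
    intro x hx
    rw [hmemA]
    have h1 : x * d * x⁻¹ ∈ D := (mem_normalizer_iff.1 (hRD hx) d).1 hdD
    rcases hdall _ h1 with h2 | h2
    · exfalso
      apply hd1
      have h3 : d = x⁻¹ * (x * d * x⁻¹) * x := by group
      rw [h3, h2]; group
    · calc d * x = x * d * x⁻¹ * x := by rw [h2]
        _ = x * d := by group
  have hPA : (P : Subgroup G) ≤ A := by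
    intro x hx
    rw [hmemA]
    exact hloc.comm d hdK x hx
  have hKA : K ≤ A := hKT.trans (hTR.trans hRA)
  have hTA : T ≤ A := hTR.trans hRA
  have hAN := SevenThreeEight.card_inf_eq P hP' hT hN (A ⊓ normalizer (P : Set G))
    (le_inf hPA le_normalizer) (le_inf hTA hTN) inf_le_right
  obtain ⟨n, hn7, hn⟩ := exists_count P A hPA
  have hA16 : 16 ∣ Nat.card A := hR16 ▸ Subgroup.card_dvd_of_le hRA
  have hA11 : ¬ 11 ∣ Nat.card A := by
    intro h
    have h1 : A ≤ normalizer ((zpowers d : Subgroup G) : Set G) := by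
      intro x hx
      rw [mem_normalizer_iff]
      have h2 := (hmemA x).1 hx
      have h3 : ∀ k : ℤ, x * d ^ k * x⁻¹ = d ^ k := by
        intro k
        have : Commute x (d ^ k) := (show Commute x d from h2.symm).zpow_right k
        rw [this.eq]; group
      intro y
      constructor
      · intro hy
        obtain ⟨k, rfl⟩ := Subgroup.mem_zpowers_iff.1 hy
        rw [h3 k]
        exact zpow_mem (mem_zpowers d) k
      · intro hy
        obtain ⟨k, hk⟩ := Subgroup.mem_zpowers_iff.1 hy
        have h4 : y = x⁻¹ * (x * y * x⁻¹) * x := by group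
        have h5 : x⁻¹ * d ^ k * x = d ^ k := by
          have : Commute x (d ^ k) := (show Commute x d from h2.symm).zpow_right k
          rw [mul_assoc, ← this.eq]; group
        rw [h4, ← hk, h5]
        exact zpow_mem (mem_zpowers d) k
    have hdz : orderOf d = 2 := orderOf_eq_prime (by rw [sq]; exact hdd) hd1
    refine not_eleven_dvd hcard h11 (zpowers d) ?_ ?_ (h.trans (Subgroup.card_dvd_of_le h1))
    · intro h2
      rw [Subgroup.zpowers_eq_bot] at h2
      exact hd1 h2
    · exact IsPGroup.of_card (n := 1) (by rw [Nat.card_zpowers, hdz, pow_one])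
  have hAd := SevenThreeEight.dvd_of_not_eleven hcard A hA11
  have h8 : n ≠ 8 := by
    rintro rfl
    exact h16 (hA16.trans (Subgroup.card_dvd_of_le
      (le_normalizer_of_eight P hP hloc hPA hKA hn)))
  rcases hAN with hj | hj
  · -- `j = 1`
    rw [hj] at hn
    have h1 : n ∣ 720 := by
      rw [← hn] at hAd
      have : n * 56 ∣ 720 * 56 := by simpa using hAd
      exact Nat.dvd_of_mul_dvd_mul_right (by norm_num) this
    have h2 := Nat.le_of_dvd (by norm_num) h1
    have h3 := arith_one n (by omega) (Nat.mod_eq_zero_of_dvd h1) hn7 (by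
      rw [← hn] at hA16
      omega)
    refine SevenChar.false_of_six hcard P hloc.le_centralizer hcop hrel hdK hdd hd1 ?_
    rcases h3 with rfl | rfl | rfl
    · exact absurd rfl h8
    · exact Or.inl hn.symm
    · exact Or.inr hn.symm
  · -- `j = 3`
    have hNA : normalizer (P : Set G) ≤ A := by
      have h1 : A ⊓ normalizer (P : Set G) = normalizer (P : Set G) :=
        Subgroup.eq_of_le_of_card_ge inf_le_right (by rw [hj, hN])
      rw [← h1]; exact inf_le_left
    rw [hj] at hn
    have h1 : n ∣ 240 := by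
      rw [← hn] at hAd
      have : n * 168 ∣ 240 * 168 := by simpa using hAd
      exact Nat.dvd_of_mul_dvd_mul_right (by norm_num) this
    have h2 := Nat.le_of_dvd (by norm_num) h1
    have h3 := arith_three n (by omega) (Nat.mod_eq_zero_of_dvd h1) hn7 (by
      rw [← hn] at hA16
      omega)
    rcases h3 with rfl | rfl
    · exact absurd rfl h8
    have hidx : A.index = 22 := by
      have h4 := A.card_mul_index
      rw [hcard, ← hn] at h4
      omega
    have hAtop : A ≠ ⊤ := by
      intro h
      rw [h, Subgroup.index_top] at hidx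
      omega
    obtain ⟨o, ho1, ho2⟩ := exists_index hGc P hP hloc hNA hAtop
    have ho : o = 3 := by omega
    subst ho
    rw [hK] at ho2
    rcases ho2 with h | h
    · revert h; decide
    · omega

end Cfsg.Agent.M22.SixFourA
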