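import Mathlib
import Cfsg.Agent.SmallSimple.SylowPrimeCount

/-!
# A 2-group argument for the case `(e, |K|) = (6, 4)`
-/

set_option autoImplicit false

namespace Cfsg.Agent.M22.TwoGroupRegular

open Subgroup MulAction

variable {A : Type*} [Group A] [Finite A]

theorem not_three {T K : Subgroup A}
    (hfix : ∀ x : A, x ∉ K → Nat.card (fixedBy (A ⧸ T) x) ≤ 2) {x : A} (hx : x ∉ K)
    {g₀ g₁ g₂ : A} (h0 : g₀⁻¹ * x * g₀ ∈ T) (h1 : g₁⁻¹ * x * g₁ ∈ T) (h2 : g₂⁻¹ * x * g₂ ∈ T)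
    (h01 : g₀⁻¹ * g₁ ∉ T) (h02 : g₀⁻¹ * g₂ ∉ T) (h12 : g₁⁻¹ * g₂ ∉ T) : False := by
  classical
  have hmem : ∀ g : A, g⁻¹ * x * g ∈ T → (g : A ⧸ T) ∈ fixedBy (A ⧸ T) x := by
    intro g hg
    rw [mem_fixedBy]
    change ((x * g : A) : A ⧸ T) = g
    rw [eq_comm, QuotientGroup.eq, ← mul_assoc]
    exact hg
  have hfin : Finite (fixedBy (A ⧸ T) x) := inferInstance
  let f : Fin 3 → fixedBy (A ⧸ T) x := ![⟨g₀, hmem _ h0⟩, ⟨g₁, hmem _ h1⟩, ⟨g₂, hmem _ h2⟩]
  have hf : Function.Injective f := by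
    have n01 : (g₀ : A ⧸ T) ≠ g₁ := fun h => h01 (QuotientGroup.eq.1 h)
    have n02 : (g₀ : A ⧸ T) ≠ g₂ := fun h => h02 (QuotientGroup.eq.1 h)
    have n12 : (g₁ : A ⧸ T) ≠ g₂ := fun h => h12 (QuotientGroup.eq.1 h)
    intro i j hij
    fin_cases i <;> fin_cases j <;>
      simp_all [f, Subtype.ext_iff, eq_comm]
  have h3 := Nat.card_le_card_of_injective f hf
  rw [Nat.card_eq_fintype_card, Fintype.card_fin] at h3
  have := hfix x hx
  omega

section

variable {T K L : Subgroup A}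

/-- `L` acts semiregularly. -/
theorem inf_eq_bot (hA : Nat.card A = 64) (hT : Nat.card T = 8)
    (hL : Nat.card L = 4) (hLn : L.Normal) (hKL : K ⊓ L = ⊥)
    (hfix : ∀ x : A, x ∉ K → Nat.card (fixedBy (A ⧸ T) x) ≤ 2) : L ⊓ T = ⊥ := by
  classical
  rw [eq_bot_iff]
  rintro u ⟨huL, huT⟩
  rw [mem_bot]
  by_contra hu
  have hΩ : Nat.card (A ⧸ T) = 8 := by
    have := T.card_eq_card_quotient_mul_card_subgroup
    rw [hA, hT] at this
    omega
  have := Fintype.ofFinite (A ⧸ T)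
  have := Fintype.ofFinite L
  let t : Finset L := Finset.univ.erase 1
  have ht : t.card = 3 := by
    rw [Finset.card_erase_of_mem (Finset.mem_univ _), Finset.card_univ,
      ← Nat.card_eq_fintype_card, hL]
  let f : A ⧸ T → L := fun ω => ⟨ω.out * u * ω.out⁻¹, hLn.conj_mem u huL _⟩
  have hf : ∀ ω ∈ (Finset.univ : Finset (A ⧸ T)), f ω ∈ t := by
    intro ω _
    refine Finset.mem_erase.2 ⟨fun h => hu ?_, Finset.mem_univ _⟩
    have h1 : ω.out * u * ω.out⁻¹ = 1 := congrArg Subtype.val h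
    have h2 : u = ω.out⁻¹ * (ω.out * u * ω.out⁻¹) * ω.out := by group
    rw [h2, h1]; group
  obtain ⟨y, hy, hy2⟩ := Finset.exists_lt_card_fiber_of_mul_lt_card_of_maps_to (n := 2) hf (by
    rw [ht, Finset.card_univ, ← Nat.card_eq_fintype_card, hΩ]; norm_num)
  have hy1 : (y : A) ∉ K := by
    intro h
    have h1 : (y : A) ∈ K ⊓ L := ⟨h, y.2⟩
    rw [hKL, mem_bot] at h1
    exact (Finset.mem_erase.1 hy).1 (Subtype.ext h1)
  have h3 : (Finset.univ.filter fun ω => f ω = y).card ≤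
      Nat.card (fixedBy (A ⧸ T) (y : A)) := by
    have h4 : (Finset.univ.filter fun ω => f ω = y).card = Nat.card {ω : A ⧸ T // f ω = y} := by
      rw [Nat.card_eq_fintype_card, Fintype.card_subtype]
    rw [h4]
    apply Nat.card_le_card_of_injective
      (fun ω : {ω : A ⧸ T // f ω = y} => (⟨ω.1, ?_⟩ : fixedBy (A ⧸ T) (y : A)))
    · intro a b hab
      exact Subtype.ext (congrArg (fun z : fixedBy (A ⧸ T) (y : A) => z.1) hab)
    · rw [mem_fixedBy]
      have h5 : (y : A) = ω.1.out * u * ω.1.out⁻¹ := (congrArg Subtype.val ω.2).symm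
      have h6 : ((ω.1.out : A) : A ⧸ T) = ω.1 := Quotient.out_eq' _
      rw [← h6]
      change (((y : A) * ω.1.out : A) : A ⧸ T) = ω.1.out
      rw [eq_comm, QuotientGroup.eq, h5]
      have h7 : ω.1.out⁻¹ * (ω.1.out * u * ω.1.out⁻¹ * ω.1.out) = u := by group
      rw [h7]
      exact huT
  have := hfix y hy1
  omega

/-- An element of `T` centralising `L` is in `K`. -/
theorem mem_of_centralizer (hA : Nat.card A = 64) (hT : Nat.card T = 8)
    (hL : Nat.card L = 4) (hLn : L.Normal) (hKL : K ⊓ L = ⊥)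
    (hfix : ∀ x : A, x ∉ K → Nat.card (fixedBy (A ⧸ T) x) ≤ 2) {x : A} (hxT : x ∈ T)
    (hx : ∀ l ∈ L, x * l = l * x) : x ∈ K := by
  classical
  by_contra hxK
  have hLT := inf_eq_bot hA hT hL hLn hKL hfix
  have := Fintype.ofFinite L
  -- three distinct elements of `L`
  obtain ⟨l₀, l₁, l₂, h01, h02, h12⟩ : ∃ a b c : L, a ≠ b ∧ a ≠ c ∧ b ≠ c := by
    have h : 2 < (Finset.univ : Finset L).card := by
      rw [Finset.card_univ, ← Nat.card_eq_fintype_card, hL]; norm_num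
    obtain ⟨a, -, b, -, c, -, h1, h2, h3⟩ := Finset.two_lt_card_iff.1 h |> fun ⟨a, b, c, ha, hb, hc, h1, h2, h3⟩ =>
      (⟨a, ha, b, hb, c, hc, h1, h2, h3⟩ : ∃ a, a ∈ (Finset.univ : Finset L) ∧ ∃ b, b ∈ (Finset.univ : Finset L) ∧ ∃ c, c ∈ (Finset.univ : Finset L) ∧ a ≠ b ∧ a ≠ c ∧ b ≠ c)
    exact ⟨a, b, c, h1, h2, h3⟩
  have hne : ∀ a b : L, a ≠ b → (a : A)⁻¹ * b ∉ T := by
    intro a b hab h
    have h1 : (a : A)⁻¹ * b ∈ L ⊓ T := ⟨L.mul_mem (L.inv_mem a.2) b.2, h⟩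
    rw [hLT, mem_bot, inv_mul_eq_one] at h1
    exact hab (Subtype.ext h1)
  have hconj : ∀ a : L, (a : A)⁻¹ * x * a ∈ T := by
    intro a
    have h1 : (a : A)⁻¹ * x * a = x := by
      rw [mul_assoc, hx a a.2, inv_mul_cancel_left]
    rw [h1]; exact hxT
  exact not_three hfix hxK (hconj l₀) (hconj l₁) (hconj l₂) (hne _ _ h01) (hne _ _ h02)
    (hne _ _ h12)

set_option maxHeartbeats 1000000 in
/-- No `p` in the centraliser of `L` outside `K L` has its square in `K`. -/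
theorem mem_sup_of_sq_mem (hA : Nat.card A = 64) (hT : Nat.card T = 8)
    (hKT : K ≤ T) (hK : Nat.card K = 4) (hKn : K.Normal)
    (hL : Nat.card L = 4) (hLn : L.Normal) (hKL : K ⊓ L = ⊥)
    (hfix : ∀ x : A, x ∉ K → Nat.card (fixedBy (A ⧸ T) x) ≤ 2) {p : A}
    (hp : ∀ l ∈ L, p * l = l * p) (hp2 : p * p ∈ K) : p ∈ K ⊔ L := by
  classical
  by_contra hpE
  have hLT := inf_eq_bot hA hT hL hLn hKL hfix
  have hcent := fun {x : A} hxT hx => mem_of_centralizer (x := x) hA hT hL hLn hKL hfix hxT hx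
  -- `K` and `L` commute
  have hcomm : ∀ k ∈ K, ∀ l ∈ L, k * l = l * k := fun k hk l hl =>
    (Subgroup.commute_of_normal_of_disjoint K L hKn hLn (disjoint_iff.2 hKL) k l hk hl).eq
  have habel : ∀ H : Subgroup A, Nat.card H = 4 → ∀ a ∈ H, ∀ b ∈ H, a * b = b * a := by
    intro H hH a ha b hb
    have : Fact (Nat.Prime 2) := ⟨Nat.prime_two⟩
    have h1 := IsPGroup.isMulCommutative_of_card_eq_prime_sq (p := 2) (G := H) (by rw [hH]; norm_num)
    exact congrArg Subtype.val (h1.is_comm.comm (⟨a, ha⟩ : H) ⟨b, hb⟩)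
  have hLab := habel L hL
  have hKab := habel K hK
  -- the element `τ`
  obtain ⟨τ, hτT, hτK⟩ : ∃ τ ∈ T, τ ∉ K := by
    by_contra hcon
    push Not at hcon
    have := Subgroup.card_dvd_of_le (show T ≤ K from hcon)
    rw [hT, hK] at this
    revert this; decide
  have hτ2 : τ * τ ∈ K := by
    have h1 : (K.subgroupOf T).index = 2 := by
      have h2 : (K.subgroupOf T).index * Nat.card (K.subgroupOf T) = Nat.card T :=
        index_mul_card _
      rw [Nat.card_congr (subgroupOfEquivOfLe hKT).toEquiv, hT, hK] at h2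
      omega
    exact Subgroup.mem_subgroupOf.1 (Subgroup.mul_self_mem_of_index_two h1 (⟨τ, hτT⟩ : T))
  -- a fixed element of `L`
  have h2A : IsPGroup 2 A := IsPGroup.of_card (n := 6) (by rw [hA]; norm_num)
  have : Fact (Nat.Prime 2) := ⟨Nat.prime_two⟩
  obtain ⟨u, huL, huc, hu1⟩ :=
    Cfsg.Agent.SmallSimple.SylowPrimeCount.exists_mem_center_of_normal h2A L (by
      rintro rfl
      rw [Subgroup.card_bot] at hL
      norm_num at hL)
  have huT : u ∉ T := fun h => hu1 (by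
    have h1 : u ∈ L ⊓ T := ⟨huL, h⟩
    rwa [hLT, mem_bot] at h1)
  -- P1
  have hP1 : ∀ c : A, (∀ l ∈ L, c * l = l * c) → c⁻¹ * τ * c ∈ T → c ∈ K ⊔ L := by
    intro c hc hcT
    by_contra hcE
    refine not_three hfix hτK (g₀ := 1) (g₁ := u) (g₂ := c) (by simpa using hτT) ?_ hcT ?_ ?_ ?_
    · have h1 : u⁻¹ * τ * u = τ := by
        rw [mul_assoc, mem_center_iff.1 huc τ, inv_mul_cancel_left]
      rw [h1]; exact hτT
    · simpa using huT
    · intro h
      rw [inv_one, one_mul] at h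
      exact hcE ((le_sup_left : K ≤ K ⊔ L) (hcent h hc))
    · intro h
      apply hcE
      have h1 : u⁻¹ * c ∈ K := hcent h (by
        intro l hl
        rw [mul_assoc, hc l hl, ← mul_assoc, ← mul_assoc]
        congr 1
        have h2 := hLab u huL l hl
        calc u⁻¹ * l = u⁻¹ * (l * u) * u⁻¹ := by group
          _ = u⁻¹ * (u * l) * u⁻¹ := by rw [h2]
          _ = l * u⁻¹ := by group)
      have h2 : c = u * (u⁻¹ * c) := by group
      rw [h2]
      exact Subgroup.mul_mem _ ((le_sup_right : L ≤ K ⊔ L) huL) ((le_sup_left : K ≤ K ⊔ L) h1)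
  -- orders
  have hE : Nat.card (K ⊔ L : Subgroup A) = 16 := by
    have h1 : K.relIndex (K ⊔ L) = K.relIndex L := relIndex_sup_left L K
    have h2 : K.relIndex L = 4 := by
      rw [← Subgroup.inf_relIndex_right, hKL, relIndex_bot_left, hL]
    have h3 := relIndex_mul_relIndex ⊥ K (K ⊔ L) bot_le le_sup_left
    rw [relIndex_bot_left, relIndex_bot_left, hK, h1, h2] at h3
    exact h3.symm
  have hEn : (K ⊔ L).Normal := inferInstance
  have hmemC : ∀ x : A, x ∈ centralizer (L : Set A) ↔ ∀ l ∈ L, x * l = l * x := by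
    intro x
    rw [mem_centralizer_iff]
    exact ⟨fun h l hl => (h l hl).symm, fun h l hl => (h l hl).symm⟩
  have hEC : K ⊔ L ≤ centralizer (L : Set A) :=
    sup_le (fun k hk => (hmemC k).2 fun l hl => hcomm k hk l hl)
      (fun x hx => (hmemC x).2 fun l hl => hLab x hx l hl)
  have hpC : p ∈ centralizer (L : Set A) := (hmemC p).2 hp
  have hτC : τ ∉ centralizer (L : Set A) := fun h => hτK (hcent hτT ((hmemC τ).1 h))
  have hC32 : Nat.card (centralizer (L : Set A)) = 32 := by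
    have h1 : Nat.card (centralizer (L : Set A)) ∣ 2 ^ 6 := by
      have := (centralizer (L : Set A)).card_subgroup_dvd_card
      rwa [hA] at this
    have h2 : 16 ∣ Nat.card (centralizer (L : Set A)) := hE ▸ card_dvd_of_le hEC
    have h3 : Nat.card (centralizer (L : Set A)) ≠ 64 := by
      intro h
      have := Subgroup.eq_top_of_card_eq (centralizer (L : Set A)) (by rw [h, hA])
      exact hτC (this ▸ mem_top τ)
    have h4 : Nat.card (centralizer (L : Set A)) ≠ 16 := by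
      intro h
      have := Subgroup.eq_of_le_of_card_ge hEC (by rw [hE, h])
      exact hpE (this ▸ hpC)
    obtain ⟨j, hj, hj2⟩ := (Nat.dvd_prime_pow Nat.prime_two).1 h1
    rw [hj2] at h2 h3 h4 ⊢
    have h5 : 4 ≤ j := (Nat.pow_dvd_pow_iff_le_right (x := 2) (by norm_num)).1
      (by rw [show (2 : ℕ) ^ 4 = 16 by norm_num]; exact h2)
    have h6 : j ≠ 6 := by
      rintro rfl
      exact h3 (by norm_num)
    have h7 : j ≠ 4 := by
      rintro rfl
      exact h4 (by norm_num)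
    have h8 : j = 5 := by omega
    rw [h8]; norm_num
  have hidx : ((K ⊔ L).subgroupOf (centralizer (L : Set A))).index = 2 := by
    have h2 : ((K ⊔ L).subgroupOf (centralizer (L : Set A))).index *
        Nat.card ((K ⊔ L).subgroupOf (centralizer (L : Set A))) =
        Nat.card (centralizer (L : Set A)) := index_mul_card _
    rw [Nat.card_congr (subgroupOfEquivOfLe hEC).toEquiv, hE, hC32] at h2
    omega
  have hp'C : τ⁻¹ * p * τ ∈ centralizer (L : Set A) := by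
    rw [hmemC]
    intro l hl
    have h1 := hp (τ * l * τ⁻¹) (hLn.conj_mem l hl τ)
    calc τ⁻¹ * p * τ * l = τ⁻¹ * (p * (τ * l * τ⁻¹)) * τ := by group
      _ = τ⁻¹ * (τ * l * τ⁻¹ * p) * τ := by rw [h1]
      _ = l * (τ⁻¹ * p * τ) := by group
  have hp'E : τ⁻¹ * p * τ ∉ K ⊔ L := by
    intro h
    have h1 := hEn.conj_mem _ h τ
    have h2 : τ * (τ⁻¹ * p * τ) * τ⁻¹ = p := by group
    exact hpE (h2 ▸ h1)
  have he : p⁻¹ * (τ⁻¹ * p * τ) ∈ K ⊔ L := by
    have h6 := (Subgroup.mul_mem_iff_of_index_two hidx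
      (a := (⟨p, hpC⟩ : centralizer (L : Set A))⁻¹)
      (b := (⟨τ⁻¹ * p * τ, hp'C⟩ : centralizer (L : Set A)))).2 (by
        refine iff_of_false (fun h => hpE ?_) (fun h => hp'E (Subgroup.mem_subgroupOf.1 h))
        have := ((K ⊔ L).subgroupOf (centralizer (L : Set A))).inv_mem h
        rw [inv_inv] at this
        exact Subgroup.mem_subgroupOf.1 this)
    exact Subgroup.mem_subgroupOf.1 h6
  obtain ⟨k, hk, l, hl, hkl⟩ := mem_sup_of_normal_left.1 he
  have hp' : τ⁻¹ * p * τ = p * k * l := by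
    rw [mul_assoc p k l, hkl]; group
  have hbot : ∀ x, x ∈ K → x ∈ L → x = 1 := by
    intro x h1 h2
    have h3 : x ∈ K ⊓ L := ⟨h1, h2⟩
    rwa [hKL, mem_bot] at h3
  have hl2 : l * l = 1 := by
    apply hbot _ _ (L.mul_mem hl hl)
    have h1 : (p * k * l) * (p * k * l) ∈ K := by
      rw [← hp']
      have h2 : τ⁻¹ * p * τ * (τ⁻¹ * p * τ) = τ⁻¹ * (p * p) * τ⁻¹⁻¹ := by group
      rw [h2]
      exact hKn.conj_mem _ hp2 _
    have h3 : (p * k * l) * (p * k * l) = (p * p) * (p⁻¹ * k * p⁻¹⁻¹) * k * (l * l) := by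
      calc (p * k * l) * (p * k * l) = p * k * (l * p) * (k * l) := by group
        _ = p * k * (p * l) * (k * l) := by rw [hp l hl]
        _ = p * k * p * (l * k) * l := by group
        _ = p * k * p * (k * l) * l := by rw [hcomm k hk l hl]
        _ = (p * p) * (p⁻¹ * k * p⁻¹⁻¹) * k * (l * l) := by group
    rw [h3] at h1
    exact (K.mul_mem_cancel_left (K.mul_mem (K.mul_mem hp2 (hKn.conj_mem _ hk _)) hk)).1 h1
  have hlτ : τ⁻¹ * l * τ = l := by
    have hl' : τ⁻¹ * l * τ ∈ L := by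
      have := hLn.conj_mem l hl τ⁻¹
      rwa [inv_inv] at this
    have hk' : τ⁻¹ * k * τ ∈ K := by
      have := hKn.conj_mem k hk τ⁻¹
      rwa [inv_inv] at this
    have h1 : τ⁻¹ * (p * k * l) * τ = p * (k * (τ⁻¹ * k * τ)) * (l * (τ⁻¹ * l * τ)) := by
      calc τ⁻¹ * (p * k * l) * τ = (τ⁻¹ * p * τ) * (τ⁻¹ * k * τ) * (τ⁻¹ * l * τ) := by group
        _ = p * k * l * (τ⁻¹ * k * τ) * (τ⁻¹ * l * τ) := by rw [hp']
        _ = p * k * (l * (τ⁻¹ * k * τ)) * (τ⁻¹ * l * τ) := by group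
        _ = p * k * ((τ⁻¹ * k * τ) * l) * (τ⁻¹ * l * τ) := by rw [hcomm _ hk' l hl]
        _ = _ := by group
    have h2 : τ⁻¹ * (p * k * l) * τ =
        p * ((p⁻¹ * (τ * τ)⁻¹ * p⁻¹⁻¹) * (τ * τ)) := by
      rw [← hp']; group
    have h3 : l * (τ⁻¹ * l * τ) ∈ K := by
      have h4 : (k * (τ⁻¹ * k * τ)) * (l * (τ⁻¹ * l * τ)) =
          (p⁻¹ * (τ * τ)⁻¹ * p⁻¹⁻¹) * (τ * τ) := by
        have h5 := h1.symm.trans h2
        rw [mul_assoc] at h5
        exact mul_left_cancel h5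
      have h6 : (k * (τ⁻¹ * k * τ)) * (l * (τ⁻¹ * l * τ)) ∈ K := by
        rw [h4]
        exact K.mul_mem (hKn.conj_mem _ (K.inv_mem hτ2) _) hτ2
      exact (K.mul_mem_cancel_left (K.mul_mem hk hk')).1 h6
    have h7 := hbot _ h3 (L.mul_mem hl hl')
    have h8 : τ⁻¹ * l * τ = l⁻¹ := (inv_eq_of_mul_eq_one_right h7).symm
    rw [h8]
    exact inv_eq_of_mul_eq_one_right hl2
  have hfin : ∀ x : A, (∀ l ∈ L, x * l = l * x) → τ⁻¹ * x * τ = x * k → x ∈ K ⊔ L := by
    intro x hx hxτ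
    apply hP1 x hx
    have h1 : x⁻¹ * τ * x = τ * k⁻¹ := by
      have h2 : x * τ = τ * (x * k) := by rw [← hxτ]; group
      calc x⁻¹ * τ * x = x⁻¹ * (τ * (x * k)) * k⁻¹ := by group
        _ = x⁻¹ * (x * τ) * k⁻¹ := by rw [h2]
        _ = τ * k⁻¹ := by group
    rw [h1]
    exact T.mul_mem hτT (T.inv_mem (hKT hk))
  have hl1 : l ≠ 1 := by
    intro h
    apply hpE
    apply hfin p hp
    rw [hp', h, mul_one]
  obtain ⟨v, hv, hvτ⟩ : ∃ v ∈ L, τ⁻¹ * v * τ ≠ v := by
    by_contra hcon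
    push Not at hcon
    apply hτC
    rw [hmemC]
    intro x hx
    have h1 := hcon x hx
    calc τ * x = τ * (τ⁻¹ * x * τ) := by rw [h1]
      _ = x * τ := by group
  have hv' : τ⁻¹ * v * τ ∈ L := by
    have := hLn.conj_mem v hv τ⁻¹
    rwa [inv_inv] at this
  have hvl : v ≠ l := by
    rintro rfl
    exact hvτ hlτ
  have hv1 : v ≠ 1 := by
    rintro rfl
    apply hvτ
    group
  have hv'1 : τ⁻¹ * v * τ ≠ 1 := by
    intro h
    apply hv1
    calc v = τ * (τ⁻¹ * v * τ) * τ⁻¹ := by group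
      _ = 1 := by rw [h]; group
  have hv'l : τ⁻¹ * v * τ ≠ l := by
    intro h
    apply hvl
    have h1 : τ⁻¹ * v * τ = τ⁻¹ * l * τ := by rw [h, hlτ]
    calc v = τ * (τ⁻¹ * v * τ) * τ⁻¹ := by group
      _ = τ * (τ⁻¹ * l * τ) * τ⁻¹ := by rw [h1]
      _ = l := by group
  have hv'eq : τ⁻¹ * v * τ = v * l := by
    by_contra hne
    have := Fintype.ofFinite L
    have hlinv : l⁻¹ = l := inv_eq_of_mul_eq_one_right hl2
    have n1 : v * l ≠ 1 := fun h => hvl (by
      have : v = l⁻¹ := eq_inv_of_mul_eq_one_left h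
      rw [this, hlinv])
    have n2 : v * l ≠ l := fun h => hv1 (by simpa using h)
    have n3 : v * l ≠ v := fun h => hl1 (by simpa using h)
    let S : Finset L := {1, ⟨l, hl⟩, ⟨v, hv⟩, ⟨v * l, L.mul_mem hv hl⟩, ⟨_, hv'⟩}
    have hS : S.card = 5 := by
      have e1 : ∀ (a b : A) (ha : a ∈ L) (hb : b ∈ L), a ≠ b → (⟨a, ha⟩ : L) ≠ ⟨b, hb⟩ :=
        fun a b _ _ h h' => h (congrArg Subtype.val h')
      rw [Finset.card_insert_of_notMem, Finset.card_insert_of_notMem,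
        Finset.card_insert_of_notMem, Finset.card_insert_of_notMem, Finset.card_singleton]
      · simp only [Finset.mem_singleton]
        exact e1 _ _ _ _ (fun h => hne h.symm)
      · simp only [Finset.mem_insert, Finset.mem_singleton, not_or]
        exact ⟨e1 _ _ _ _ (Ne.symm n3), e1 _ _ _ _ (Ne.symm hvτ)⟩
      · simp only [Finset.mem_insert, Finset.mem_singleton, not_or]
        exact ⟨e1 _ _ _ _ (Ne.symm hvl), e1 _ _ _ _ (Ne.symm n2), e1 _ _ _ _ (Ne.symm hv'l)⟩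
      · simp only [Finset.mem_insert, Finset.mem_singleton, not_or]
        exact ⟨e1 _ _ L.one_mem _ (Ne.symm hl1), e1 _ _ L.one_mem _ (Ne.symm hv1),
          e1 _ _ L.one_mem _ (Ne.symm n1), e1 _ _ L.one_mem _ (Ne.symm hv'1)⟩
    have h1 := Finset.card_le_univ S
    rw [hS, ← Nat.card_eq_fintype_card, hL] at h1
    omega
  apply hpE
  have hpv : p * v ∈ K ⊔ L := by
    apply hfin
    · intro x hx
      rw [mul_assoc, hLab v hv x hx, ← mul_assoc, hp x hx, mul_assoc]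
    · calc τ⁻¹ * (p * v) * τ = (τ⁻¹ * p * τ) * (τ⁻¹ * v * τ) := by group
        _ = p * k * l * (v * l) := by rw [hp', hv'eq]
        _ = p * k * (l * v) * l := by group
        _ = p * k * (v * l) * l := by rw [hLab l hl v hv]
        _ = p * (k * v) * (l * l) := by group
        _ = p * v * k := by rw [hcomm k hk v hv, hl2]; group
  have h1 : p = (p * v) * v⁻¹ := by group
  rw [h1]
  exact Subgroup.mul_mem _ hpv ((le_sup_right : L ≤ K ⊔ L) (L.inv_mem hv))

end

end Cfsg.Agent.M22.TwoGroupRegular
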