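import Cfsg.Agent.M22.SevenEight
import Cfsg.Agent.M22.TwoGroupRegular

/-!
# The case `(e, |K|) = (6, 4)`: 2-elements fix at most two of the eight Sylow 7-subgroups
-/

set_option autoImplicit false

namespace Cfsg.Agent.M22.SixFourFix

open Cfsg Subgroup MulAction
open Cfsg.Agent.SmallSimple Cfsg.Agent.SmallSimple.PrimeLocal
open Cfsg.Agent.M22.SevenEight

universe u

variable {G : Type u} [Group G] [Finite G]

/-- A 2-element of `N(P)` outside `K` whose square is in `K` inverts `P`. -/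
theorem inverts [Fact (Nat.Prime 7)] (P : Sylow 7 G) (hP : Nat.card P = 7)
    {e : ℕ} {K : Subgroup G} (hloc : IsLocal 7 P e K) {y : G}
    (hyN : y ∈ normalizer (P : Set G)) (hyK : y ∉ K) (hy2 : y * y ∈ K)
    (hy7 : ¬ 7 ∣ orderOf y) : ∀ z ∈ (P : Subgroup G), y * z * y⁻¹ = z⁻¹ := by
  intro z hz
  have hP' : Nat.card (P : Subgroup G) = 7 := hP
  have hab := comm_of_card_prime (by norm_num : Nat.Prime 7) (P : Subgroup G) hP'
  have hz' : y * z * y⁻¹ ∈ (P : Subgroup G) := (mem_normalizer_iff.1 hyN z).1 hz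
  have hw : z * (y * z * y⁻¹) ∈ (P : Subgroup G) := mul_mem hz hz'
  have hfixw : y * (z * (y * z * y⁻¹)) * y⁻¹ = z * (y * z * y⁻¹) := by
    have h1 : (y * y) * z = z * (y * y) := hloc.comm _ hy2 z hz
    calc y * (z * (y * z * y⁻¹)) * y⁻¹ = (y * z * y⁻¹) * ((y * y) * z) * (y * y)⁻¹ := by group
      _ = (y * z * y⁻¹) * (z * (y * y)) * (y * y)⁻¹ := by rw [h1]
      _ = (y * z * y⁻¹) * z := by group
      _ = z * (y * z * y⁻¹) := hab _ hz' _ hz
  by_cases hw1 : z * (y * z * y⁻¹) = 1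
  · exact (inv_eq_of_mul_eq_one_right hw1).symm
  · exfalso
    apply hyK
    apply hloc.mem_of_coprime y _ hy7
    rw [mem_centralizer_iff]
    intro v hv
    have h5 : (⟨v, hv⟩ : (P : Subgroup G)) ∈ zpowers (⟨_, hw⟩ : (P : Subgroup G)) :=
      mem_zpowers_of_prime_card hP' (by simpa [Subtype.ext_iff] using hw1)
    obtain ⟨k, hk⟩ := mem_zpowers_iff.1 h5
    have h6 : (z * (y * z * y⁻¹)) ^ k = v := by simpa [Subtype.ext_iff] using hk
    have h7 : Commute (z * (y * z * y⁻¹)) y := by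
      change z * (y * z * y⁻¹) * y = y * (z * (y * z * y⁻¹))
      calc z * (y * z * y⁻¹) * y = (y * (z * (y * z * y⁻¹)) * y⁻¹) * y := by rw [hfixw]
        _ = y * (z * (y * z * y⁻¹)) := by group
    rw [← h6]
    exact (h7.zpow_left k).eq

/-- Elements of `T₂` outside `K` fix at most two cosets. -/
theorem card_fixedBy_le [Fact (Nat.Prime 7)] (P : Sylow 7 G) (hP : Nat.card P = 7)
    {e : ℕ} {K : Subgroup G} (hloc : IsLocal 7 P e K) (hK : Nat.card K = 4)
    (h8 : 8 * Nat.card (normalizer (K : Set G) ⊓ normalizer (P : Set G) : Subgroup G) =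
      Nat.card (normalizer (K : Set G)))
    {T₂ : Subgroup G} (hT₂ : T₂ ≤ normalizer (K : Set G)) (hcard : Nat.card T₂ = 64)
    (hKT₂ : K ≤ T₂)
    (hT : Nat.card ((normalizer (P : Set G)).subgroupOf T₂) = 8) (x : T₂)
    (hx : x ∉ K.subgroupOf T₂) :
    Nat.card (fixedBy (T₂ ⧸ (normalizer (P : Set G)).subgroupOf T₂) x) ≤ 2 := by
  classical
  by_contra hcon
  push Not at hcon
  have hKN : K ≤ normalizer (P : Set G) := hloc.le_centralizer.trans
    (SylowPrimeCount.centralizer_le_normalizer' (P : Subgroup G))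
  have hPM : (P : Subgroup G) ≤ normalizer (K : Set G) :=
    le_trans le_normalizer hloc.normalizer_le
  have := Fintype.ofFinite (fixedBy (T₂ ⧸ (normalizer (P : Set G)).subgroupOf T₂) x)
  rw [Nat.card_eq_fintype_card, ← Finset.card_univ] at hcon
  obtain ⟨⟨ω₀, h₀⟩, ⟨ω₁, h₁⟩, ⟨ω₂, h₂⟩, -, -, -, h01, h02, h12⟩ := Finset.two_lt_card_iff.1 hcon
  rw [mem_fixedBy] at h₀ h₁ h₂
  obtain ⟨g₀, rfl⟩ := QuotientGroup.mk_surjective ω₀
  obtain ⟨g₁, rfl⟩ := QuotientGroup.mk_surjective ω₁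
  obtain ⟨g₂, rfl⟩ := QuotientGroup.mk_surjective ω₂
  have conv : ∀ g : T₂, x • (g : T₂ ⧸ (normalizer (P : Set G)).subgroupOf T₂) = g →
      (g : G)⁻¹ * x * g ∈ normalizer (P : Set G) := by
    intro g hg
    have h1 : ((x * g : T₂) : T₂ ⧸ (normalizer (P : Set G)).subgroupOf T₂) = g := hg
    rw [eq_comm, QuotientGroup.eq] at h1
    have h2 := Subgroup.mem_subgroupOf.1 h1
    have h3 : (g : G)⁻¹ * (x * g) ∈ normalizer (P : Set G) := h2
    rwa [← mul_assoc] at h3
  have hne : ∀ g h : T₂, (g : T₂ ⧸ (normalizer (P : Set G)).subgroupOf T₂) ≠ h →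
      (g : G)⁻¹ * h ∉ normalizer (P : Set G) := by
    intro g h hgh h1
    apply hgh
    rw [QuotientGroup.eq]
    exact Subgroup.mem_subgroupOf.2 h1
  have n01 := hne g₀ g₁ (fun h => h01 (Subtype.ext h))
  have n02 := hne g₀ g₂ (fun h => h02 (Subtype.ext h))
  have n12 := hne g₁ g₂ (fun h => h12 (Subtype.ext h))
  have c0 := conv g₀ h₀
  have c1 := conv g₁ h₁
  have c2 := conv g₂ h₂
  -- normalise to the base point
  set y : G := (g₀ : G)⁻¹ * x * g₀ with hy
  set a : G := (g₀ : G)⁻¹ * g₁ with ha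
  set b : G := (g₀ : G)⁻¹ * g₂ with hb
  have hyT : y ∈ T₂ := mul_mem (mul_mem (inv_mem g₀.2) x.2) g₀.2
  have haT : a ∈ T₂ := mul_mem (inv_mem g₀.2) g₁.2
  have hbT : b ∈ T₂ := mul_mem (inv_mem g₀.2) g₂.2
  have hya : a⁻¹ * y * a ∈ normalizer (P : Set G) := by
    have : a⁻¹ * y * a = (g₁ : G)⁻¹ * x * g₁ := by rw [ha, hy]; group
    rw [this]; exact c1
  have hyb : b⁻¹ * y * b ∈ normalizer (P : Set G) := by
    have : b⁻¹ * y * b = (g₂ : G)⁻¹ * x * g₂ := by rw [hb, hy]; group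
    rw [this]; exact c2
  have hab : a⁻¹ * b ∉ normalizer (P : Set G) := by
    have : a⁻¹ * b = (g₁ : G)⁻¹ * g₂ := by rw [ha, hb]; group
    rw [this]; exact n12
  have hyK : y ∉ K := by
    intro h
    apply hx
    rw [Subgroup.mem_subgroupOf]
    have h1 : (x : G) = g₀ * y * (g₀ : G)⁻¹ := by rw [hy]; group
    rw [h1]
    exact (mem_normalizer_iff.1 (hT₂ g₀.2) y).1 h
  -- `y²∈ K`
  have hy2 : y * y ∈ K := by
    let T : Subgroup G := T₂ ⊓ normalizer (P : Set G)
    have hT8 : Nat.card T = 8 := by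
      rw [← hT]
      have h3 : (normalizer (P : Set G)).subgroupOf T₂ = T.subgroupOf T₂ := by
        rw [Subgroup.inf_subgroupOf_left]
      rw [h3]
      exact (Nat.card_congr (subgroupOfEquivOfLe inf_le_left).toEquiv).symm
    exact SevenTools.sq_mem_of_card (T := K) (R := T) (le_inf hKT₂ hKN) (by rw [hT8, hK])
      ⟨hyT, c0⟩
  have hy7 : ¬ 7 ∣ orderOf y := by
    intro h
    have h1 : orderOf (⟨y, hyT⟩ : T₂) ∣ 64 := hcard ▸ orderOf_dvd_natCard _
    rw [Subgroup.orderOf_mk] at h1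
    have := h.trans h1
    revert this; decide
  have hinv := inverts P hP hloc c0 hyK hy2 hy7
  obtain ⟨z, hz, hzn⟩ := exists_trans P hP hPM h8 (hT₂ haT) (hT₂ hbT) n01 n02
  -- work with cosets
  let N := normalizer (P : Set G)
  let ωa : G ⧸ N := (a : G)
  let ωb : G ⧸ N := (b : G)
  have e1 : y • ωa = ωa := by
    change ((y * a : G) : G ⧸ N) = (a : G)
    rw [eq_comm, QuotientGroup.eq, ← mul_assoc]; exact hya
  have e2 : y • ωb = ωb := by
    change ((y * b : G) : G ⧸ N) = (b : G)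
    rw [eq_comm, QuotientGroup.eq, ← mul_assoc]; exact hyb
  have e3 : z • ωa = ωb := by
    change ((z * a : G) : G ⧸ N) = (b : G)
    rw [eq_comm, QuotientGroup.eq, ← mul_assoc]; exact hzn
  have e4 : z⁻¹ • ωa = z • ωa := by
    have h1 : y * z = z⁻¹ * y := by
      have := hinv z hz
      calc y * z = (y * z * y⁻¹) * y := by group
        _ = z⁻¹ * y := by rw [this]
    calc z⁻¹ • ωa = z⁻¹ • y • ωa := by rw [e1]
      _ = (z⁻¹ * y) • ωa := (mul_smul _ _ _).symm
      _ = (y * z) • ωa := by rw [h1]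
      _ = y • z • ωa := mul_smul _ _ _
      _ = z • ωa := by rw [e3, e2]
  have e5 : (z * z) • ωa = ωa := by
    rw [mul_smul, ← e4, smul_inv_smul]
  have hzz : z * z = 1 := by
    by_contra hne'
    apply n01
    refine mem_normalizer_of_conj P hP (z := z * z) (mul_mem hz hz) hne' ?_
    have h5 : ((z * z * a : G) : G ⧸ N) = (a : G) := e5
    rw [eq_comm, QuotientGroup.eq, ← mul_assoc] at h5
    exact h5
  have hz1 : z = 1 := by
    have h6 : orderOf z ∣ 7 := orderOf_dvd_of_pow_eq_one (pow_seven P hP hz)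
    have h7 : orderOf z ∣ 2 := orderOf_dvd_of_pow_eq_one (by rw [pow_two]; exact hzz)
    exact orderOf_eq_one_iff.1 (Nat.eq_one_of_dvd_coprimes (by norm_num) h6 h7)
  rw [hz1, one_smul] at e3
  apply hab
  have h5 : ((a : G) : G ⧸ N) = (b : G) := e3
  exact QuotientGroup.eq.1 h5

end Cfsg.Agent.M22.SixFourFix
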