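import Cfsg.Agent.M22.Crit168
import Cfsg.Agent.SmallSimple.Simple168Classes
import Cfsg.Agent.SmallSimple.Simple168Klein

/-!
# Central extensions of a simple group of order 168 by a group of order 4
-/

set_option autoImplicit false

namespace Cfsg.Agent.M22.SixFourQuot

open Cfsg Subgroup
open Cfsg.Agent.SmallSimple

universe u

/-- Every subgroup of order four of a Sylow 2-subgroup of a simple group of order 168
misses a conjugate of every involution. -/
theorem exists_conj_not_mem {X : Type u} [Group X] [Finite X] [IsSimpleGroup X]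
    (h : Nat.card X = 168) (S E : Subgroup X) (hS : Nat.card S = 8)
    (hE : Nat.card E = 4) {a : X} (ha : orderOf a = 2) :
    ∃ g : X, g * a * g⁻¹ ∈ S ∧ g * a * g⁻¹ ∉ E := by
  classical
  obtain ⟨T, hT⟩ := Simple168Classes.exists_sylow_of_card_eight h S hS
  obtain ⟨φ⟩ := Simple168Classes.sylow_two_dihedral h T
  -- there are five involutions in `S`
  have h5 : ∃ b ∈ S, orderOf b = 2 ∧ b ∉ E := by
    by_contra hcon
    push Not at hcon
    have hsub : ∀ x : DihedralGroup 4, x * x = 1 → ((φ.symm x : (T : Subgroup X)) : X) ∈ E := by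
      intro x hx
      by_cases hx1 : x = 1
      · rw [hx1, map_one]; exact E.one_mem
      · apply hcon
        · rw [← hT]; exact (φ.symm x).2
        · rw [Subgroup.orderOf_coe]
          have h2 : orderOf (φ.symm x) = orderOf x := φ.symm.orderOf_eq x
          rw [h2]
          exact orderOf_eq_prime (by rw [pow_two]; exact hx) hx1
    let f : {x : DihedralGroup 4 // x * x = 1} → E := fun x => ⟨_, hsub x.1 x.2⟩
    have hf : Function.Injective f := by
      intro x y hxy
      have h1 : ((φ.symm x.1 : (T : Subgroup X)) : X) = ((φ.symm y.1 : (T : Subgroup X)) : X) :=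
        congrArg (fun e : E => (e : X)) hxy
      exact Subtype.ext (φ.symm.injective (Subtype.coe_injective h1))
    have h6 := Nat.card_le_card_of_injective f hf
    rw [hE] at h6
    have h7 : Nat.card {x : DihedralGroup 4 // x * x = 1} = 6 := by
      rw [Nat.card_eq_fintype_card, Fintype.card_subtype]
      decide
    omega
  obtain ⟨b, hbS, hb2, hbE⟩ := h5
  obtain ⟨g, hg⟩ := isConj_iff.1 (Simple168Classes.isConj_of_orderOf_two h a b ha hb2)
  exact ⟨g, by rw [hg]; exact hbS, by rw [hg]; exact hbE⟩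

variable {C : Type u} [Group C] [Finite C]

/-- The quotient of `C` by `Z`. -/
theorem isSimple_quotient (Z : Subgroup C) [Z.Normal]
    (hZ : ∀ k ∈ Z, ∀ x : C, k * x = x * k) (hZ4 : Nat.card Z = 4) [Fact (Nat.Prime 7)]
    (P : Sylow 7 C) (hP : Nat.card (P : Subgroup C) = 7)
    (hCP : ∀ x ∈ centralizer ((P : Subgroup C) : Set C), ∃ y ∈ (P : Subgroup C), ∃ k ∈ Z,
      x = y * k)
    (hcard : Nat.card C = 672) (hPn : ¬ (P : Subgroup C).Normal)
    (hD : ∀ D : Subgroup C, Nat.card D = 32 → ¬ D.Normal) : IsSimpleGroup (C ⧸ Z) := by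
  classical
  have hidx : Nat.card (C ⧸ Z) * Nat.card Z = Nat.card C :=
    (Z.card_eq_card_quotient_mul_card_subgroup).symm
  have h168 : Nat.card (C ⧸ Z) = 168 := by
    rw [hZ4, hcard] at hidx
    omega
  have hsurj : Function.Surjective (QuotientGroup.mk' Z) := QuotientGroup.mk'_surjective Z
  have hp7 : ∀ z ∈ (P : Subgroup C), z ^ 7 = 1 := by
    intro z hz
    have h1 : (⟨z, hz⟩ : (P : Subgroup C)) ^ Nat.card (P : Subgroup C) = 1 := pow_card_eq_one'
    rw [hP] at h1
    exact congrArg Subtype.val h1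
  have hk4 : ∀ k ∈ Z, k ^ 4 = 1 := by
    intro z hz
    have h1 : (⟨z, hz⟩ : Z) ^ 4 = 1 := by rw [← hZ4]; exact pow_card_eq_one'
    exact congrArg Subtype.val h1
  apply Crit168.isSimple_of_card h168
  · -- centralizers
    -- the image of `P`
    have key : centralizer ((P.mapSurjective hsurj : Subgroup (C ⧸ Z)) : Set (C ⧸ Z)) ≤
        (P.mapSurjective hsurj : Subgroup (C ⧸ Z)) := by
      intro x hx
      obtain ⟨x, rfl⟩ := hsurj x
      rw [Sylow.coe_mapSurjective]
      have h1 : x ∈ centralizer ((P : Subgroup C) : Set C) := by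
        rw [mem_centralizer_iff]
        intro z hz
        have hz' : z ∈ (P : Subgroup C) := hz
        have h2 : (QuotientGroup.mk' Z) z * (QuotientGroup.mk' Z) x =
            (QuotientGroup.mk' Z) x * (QuotientGroup.mk' Z) z := by
          refine mem_centralizer_iff.1 hx _ ?_
          rw [Sylow.coe_mapSurjective]
          exact ⟨z, hz, rfl⟩
        rw [← map_mul, ← map_mul] at h2
        have h3 : (z * x)⁻¹ * (x * z) ∈ Z := QuotientGroup.eq.1 h2
        -- `x z = z x k`
        obtain ⟨k, hk⟩ : ∃ k, k = (z * x)⁻¹ * (x * z) := ⟨_, rfl⟩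
        rw [← hk] at h3
        have h4 : x * z * x⁻¹ = z * k := by
          rw [hk]
          have h5 : z * x * k = x * z := by rw [hk]; group
          have h6 : z * x * k = z * k * x := by
            rw [mul_assoc, ← hZ k h3 x, ← mul_assoc]
          rw [← hk, ← h5, h6]; group
        have h5 : (z * k) ^ 7 = 1 := by
          rw [← h4, conj_pow, hp7 z hz']
          group
        have hcomm : Commute z k := (hZ k h3 z).symm
        rw [hcomm.mul_pow, hp7 z hz', one_mul] at h5
        have h6 : k = 1 := by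
          have h7 : orderOf k ∣ 7 := orderOf_dvd_of_pow_eq_one h5
          have h8 : orderOf k ∣ 4 := orderOf_dvd_of_pow_eq_one (hk4 k h3)
          exact orderOf_eq_one_iff.1 (Nat.eq_one_of_dvd_coprimes (by norm_num) h7 h8)
        rw [h6, mul_one] at h4
        calc z * x = x * z * x⁻¹ * x := by rw [h4]
          _ = x * z := by group
      obtain ⟨y, hy, k, hk, rfl⟩ := hCP x h1
      refine ⟨y, hy, ?_⟩
      have h2 : (QuotientGroup.mk' Z) k = 1 := (QuotientGroup.eq_one_iff k).2 hk
      rw [map_mul, h2, mul_one]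
    have key2 : ∀ x ∈ (P.mapSurjective hsurj : Subgroup (C ⧸ Z)),
        x ∈ centralizer ((P.mapSurjective hsurj : Subgroup (C ⧸ Z)) : Set (C ⧸ Z)) := by
      have hcyc : ∀ y ∈ (P : Subgroup C), ∀ z ∈ (P : Subgroup C), y * z = z * y := by
        intro y hy z hz
        have : IsCyclic (P : Subgroup C) := isCyclic_of_prime_card hP
        have h1 : IsMulCommutative (P : Subgroup C) := inferInstance
        exact congrArg Subtype.val (h1.is_comm.comm ⟨y, hy⟩ ⟨z, hz⟩)
      intro x hx
      rw [Sylow.coe_mapSurjective] at hx ⊢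
      obtain ⟨y, hy, rfl⟩ := hx
      rw [mem_centralizer_iff]
      rintro _ ⟨z, hz, rfl⟩
      rw [← map_mul, ← map_mul, hcyc z hz y hy]
    intro Q
    obtain ⟨g, hg⟩ := MulAction.exists_smul_eq (C ⧸ Z) (P.mapSurjective hsurj) Q
    have hQ : ∀ x, x ∈ (Q : Subgroup (C ⧸ Z)) ↔
        g⁻¹ * x * g ∈ (P.mapSurjective hsurj : Subgroup (C ⧸ Z)) := by
      intro x
      rw [← hg, Sylow.coe_subgroup_smul, Subgroup.mem_pointwise_smul_iff_inv_smul_mem]
      simp
    apply le_antisymm
    · intro x hx
      rw [hQ]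
      apply key
      rw [mem_centralizer_iff] at hx ⊢
      intro z hz
      have h1 := hx (g * z * g⁻¹) ((hQ _).2 (by
        have : g⁻¹ * (g * z * g⁻¹) * g = z := by group
        rw [this]; exact hz))
      calc z * (g⁻¹ * x * g) = g⁻¹ * ((g * z * g⁻¹) * x) * g := by group
        _ = g⁻¹ * (x * (g * z * g⁻¹)) * g := by rw [h1]
        _ = g⁻¹ * x * g * z := by group
    · intro x hx
      have h1 := key2 _ ((hQ x).1 hx)
      rw [mem_centralizer_iff] at h1 ⊢
      intro z hz
      have h2 := h1 (g⁻¹ * z * g) ((hQ z).1 hz)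
      calc z * x = g * ((g⁻¹ * z * g) * (g⁻¹ * x * g)) * g⁻¹ := by group
        _ = g * ((g⁻¹ * x * g) * (g⁻¹ * z * g)) * g⁻¹ := by rw [h2]
        _ = x * z := by group
  · -- more than one Sylow 7-subgroup
    intro h1
    apply hPn
    have hfin : Finite (C ⧸ Z) := inferInstance
    have hn : (P.mapSurjective hsurj : Subgroup (C ⧸ Z)).Normal := by
      have : Subsingleton (Sylow 7 (C ⧸ Z)) := (Nat.card_eq_one_iff_unique.1 h1).1
      exact Sylow.normal_of_subsingleton _
    rw [Sylow.coe_mapSurjective] at hn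
    refine ⟨fun z hz x => ?_⟩
    have h2 : (QuotientGroup.mk' Z) (x * z * x⁻¹) ∈
        (P : Subgroup C).map (QuotientGroup.mk' Z) := by
      rw [map_mul, map_mul, map_inv]
      exact hn.conj_mem _ ⟨z, hz, rfl⟩ _
    obtain ⟨y, hy, hyx⟩ := h2
    have h3 : y⁻¹ * (x * z * x⁻¹) ∈ Z := QuotientGroup.eq.1 hyx
    obtain ⟨k, hk⟩ : ∃ k, k = y⁻¹ * (x * z * x⁻¹) := ⟨_, rfl⟩
    rw [← hk] at h3
    have h4 : x * z * x⁻¹ = y * k := by rw [hk]; group
    have h5 : (y * k) ^ 7 = 1 := by
      rw [← h4, conj_pow, hp7 z hz]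
      group
    have hcomm : Commute y k := (hZ k h3 y).symm
    rw [hcomm.mul_pow, hp7 y hy, one_mul] at h5
    have h6 : k = 1 := by
      have h7 : orderOf k ∣ 7 := orderOf_dvd_of_pow_eq_one h5
      have h8 : orderOf k ∣ 4 := orderOf_dvd_of_pow_eq_one (hk4 k h3)
      exact orderOf_eq_one_iff.1 (Nat.eq_one_of_dvd_coprimes (by norm_num) h7 h8)
    rw [h4, h6, mul_one]
    exact hy
  · intro T hT hTn
    refine hD (T.comap (QuotientGroup.mk' Z)) ?_ inferInstance
    have h1 : (T.comap (QuotientGroup.mk' Z)).index = T.index :=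
      Subgroup.index_comap_of_surjective T hsurj
    have h2 := T.card_mul_index
    have h3 := (T.comap (QuotientGroup.mk' Z)).card_mul_index
    rw [hT, h168] at h2
    rw [h1, hcard] at h3
    have h4 : T.index = 21 := by omega
    rw [h4] at h3
    omega

end Cfsg.Agent.M22.SixFourQuot
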